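import Cfsg.Prelude.Def_Solvable
import Cfsg.Agent.Lib.Frobenius.Basic
import Cfsg.Agent.S0042
import Cfsg.Agent.S0046
import Cfsg.Agent.S0205

/-!
# Minimal non-CA groups: bad elements

`x` is bad when it is noncentral with nonabelian centraliser.  In a nonsolvable group all of whose proper
subgroups are CA, the centraliser of a bad element is maximal, not normal, and the normal closure of a bad
element is the whole group.
-/

set_option autoImplicit false
set_option linter.unusedSectionVars false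
set_option linter.style.haveILetI false

namespace Cfsg.Agent.MinNonCA

open Subgroup
open scoped commutatorElement

variable {G : Type*} [Group G]

/-- The centraliser of an element. -/
abbrev Cn (x : G) : Subgroup G := centralizer ({x} : Set G)

theorem mem_Cn {x y : G} : y ∈ Cn x ↔ Commute x y :=
  mem_centralizer_singleton_iff.trans ⟨fun h => h.symm, fun h => h.symm⟩

theorem commute_conj_iff {g a b : G} : Commute (g * a * g⁻¹) (g * b * g⁻¹) ↔ Commute a b :=
  SemiconjBy.conj_iff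

/-- Noncentral with nonabelian centraliser. -/
def Bad (x : G) : Prop :=
  x ∉ center G ∧ ∃ a b : G, Commute x a ∧ Commute x b ∧ ¬ Commute a b

/-- Not solvable and all proper subgroups are CA. -/
structure Hyp (G : Type*) [Group G] : Prop where
  notSolvable : ¬ Group.IsSolvable G
  proper : ∀ H : Subgroup G, H ≠ ⊤ → ∀ x ∈ H, ∀ a ∈ H, ∀ b ∈ H, Commute x a → Commute x b →
    ¬ Commute a b → ∀ y ∈ H, Commute x y

theorem Bad.conj {x : G} (h : Bad x) (g : G) : Bad (g * x * g⁻¹) := by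
  obtain ⟨hx, a, b, ha, hb, hab⟩ := h
  refine ⟨fun hc => hx ?_, g * a * g⁻¹, g * b * g⁻¹, commute_conj_iff.2 ha, commute_conj_iff.2 hb,
    fun e => hab (commute_conj_iff.1 e)⟩
  have := (inferInstance : (center G).Normal).conj_mem _ hc g⁻¹
  simpa [mul_assoc] using this

theorem Bad.ne_top {x : G} (h : Bad x) : Cn x ≠ ⊤ := fun e => h.1 (mem_center_iff.2 fun y =>
  ((mem_Cn.1 (e ▸ mem_top y : y ∈ Cn x)).eq).symm)

theorem Bad.exists_mem {x : G} (h : Bad x) : ∃ a ∈ Cn x, ∃ b ∈ Cn x, ¬ Commute a b :=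
  ⟨h.2.choose, mem_Cn.2 h.2.choose_spec.choose_spec.1, h.2.choose_spec.choose,
    mem_Cn.2 h.2.choose_spec.choose_spec.2.1, h.2.choose_spec.choose_spec.2.2⟩

section Frob

variable [Finite G]

/-- The Frobenius kernel as a nilpotent normal complement. -/
theorem exists_kernel {H : Subgroup G} (hH : IsFrobeniusComplement H) :
    ∃ N : Subgroup G, N.Normal ∧ Group.IsNilpotent N ∧ IsComplement' N H ∧
      ∀ x, x ∈ N ↔ x ∈ frobeniusKernel H := by
  obtain ⟨N, hN, hn, hnil⟩ := S0042.result H hH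
  have hmem : ∀ x, x ∈ N ↔ x ∈ frobeniusKernel H := fun x => by rw [← hN]; rfl
  have hcard : Nat.card N = H.index := by
    rw [← Frobenius.card_kernel hH, ← hN]; rfl
  refine ⟨N, hn, hnil, isComplement'_of_card_mul_and_disjoint (by rw [hcard, mul_comm, card_mul_index]) ?_,
    hmem⟩
  rw [disjoint_def]
  intro x hxN hxH
  by_contra hx
  exact (Frobenius.mem_kernel_iff hx).1 ((hmem x).1 hxN) 1 (by simpa using hxH)

theorem isFrobeniusComplement_map {N A : Subgroup G} [N.Normal] (hNA : N ≤ A) (hne : ¬ A ≤ N)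
    (hA : A ≠ ⊤) (hTI : ∀ g ∉ A, ∀ a ∈ A, g * a * g⁻¹ ∈ A → a ∈ N) :
    IsFrobeniusComplement (A.map (QuotientGroup.mk' N)) := by
  have hback : ∀ {y : G}, QuotientGroup.mk' N y ∈ A.map (QuotientGroup.mk' N) → y ∈ A := fun {y} hy => by
    have : y ∈ (A.map (QuotientGroup.mk' N)).comap (QuotientGroup.mk' N) := hy
    rwa [comap_map_eq_self (by rwa [QuotientGroup.ker_mk'])] at this
  refine ⟨fun e => hne fun a ha => ?_, fun e => hA (eq_top_iff.2 fun y _ => hback (by rw [e]; trivial)),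
    fun g hg => (eq_bot_iff_forall _).2 fun z hz => ?_⟩
  · exact (QuotientGroup.eq_one_iff a).1 (mem_bot.1 (e ▸ mem_map_of_mem _ ha))
  obtain ⟨h1, h2⟩ := mem_inf.1 hz
  obtain ⟨g, rfl⟩ := QuotientGroup.mk'_surjective N g
  obtain ⟨a, rfl⟩ := QuotientGroup.mk'_surjective N z
  rw [Coprime.mem_conj_smul_iff] at h2
  have h3 : g⁻¹ * a * g ∈ A := hback (by rwa [map_mul, map_mul, map_inv])
  refine (QuotientGroup.eq_one_iff a).2 ?_
  exact hTI g⁻¹ (fun h => hg (mem_map_of_mem _ (inv_mem_iff.1 h))) a (hback h1) (by rwa [inv_inv])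

theorem isSolvable_of_normal_map {N K : Subgroup G} [N.Normal] (hN : Group.IsSolvable N)
    (hK : Group.IsSolvable (K.map (QuotientGroup.mk' N))) (hNK : N ≤ K) : Group.IsSolvable K := by
  haveI := hN
  haveI := hK
  refine Group.isSolvable_of_ker_le_range (Subgroup.inclusion hNK)
    ((QuotientGroup.mk' N).subgroupMap K) ?_
  intro k hk
  exact ⟨⟨k, (QuotientGroup.eq_one_iff _).1 (congrArg Subtype.val (MonoidHom.mem_ker.1 hk))⟩, rfl⟩

/-- The kernel above a normal solvable subgroup, for a complement that is TI modulo it. -/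
theorem exists_kernel_mod {N A : Subgroup G} [N.Normal] (hN : Group.IsSolvable N) (hNA : N ≤ A)
    (hne : ¬ A ≤ N) (hA : A ≠ ⊤) (hTI : ∀ g ∉ A, ∀ a ∈ A, g * a * g⁻¹ ∈ A → a ∈ N) :
    ∃ K : Subgroup G, K.Normal ∧ Group.IsSolvable K ∧ N ≤ K ∧ K ⊔ A = ⊤ ∧ K ⊓ A = N ∧
      ∀ k, k ∈ K ↔ k ∈ N ∨ ∀ g : G, g * k * g⁻¹ ∉ A := by
  set π := QuotientGroup.mk' N with hπ
  have hker : π.ker = N := QuotientGroup.ker_mk' N
  have hF := isFrobeniusComplement_map hNA hne hA hTI
  obtain ⟨Q, hQ, hQnil, hc, hmem⟩ := exists_kernel hF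
  haveI := hQ
  have hAK : ∀ {y : G}, π y ∈ A.map π → y ∈ A := fun {y} hy => by
    have : y ∈ (A.map π).comap π := hy
    rwa [comap_map_eq_self (by rwa [hker])] at this
  have hNK : N ≤ Q.comap π := fun n hn => by
    rw [mem_comap, show π n = 1 from (QuotientGroup.eq_one_iff n).2 hn]; exact one_mem _
  have hmap : (Q.comap π).map π = Q := map_comap_eq_self_of_surjective (QuotientGroup.mk'_surjective N) Q
  refine ⟨Q.comap π, inferInstance, isSolvable_of_normal_map hN ?_ hNK, hNK, ?_, ?_, fun k => ?_⟩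
  · rw [hmap]
    haveI := hQnil
    infer_instance
  · have h1 : ((Q.comap π) ⊔ A).map π = ⊤ := by
      rw [Subgroup.map_sup, hmap]; exact hc.sup_eq_top
    rw [← comap_map_eq_self (H := Q.comap π ⊔ A) (by rw [hker]; exact le_sup_of_le_right hNA), h1,
      comap_top]
  · refine le_antisymm (fun k hk => ?_) (le_inf hNK hNA)
    exact (QuotientGroup.eq_one_iff k).1
      (disjoint_def.1 hc.disjoint hk.1 (mem_map_of_mem π hk.2))
  · rw [mem_comap, hmem]
    rcases eq_or_ne (π k) 1 with e | e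
    · exact iff_of_true (e ▸ Frobenius.one_mem_kernel) (Or.inl ((QuotientGroup.eq_one_iff k).1 e))
    rw [Frobenius.mem_kernel_iff e]
    constructor
    · refine fun h => Or.inr fun g hg => h (π g⁻¹) ?_
      rw [← map_inv, inv_inv, ← map_mul, ← map_mul]
      exact mem_map_of_mem π hg
    · rintro (h | h) q hq
      · exact e ((QuotientGroup.eq_one_iff k).2 h)
      obtain ⟨g, rfl⟩ := QuotientGroup.mk'_surjective N q
      refine h g⁻¹ (hAK ?_)
      rwa [inv_inv, map_mul, map_mul, map_inv]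

/-- A quotient in which all proper subgroups are abelian is solvable. -/
theorem isSolvable_quotient_of_proper (N : Subgroup G) [N.Normal]
    (h : ∀ H : Subgroup G, N ≤ H → H ≠ ⊤ → ∀ a ∈ H, ∀ b ∈ H, ⁅a, b⁆ ∈ N) :
    Group.IsSolvable (G ⧸ N) := by
  refine S0046.result fun M hM => ?_
  have hne : M.comap (QuotientGroup.mk' N) ≠ ⊤ := fun e => hM.1 (by
    rw [← map_comap_eq_self_of_surjective (QuotientGroup.mk'_surjective N) M, e,
      map_top_of_surjective _ (QuotientGroup.mk'_surjective N)])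
  have hNM : N ≤ M.comap (QuotientGroup.mk' N) := fun n hn => by
    rw [mem_comap, show QuotientGroup.mk' N n = 1 from (QuotientGroup.eq_one_iff n).2 hn]
    exact one_mem _
  haveI : IsMulCommutative M := ⟨⟨by
    rintro ⟨p, hp⟩ ⟨q, hq⟩
    obtain ⟨a, rfl⟩ := QuotientGroup.mk'_surjective N p
    obtain ⟨b, rfl⟩ := QuotientGroup.mk'_surjective N q
    refine Subtype.ext ?_
    show QuotientGroup.mk' N a * QuotientGroup.mk' N b = QuotientGroup.mk' N b * QuotientGroup.mk' N a
    have := (QuotientGroup.eq_one_iff _).2 (h _ hNM hne a hp b hq)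
    rw [← commutatorElement_eq_one_iff_mul_comm, ← map_commutatorElement]
    exact this⟩⟩
  letI : CommGroup M := { (inferInstance : Group M) with mul_comm := fun a b => mul_comm' a b }
  infer_instance

end Frob

namespace Hyp

variable [Finite G] (h : Hyp G)

include h

theorem le_Cn {H : Subgroup G} (hH : H ≠ ⊤) {x a b : G} (hx : x ∈ H) (ha : a ∈ H) (hb : b ∈ H)
    (hxa : Commute x a) (hxb : Commute x b) (hab : ¬ Commute a b) : H ≤ Cn x := fun y hy =>
  mem_Cn.2 (h.proper H hH x hx a ha b hb hxa hxb hab y hy)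

theorem le_Cn_of_le {x : G} (hb : Bad x) {H : Subgroup G} (hH : H ≠ ⊤) (hle : Cn x ≤ H) :
    H ≤ Cn x := by
  obtain ⟨a, ha, b, hb', hab⟩ := hb.exists_mem
  exact h.le_Cn hH (hle (mem_Cn.2 (Commute.refl x))) (hle ha) (hle hb') (mem_Cn.1 ha) (mem_Cn.1 hb') hab

theorem isCoatom {x : G} (hb : Bad x) : IsCoatom (Cn x) :=
  ⟨hb.ne_top, fun _ hlt => by_contra fun hH => hlt.not_ge (h.le_Cn_of_le hb hH hlt.le)⟩

theorem Cn_eq_of_le {x y : G} (hb : Bad x) (hy : y ∉ center G) (hle : Cn x ≤ Cn y) :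
    Cn y = Cn x ∧ Bad y := by
  obtain ⟨a, ha, b, hb', hab⟩ := hb.exists_mem
  have hB : Bad y := ⟨hy, a, b, mem_Cn.1 (hle ha), mem_Cn.1 (hle hb'), hab⟩
  exact ⟨le_antisymm (h.le_Cn_of_le hb hB.ne_top hle) hle, hB⟩

/-- Two bad elements with a noncommuting pair centralising both have the same centraliser. -/
theorem Cn_eq_of_common {x y a b : G} (hx : Bad x) (hy : Bad y) (hxy : Commute x y)
    (hxa : Commute x a) (hxb : Commute x b) (hya : Commute y a) (hyb : Commute y b)
    (hab : ¬ Commute a b) : Cn x = Cn y := by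
  have h1 : Cn x ≤ Cn y := h.le_Cn hx.ne_top (mem_Cn.2 hxy) (mem_Cn.2 hxa) (mem_Cn.2 hxb) hya hyb hab
  exact (h.Cn_eq_of_le hx hy.1 h1).1.symm

/-- A bad element may be chosen with a prime power of it central. -/
theorem exists_prime_pow_mem {x : G} (hb : Bad x) :
    ∃ (r : ℕ) (y : G), r.Prime ∧ Bad y ∧ Cn y = Cn x ∧ y ∈ zpowers x ∧ y ^ r ∈ center G := by
  induction hn : orderOf x using Nat.strong_induction_on generalizing x with
  | _ n ih =>
    subst hn
    have h1 : orderOf x ≠ 1 := fun e => hb.1 (by rw [orderOf_eq_one_iff.1 e]; exact one_mem _)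
    obtain ⟨r, hr, hdvd⟩ := Nat.exists_prime_and_dvd h1
    by_cases hc : x ^ r ∈ center G
    · exact ⟨r, x, hr, hb, rfl, mem_zpowers x, hc⟩
    obtain ⟨heq, hB⟩ := h.Cn_eq_of_le hb hc fun y hy => mem_Cn.2 ((mem_Cn.1 hy).pow_left r)
    have hlt : orderOf (x ^ r) < orderOf x := by
      rw [orderOf_pow_of_dvd hr.ne_zero hdvd]
      exact Nat.div_lt_self (orderOf_pos x) hr.one_lt
    obtain ⟨q, y, hq, hy, hyx, hmem, hy2⟩ := ih _ hlt hB rfl
    exact ⟨q, y, hq, hy, hyx.trans heq,
      zpowers_le.2 (Subgroup.npow_mem_zpowers x r) hmem, hy2⟩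

/-- The centraliser of a bad element is not normal. -/
theorem not_normal {x : G} (hb : Bad x) : ¬ (Cn x).Normal := by
  intro hn
  haveI : Fact (Nat.Prime 2) := ⟨Nat.prime_two⟩
  have hC : ¬ Group.IsSolvable (Cn x) := fun hs => h.notSolvable <| by
    haveI := hs
    haveI : Group.IsSolvable (G ⧸ Cn x) := isSolvable_quotient_of_proper (Cn x) fun H hle hH a ha b hb' => by
      have hHC := h.le_Cn_of_le hb hH hle
      exact mul_mem (mul_mem (mul_mem (hHC ha) (hHC hb')) (inv_mem (hHC ha))) (inv_mem (hHC hb'))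
    exact (Group.isSolvable_iff_subgroup_quotient (Cn x)).2 ⟨hs, inferInstance⟩
  obtain ⟨Q⟩ : Nonempty (Sylow 2 (Cn x)) := inferInstance
  have hF := Sylow.normalizer_sup_eq_top (N := Cn x) Q
  set Q' := (Q : Subgroup (Cn x)).map (Cn x).subtype
  set N := normalizer (Q' : Set G)
  have hxN : x ∈ N := mem_normalizer_iff.2 fun q => by
    constructor
    · intro hq
      rwa [(mem_Cn.1 (map_subtype_le _ hq)).eq, mul_inv_cancel_right]
    · intro hq
      have h1 := mem_Cn.1 (map_subtype_le _ hq)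
      have e : x * q = q * x := by
        have h3 := congrArg (fun y => x⁻¹ * y * x) h1.eq
        simpa [mul_assoc] using h3
      rwa [e, mul_inv_cancel_right] at hq
  have hodd : ∀ K : Subgroup (Cn x), (Q : Subgroup (Cn x)) ≤ normalizer (K : Set (Cn x)) →
      K.Normal → IsComplement' K Q → False := fun K _ hK hc => hC <| by
    haveI := hK
    haveI : Group.IsSolvable K := S0205.result (by
      rw [← Nat.not_even_iff_odd, even_iff_two_dvd]
      intro h2
      exact Q.not_dvd_index (hc.index_eq_card ▸ h2))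
    haveI : Group.IsNilpotent (Q : Subgroup (Cn x)) := Q.2.isNilpotent
    haveI : Group.IsSolvable ((Cn x) ⧸ K) :=
      Group.isSolvable_of_surjective (f := hc.symm.QuotientMulEquiv.symm.toMonoidHom)
        hc.symm.QuotientMulEquiv.symm.surjective
    exact (Group.isSolvable_iff_subgroup_quotient K).2 ⟨inferInstance, inferInstance⟩
  by_cases hNtop : N = ⊤
  · -- the Sylow subgroup is normal with odd quotient
    haveI : Q'.Normal := normalizer_eq_top_iff.1 hNtop
    haveI : (Q : Subgroup (Cn x)).Normal := by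
      have := (inferInstance : Q'.Normal).comap (Cn x).subtype
      rwa [comap_map_eq_self_of_injective (Cn x).subtype_injective] at this
    haveI : Group.IsNilpotent (Q : Subgroup (Cn x)) := Q.2.isNilpotent
    haveI : Group.IsSolvable ((Cn x) ⧸ (Q : Subgroup (Cn x))) := S0205.result (by
      rw [← Nat.not_even_iff_odd, even_iff_two_dvd]
      exact Q.not_dvd_index)
    exact hC ((Group.isSolvable_iff_subgroup_quotient (Q : Subgroup (Cn x))).2 ⟨inferInstance, inferInstance⟩)
  by_cases hcomm : ∀ a ∈ N, a ∈ Cn x → ∀ b ∈ N, b ∈ Cn x → Commute a b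
  · have hN' : normalizer ((Q : Subgroup (Cn x)) : Set (Cn x)) ≤
        centralizer ((Q : Subgroup (Cn x)) : Set (Cn x)) := fun a ha => mem_centralizer_iff.2 fun q hq => by
      have hN : ∀ {v : Cn x}, v ∈ normalizer ((Q : Subgroup (Cn x)) : Set (Cn x)) → (v : G) ∈ N := fun hv =>
        le_normalizer_map (Cn x).subtype (mem_map_of_mem _ hv)
      exact Subtype.ext (hcomm q (hN (le_normalizer hq)) (SetLike.coe_mem q) a (hN ha) (SetLike.coe_mem a)).eq
    exact hodd _ (le_of_le_of_eq le_top (normalizer_eq_top_iff.2 inferInstance).symm) inferInstance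
      (MonoidHom.ker_transferSylow_isComplement' Q hN')
  push Not at hcomm
  obtain ⟨a, haN, haC, b, hbN, hbC, hab⟩ := hcomm
  have hle := h.le_Cn hNtop hxN haN hbN (mem_Cn.1 haC) (mem_Cn.1 hbC) hab
  exact hb.ne_top (top_le_iff.1 (hF ▸ sup_le hle le_rfl))

theorem normalizer_Cn {x : G} (hb : Bad x) : normalizer (Cn x : Set G) = Cn x := by
  refine le_antisymm (h.le_Cn_of_le hb (fun e => h.not_normal hb (normalizer_eq_top_iff.1 e)) le_normalizer)
    le_normalizer

theorem mem_Cn_of_conj {x g : G} (hb : Bad x) (hg : Cn (g * x * g⁻¹) = Cn x) : g ∈ Cn x := by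
  rw [← h.normalizer_Cn hb, mem_normalizer_iff]
  intro y
  rw [mem_Cn, ← commute_conj_iff (g := g), ← mem_Cn, hg]

/-- Some conjugate of a bad element does not commute with it. -/
theorem not_mem_normalCore {x : G} (hb : Bad x) : x ∉ (Cn x).normalCore := by
  intro hx
  haveI := Fintype.ofFinite G
  set C := Cn x
  set K := C.normalCore
  have hKC : K ≤ C := normalCore_le C
  -- conjugates of `x` lie in `K`
  have hxg : ∀ g : G, g * x * g⁻¹ ∈ K := (normalCore_normal C).conj_mem x hx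
  have hKab : ∀ a ∈ K, ∀ b ∈ K, Commute a b := by
    intro a ha b hb'
    by_contra hab
    refine h.not_normal hb ⟨fun c hc g => ?_⟩
    have h1 : Cn (g * x * g⁻¹) ≤ C := by
      refine h.le_Cn (hb.conj g).ne_top ?_ ?_ ?_ (mem_Cn.1 (hKC ha)) (mem_Cn.1 (hKC hb')) hab
      · exact mem_Cn.2 (mem_Cn.1 (hKC (hxg g))).symm
      all_goals
        refine mem_Cn.2 ?_
        rw [← commute_conj_iff (g := g⁻¹)]
      · have := mem_Cn.1 (hKC ((normalCore_normal C).conj_mem a ha g⁻¹))
        simpa [mul_assoc] using this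
      · have := mem_Cn.1 (hKC ((normalCore_normal C).conj_mem b hb' g⁻¹))
        simpa [mul_assoc] using this
    exact h1 (mem_Cn.2 (commute_conj_iff.2 (mem_Cn.1 hc)))
  have hKsol : Group.IsSolvable K :=
    Group.isSolvable_of_comm fun a b => Subtype.ext (hKab a a.2 b b.2).eq
  have hne : ¬ C ≤ K := fun hle => by
    obtain ⟨a, ha, b, hb', hab⟩ := hb.exists_mem
    exact hab (hKab a (hle ha) b (hle hb'))
  have hcore : ∀ c, (∀ k ∈ K, Commute k c) → c ∈ K := fun c hc g => mem_Cn.2 <| by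
    rw [← commute_conj_iff (g := g⁻¹)]
    simpa [mul_assoc] using hc _ (hxg g⁻¹)
  have hTI : ∀ g ∉ C, ∀ a ∈ C, g * a * g⁻¹ ∈ C → a ∈ K := by
    intro g hg a ha hga
    refine hcore a fun k hk => ?_
    by_contra hka
    refine hg (inv_mem_iff.1 (h.mem_Cn_of_conj hb (g := g⁻¹) ?_))
    rw [inv_inv]
    have hconj : ∀ v, g * v * g⁻¹ ∈ C → Commute (g⁻¹ * x * g) v := fun v hv => by
      rw [← commute_conj_iff (g := g)]
      simpa [mul_assoc] using mem_Cn.1 hv
    have h1 : C ≤ Cn (g⁻¹ * x * g) := h.le_Cn hb.ne_top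
      (hKC (by simpa using hxg g⁻¹)) (hKC hk) ha
      (hconj k (hKC ((normalCore_normal C).conj_mem k hk g))) (hconj a hga) hka
    exact (h.Cn_eq_of_le hb (by simpa using (hb.conj g⁻¹).1) h1).1
  haveI := normalCore_normal C
  obtain ⟨F, hF, hFsol, hKF, hsup, hinf, -⟩ := exists_kernel_mod hKsol hKC hne hb.ne_top hTI
  haveI := hF
  obtain ⟨c, hc, hcK⟩ := Set.not_subset.1 hne
  have hsup' : F ⊔ zpowers c = ⊤ := by
    by_contra hH
    refine hcK (hcore c fun k hk => ?_)
    by_contra hkc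
    have hle := h.le_Cn hH (mem_sup_left (hKF hx)) (mem_sup_left (hKF hk))
      (mem_sup_right (mem_zpowers c)) (mem_Cn.1 (hKC hk)) (mem_Cn.1 hc) hkc
    exact hb.ne_top (top_le_iff.1 (hsup ▸ sup_le (le_sup_left.trans hle) le_rfl))
  refine h.notSolvable ((Group.isSolvable_iff_subgroup_quotient F).2 ⟨hFsol, ?_⟩)
  refine Group.isSolvable_of_surjective
    (f := ((QuotientGroup.mk' F).comp (zpowers c).subtype)) fun q => ?_
  obtain ⟨g, rfl⟩ := QuotientGroup.mk'_surjective F q
  obtain ⟨f, hf, v, hv, rfl⟩ := mem_sup_of_normal_left.1 (hsup' ▸ mem_top g : g ∈ F ⊔ zpowers c)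
  exact ⟨⟨v, hv⟩, by
    rw [map_mul, show QuotientGroup.mk' F f = 1 from (QuotientGroup.eq_one_iff f).2 hf, one_mul]; rfl⟩

/-- A bad element lies in no proper normal subgroup. -/
theorem eq_top_of_mem {x : G} (hb : Bad x) {N : Subgroup G} [hN : N.Normal] (hx : x ∈ N) : N = ⊤ := by
  by_contra hne
  set A := Cn x ⊓ N
  have hNC : ¬ N ≤ Cn x := fun hle =>
    h.not_mem_normalCore hb fun g => hle (hN.conj_mem x hx g)
  have hAab : ∀ a ∈ A, ∀ b ∈ A, Commute a b := fun a ha b hb' => by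
    by_contra hab
    exact hNC (h.le_Cn hne hx ha.2 hb'.2 (mem_Cn.1 ha.1) (mem_Cn.1 hb'.1) hab)
  have hcent : ∀ (a : G) (ha : a ∈ A), (⟨a, ha.2⟩ : N) ∉ center N →
      ∀ n ∈ N, Commute a n → n ∈ A := fun a ha hac n hn han => by
    refine ⟨mem_Cn.2 ?_, hn⟩
    by_contra hxn
    exact hac (mem_center_iff.2 fun m => Subtype.ext
      (h.proper N hne a ha.2 x hx n hn (mem_Cn.1 ha.1).symm han hxn m m.2).eq.symm)
  have hnorm : ∀ g, (∀ y ∈ A, g * y * g⁻¹ ∈ A) → g ∈ Cn x := by
    intro g hg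
    have hle : Cn x ≤ normalizer (A : Set G) := fun c hc => mem_normalizer_iff.2 fun y => by
      simp only [A, mem_inf]
      exact and_congr ((mem_normalizer_iff.1 (le_normalizer hc)) y)
        ⟨fun hy => hN.conj_mem y hy c, fun hy => by simpa [mul_assoc] using hN.conj_mem _ hy c⁻¹⟩
    have htop : normalizer (A : Set G) ≠ ⊤ := fun e => h.not_mem_normalCore hb fun g' =>
      ((normalizer_eq_top_iff.1 e).conj_mem x ⟨mem_Cn.2 (Commute.refl x), hx⟩ g').1
    refine h.le_Cn_of_le hb htop hle ?_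
    rw [mem_normalizer_iff_map_conj_eq]
    exact eq_of_le_of_card_ge (by rintro _ ⟨k, hk, rfl⟩; exact hg k hk)
      (le_of_eq (card_map_of_injective (MulAut.conj g).injective).symm)
  -- `N` is solvable
  have hNsol : Group.IsSolvable N := by
    set A' := A.subgroupOf N
    have hmemA : ∀ {v : N}, v ∈ A' ↔ (v : G) ∈ A := Iff.rfl
    have hxA : (⟨x, hx⟩ : N) ∈ A' := ⟨mem_Cn.2 (Commute.refl x), hx⟩
    have hA'ab : ∀ a ∈ A', ∀ b ∈ A', a * b = b * a := fun a ha b hb' =>
      Subtype.ext (hAab a ha b hb').eq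
    have hZA : center N ≤ A' := fun z hz =>
      ⟨mem_Cn.2 (congrArg Subtype.val (mem_center_iff.1 hz ⟨x, hx⟩)), z.2⟩
    have hZsol : Group.IsSolvable (center N) :=
      Group.isSolvable_of_comm fun a b => Subtype.ext (mem_center_iff.1 b.2 a)
    have hAne : ¬ A' ≤ center N := fun hle => hNC fun n hn => mem_Cn.2
      (congrArg Subtype.val (mem_center_iff.1 (hle hxA) ⟨n, hn⟩)).symm
    have hAtop : A' ≠ ⊤ := fun e => hNC fun n hn =>
      (hmemA.1 (e ▸ mem_top (⟨n, hn⟩ : N))).1
    obtain ⟨F, hF, hFsol, -, hsup, -, -⟩ := exists_kernel_mod hZsol hZA hAne hAtop fun g hg a ha hga => by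
      by_contra hac
      refine hg ⟨hnorm g fun v hv => ?_, g.2⟩
      refine hcent _ hga (fun hc => hac ?_) _ (hN.conj_mem v hv.2 g) (commute_conj_iff.2 (hAab a ha v hv))
      have := (inferInstance : (center N).Normal).conj_mem (g * a * g⁻¹) hc g⁻¹
      simpa [mul_assoc] using this
    haveI := hF
    haveI : Group.IsSolvable A' := Group.isSolvable_of_comm fun a b => Subtype.ext (hA'ab a a.2 b b.2)
    refine (Group.isSolvable_iff_subgroup_quotient F).2 ⟨hFsol, ?_⟩
    refine Group.isSolvable_of_surjective (f := ((QuotientGroup.mk' F).comp A'.subtype)) fun q => ?_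
    obtain ⟨g, rfl⟩ := QuotientGroup.mk'_surjective F q
    obtain ⟨f, hf, v, hv, rfl⟩ := mem_sup_of_normal_left.1 (hsup ▸ mem_top g : g ∈ F ⊔ A')
    exact ⟨⟨v, hv⟩, by
      rw [map_mul, show QuotientGroup.mk' F f = 1 from (QuotientGroup.eq_one_iff f).2 hf, one_mul]; rfl⟩
  refine h.notSolvable ((Group.isSolvable_iff_subgroup_quotient N).2 ⟨hNsol, ?_⟩)
  refine isSolvable_quotient_of_proper N fun H hle hH a ha b hb' => ?_
  have htop : N ⊔ Cn x = ⊤ := (h.isCoatom hb).2 _
    (lt_of_le_of_ne le_sup_right fun e => hNC (e ▸ le_sup_left))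
  obtain ⟨n, hn, c, hc, rfl⟩ := mem_sup_of_normal_left.1 (htop ▸ mem_top a : a ∈ N ⊔ Cn x)
  obtain ⟨m, hm, d, hd, rfl⟩ := mem_sup_of_normal_left.1 (htop ▸ mem_top b : b ∈ N ⊔ Cn x)
  have hcH : c ∈ H := by simpa using mul_mem (inv_mem (hle hn)) ha
  have hdH : d ∈ H := by simpa using mul_mem (inv_mem (hle hm)) hb'
  have hcd : Commute c d := by
    by_contra hcd
    exact hNC (hle.trans (h.le_Cn hH (hle hx) hcH hdH (mem_Cn.1 hc) (mem_Cn.1 hd) hcd))
  rw [← QuotientGroup.eq_one_iff, ← QuotientGroup.mk'_apply, map_commutatorElement,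
    map_mul, map_mul, show QuotientGroup.mk' N n = 1 from (QuotientGroup.eq_one_iff n).2 hn,
    show QuotientGroup.mk' N m = 1 from (QuotientGroup.eq_one_iff m).2 hm, one_mul, one_mul,
    commutatorElement_eq_one_iff_mul_comm, ← map_mul, ← map_mul, hcd.eq]

end Hyp

end Cfsg.Agent.MinNonCA
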