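import Cfsg.Agent.Lib.MinNonCA.Quasi
import Cfsg.Agent.Lib.Transfer.Burnside
import Cfsg.Agent.Lib.PSL2.AbelianInvol.Main

/-!
# Minimal non-CA groups: facts used in both Sylow cases
-/

set_option autoImplicit false
set_option linter.unusedSectionVars false
set_option linter.style.haveILetI false

namespace Cfsg.Agent.MinNonCA

open Subgroup
open scoped commutatorElement

variable {G : Type*} [Group G]

/-- The centraliser of `u` is abelian. -/
def Ab (u : G) : Prop := ∀ a b : G, Commute u a → Commute u b → Commute a b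

theorem Ab.of_not_bad {u : G} (hu : u ∉ center G) (h : ¬ Bad u) : Ab u := fun a b ha hb =>
  by_contra fun hab => h ⟨hu, a, b, ha, hb, hab⟩

theorem Ab.conj {u : G} (h : Ab u) (g : G) : Ab (g * u * g⁻¹) := fun a b ha hb => by
  have h1 : ∀ {a : G}, Commute (g * u * g⁻¹) a → Commute u (g⁻¹ * a * g) := fun {a} ha => by
    rw [← commute_conj_iff (g := g)]; simpa [mul_assoc] using ha
  have := commute_conj_iff (g := g).2 (h _ _ (h1 ha) (h1 hb))
  simpa [mul_assoc] using this

theorem Ab.mul_center {u z : G} (h : Ab u) (hz : z ∈ center G) : Ab (u * z) := fun a b ha hb => by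
  have h1 : ∀ {a : G}, Commute (u * z) a → Commute u a := fun {a} ha => by
    have := ha.mul_left (center_commute (inv_mem hz) a)
    rwa [mul_inv_cancel_right] at this
  exact h a b (h1 ha) (h1 hb)

/-- In a finite group an element with a power in a subgroup at coprime exponents lies in it. -/
theorem mem_of_coprime_pow {H : Subgroup G} {g : G} {a b : ℕ} (hab : Nat.Coprime a b)
    (ha : g ^ a ∈ H) (hb : g ^ b ∈ H) : g ∈ H := by
  obtain ⟨u, v, huv⟩ := Nat.isCoprime_iff_coprime.2 hab
  have h := mul_mem (zpow_mem ha u) (zpow_mem hb v)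
  rwa [← zpow_natCast, ← zpow_natCast, ← zpow_mul, ← zpow_mul, ← zpow_add,
    show (a : ℤ) * u + (b : ℤ) * v = 1 by linear_combination huv, zpow_one] at h

/-- An abelian maximal subgroup does not occur in a nonsolvable simple group. -/
theorem false_of_abelian_coatom [Finite G] (hs : IsSimpleGroup G) (hns : ¬ Group.IsSolvable G)
    {A : Subgroup G} (hA : IsCoatom A) (hab : ∀ a ∈ A, ∀ b ∈ A, Commute a b) : False := by
  haveI := hs
  have hAbot : A ≠ ⊥ := fun e => by
    subst e
    refine hns (Group.isSolvable_of_comm ?_)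
    obtain ⟨g, hg⟩ := exists_ne (1 : G)
    have htop : zpowers g = ⊤ := hA.2 _ (bot_lt_iff_ne_bot.2 (zpowers_eq_bot.not.2 hg))
    intro a b
    obtain ⟨i, hi⟩ := mem_zpowers_iff.1 (htop ▸ mem_top a : a ∈ zpowers g)
    obtain ⟨j, hj⟩ := mem_zpowers_iff.1 (htop ▸ mem_top b : b ∈ zpowers g)
    rw [← hi, ← hj, ← zpow_add, ← zpow_add, add_comm]
  have hnn : ∀ g, (∀ a ∈ A, g * a * g⁻¹ ∈ A) → g ∈ A := by
    intro g hg
    have h1 : g ∈ normalizer (A : Set G) := by
      rw [mem_normalizer_iff_map_conj_eq]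
      exact eq_of_le_of_card_ge (by rintro _ ⟨k, hk, rfl⟩; exact hg k hk)
        (le_of_eq (card_map_of_injective (MulAut.conj g).injective).symm)
    rcases eq_or_lt_of_le (le_normalizer : A ≤ normalizer (A : Set G)) with e | e
    · exact e ▸ h1
    · haveI := normalizer_eq_top_iff.1 (hA.2 _ e)
      rcases (inferInstance : A.Normal).eq_bot_or_eq_top with e | e
      · exact absurd e hAbot
      · exact absurd e hA.1
  have hF : IsFrobeniusComplement A := by
    refine ⟨hAbot, hA.1, fun g hg => (eq_bot_iff_forall _).2 fun a ha => ?_⟩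
    obtain ⟨h1, h2⟩ := mem_inf.1 ha
    rw [Coprime.mem_conj_smul_iff] at h2
    -- the centraliser of `a` contains `A` and its conjugate
    have hle : A ≤ Cn a := fun v hv => mem_Cn.2 (hab a h1 v hv)
    rcases eq_or_lt_of_le hle with e | e
    · exfalso
      refine hg (hnn g fun v hv => ?_)
      rw [e, mem_Cn, ← commute_conj_iff (g := g⁻¹)]
      simpa [mul_assoc] using hab _ h2 v hv
    · have hc := hA.2 _ e
      have : a ∈ center G := mem_center_iff.2 fun v => ((mem_Cn.1 (hc ▸ mem_top v : v ∈ Cn a)).eq).symm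
      rcases (inferInstance : (center G).Normal).eq_bot_or_eq_top with e | e
      · rwa [e, mem_bot] at this
      · exact absurd (Group.isSolvable_of_comm fun u v => mem_center_iff.1 (e ▸ mem_top v) u) hns
  obtain ⟨N, hN, -, hc, -⟩ := exists_kernel hF
  rcases hN.eq_bot_or_eq_top with e | e
  · exact hA.1 (by simpa [e] using hc.sup_eq_top)
  · exact hAbot (by simpa [e] using hc.disjoint)

section Pairing

variable {F : Type*} [Field F] {Q : Type*} [Group Q]

/-- A commutator pairing on `F` invariant under a group `S` of scalars vanishes when `S` contains `a`, `b`,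
`a + b` with `a ^ 2 + a b + b ^ 2 ≠ 0` and spans `F` additively. -/
theorem comm_of_torus (ψ : Multiplicative F →* Q) (π : G →* Q) (hπ : Function.Surjective π)
    (hker : π.ker ≤ center G) (S : Set F) (hS0 : ∀ c ∈ S, c ≠ 0)
    (hspan : AddSubgroup.closure S = ⊤)
    (hD : ∀ c ∈ S, ∃ d : Q, ∀ x : F, d * ψ (Multiplicative.ofAdd x) * d⁻¹ = ψ (Multiplicative.ofAdd (c * x)))
    {a b : F} (ha : a ∈ S) (hb : b ∈ S) (hab : a + b ∈ S) (hne : a ^ 2 + a * b + b ^ 2 ≠ 0)
    {g g' : G} {x y : F} (hg : π g = ψ (Multiplicative.ofAdd x)) (hg' : π g' = ψ (Multiplicative.ofAdd y)) :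
    Commute g g' := by
  choose lift hlift using fun x : F => hπ (ψ (Multiplicative.ofAdd x))
  set β : F → F → G := fun x y => ⁅lift x, lift y⁆ with hβ
  have hc : ∀ {u v u' v' : G}, π u = π u' → π v = π v' → ⁅u, v⁆ = ⁅u', v'⁆ := by
    intro u v u' v' hu hv
    obtain ⟨z, hz, rfl⟩ : ∃ z ∈ center G, u = u' * z :=
      ⟨u'⁻¹ * u, hker (by rw [MonoidHom.mem_ker, map_mul, map_inv, hu, inv_mul_cancel]), by group⟩
    obtain ⟨w, hw, rfl⟩ : ∃ w ∈ center G, v = v' * w :=
      ⟨v'⁻¹ * v, hker (by rw [MonoidHom.mem_ker, map_mul, map_inv, hv, inv_mul_cancel]), by group⟩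
    rw [commutatorElement_def, commutatorElement_def]
    calc u' * z * (v' * w) * (u' * z)⁻¹ * (v' * w)⁻¹
        = u' * (z * (v' * w) * z⁻¹) * u'⁻¹ * (v' * w)⁻¹ := by group
      _ = u' * (v' * w) * u'⁻¹ * (v' * w)⁻¹ := by rw [(center_commute hz _).eq, mul_inv_cancel_right]
      _ = u' * v' * (w * u'⁻¹ * w⁻¹) * v'⁻¹ := by group
      _ = u' * v' * u'⁻¹ * v'⁻¹ := by rw [(center_commute hw _).eq, mul_inv_cancel_right]
  have hψ : ∀ x y : F, ψ (Multiplicative.ofAdd x) * ψ (Multiplicative.ofAdd y) = ψ (Multiplicative.ofAdd (x + y)) :=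
    fun x y => by rw [← map_mul]; rfl
  have hcen : ∀ x y, β x y ∈ center G := fun x y => hker (by
    rw [MonoidHom.mem_ker, hβ, map_commutatorElement, hlift, hlift, commutatorElement_eq_one_iff_mul_comm,
      hψ, hψ, add_comm])
  have hadd : ∀ x y y', β x (y + y') = β x y * β x y' := fun x y y' => by
    have e : β x (y + y') = ⁅lift x, lift y * lift y'⁆ :=
      hc rfl (by rw [map_mul, hlift, hlift, hlift, hψ])
    rw [e]
    simp only [hβ, commutatorElement_def]
    have h2 := center_commute (hcen x y') (lift y)⁻¹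
    simp only [hβ, commutatorElement_def] at h2
    calc lift x * (lift y * lift y') * (lift x)⁻¹ * (lift y * lift y')⁻¹
        = lift x * lift y * (lift x)⁻¹ * (lift x * lift y' * (lift x)⁻¹ * (lift y')⁻¹ * (lift y)⁻¹) := by group
      _ = lift x * lift y * (lift x)⁻¹ * ((lift y)⁻¹ * (lift x * lift y' * (lift x)⁻¹ * (lift y')⁻¹)) := by rw [h2.eq]
      _ = _ := by group
  have hswap : ∀ x y, β x y = (β y x)⁻¹ := fun x y => (commutatorElement_inv _ _).symm
  have hinv : ∀ c ∈ S, ∀ x y, β (c * x) (c * y) = β x y := fun c hc' x y => by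
    obtain ⟨d, hd⟩ := hD c hc'
    obtain ⟨d, rfl⟩ := hπ d
    have e : β (c * x) (c * y) = ⁅d * lift x * d⁻¹, d * lift y * d⁻¹⁆ := hc
      (by rw [map_mul π, map_mul π, map_inv π, hlift, hlift, hd])
      (by rw [map_mul π, map_mul π, map_inv π, hlift, hlift, hd])
    rw [e, show ⁅d * lift x * d⁻¹, d * lift y * d⁻¹⁆ = d * β x y * d⁻¹ by
      simp only [hβ, commutatorElement_def]; group, (commute_center (hcen x y) d).eq, mul_inv_cancel_right]
  -- the functional `γ z = β z 1`
  set γ : F → G := fun z => β z 1 with hγ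
  have hγadd : ∀ z z', γ (z + z') = γ z * γ z' := fun z z' => by
    show β (z + z') 1 = β z 1 * β z' 1
    rw [hswap, hadd, mul_inv_rev, ← hswap, ← hswap, (center_commute (hcen z' 1) _).eq]
  have hkey : ∀ c ∈ S, ∀ z, β z c = γ (z * c⁻¹) := fun c hc' z => by
    show β z c = β (z * c⁻¹) 1
    rw [← hinv c hc' (z * c⁻¹) 1, mul_one, mul_comm c, mul_assoc, inv_mul_cancel₀ (hS0 c hc'), mul_one]
  have hγ0 : γ 0 = 1 := by
    have := hγadd 0 0
    rwa [add_zero, left_eq_mul] at this
  have hd : ∀ z, γ (z * ((a + b)⁻¹ - a⁻¹ - b⁻¹)) = 1 := fun z => by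
    have e := hadd z a b
    rw [hkey _ ha, hkey _ hb, hkey _ hab, ← hγadd] at e
    have h2 := hγadd (z * ((a + b)⁻¹ - a⁻¹ - b⁻¹)) (z * a⁻¹ + z * b⁻¹)
    rw [show z * ((a + b)⁻¹ - a⁻¹ - b⁻¹) + (z * a⁻¹ + z * b⁻¹) = z * (a + b)⁻¹ by ring, e] at h2
    exact right_eq_mul.1 h2
  have hd0 : (a + b)⁻¹ - a⁻¹ - b⁻¹ ≠ 0 := fun e => hne (by
    have h1 := hS0 a ha
    have h2 := hS0 b hb
    have h3 := hS0 _ hab
    field_simp at e
    linear_combination -e)
  have hγ1 : ∀ z, γ z = 1 := fun z => by
    have := hd (z * ((a + b)⁻¹ - a⁻¹ - b⁻¹)⁻¹)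
    rwa [mul_assoc, inv_mul_cancel₀ hd0, mul_one] at this
  let K : F → AddSubgroup F := fun x =>
    { carrier := {y | β x y = 1}
      zero_mem' := by
        have := hadd x 0 0
        rwa [add_zero, left_eq_mul] at this
      add_mem' := fun {u v} hu hv => by
        show β x (u + v) = 1
        rw [hadd, (show β x u = 1 from hu), (show β x v = 1 from hv), one_mul]
      neg_mem' := fun {u} hu => by
        have h0 : β x 0 = 1 := by
          have := hadd x 0 0
          rwa [add_zero, left_eq_mul] at this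
        have := hadd x u (-u)
        rw [add_neg_cancel, h0, (show β x u = 1 from hu), one_mul] at this
        exact this.symm }
  have hall : ∀ x y, β x y = 1 := fun x y => by
    have h1 : AddSubgroup.closure S ≤ K x := (AddSubgroup.closure_le _).2 fun c hc' => by
      show β x c = 1
      rw [hkey c hc', hγ1]
    exact h1 (hspan ▸ AddSubgroup.mem_top y)
  rw [Commute, SemiconjBy, ← commutatorElement_eq_one_iff_mul_comm, ← hall x y]
  exact hc (by rw [hg, hlift]) (by rw [hg', hlift])

end Pairing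

namespace MNC

variable [Finite G] (m : MNC G)

include m

/-- A noncentral element with a nontrivial central commutator has abelian centraliser. -/
theorem ab_of_commutator {u v : G} (hne : ¬ Commute u v) (h : v * u * v⁻¹ * u⁻¹ ∈ center G) : Ab u :=
  Ab.of_not_bad (fun hc => hne (center_commute hc v)) fun hb => hne (m.commute_of_bad hb h)

/-- The centraliser in a nonabelian Sylow 2-subgroup of a noncentral element is abelian. -/
theorem sylow_cent_comm {T : Sylow 2 G}
    (hnab : ∃ a ∈ (T : Subgroup G), ∃ b ∈ (T : Subgroup G), ¬ Commute a b) {u : G} (huT : u ∈ (T : Subgroup G))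
    (hu : u ∉ center G) {a b : G} (ha : a ∈ (T : Subgroup G)) (hb : b ∈ (T : Subgroup G))
    (hua : Commute u a) (hub : Commute u b) : Commute a b := by
  by_contra hab
  set D := (T : Subgroup G) ⊓ Cn u with hD
  have huD : u ∈ D := ⟨huT, mem_Cn.2 (Commute.refl u)⟩
  have hH : normalizer (D : Set G) ≠ ⊤ := fun e => by
    haveI : D.Normal := normalizer_eq_top_iff.1 e
    by_cases hDtop : D = ⊤
    · refine m.notSolvable ?_
      haveI : Group.IsNilpotent G := by
        haveI := (T.2.to_le (inf_le_left : D ≤ T)).isNilpotent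
        exact Group.nilpotent_of_mulEquiv ((MulEquiv.subgroupCongr hDtop).trans Subgroup.topEquiv)
      infer_instance
    exact hu (m.le_center hDtop huD)
  have hle := m.toHyp.le_Cn hH (le_normalizer huD) (le_normalizer (⟨ha, mem_Cn.2 hua⟩ : a ∈ D))
    (le_normalizer (⟨hb, mem_Cn.2 hub⟩ : b ∈ D)) hua hub hab
  -- hence `D` is self-normalising in `T`
  refine hu (m.mem_center_of_sylow hnab huT fun t ht => ?_)
  by_contra htu
  haveI := T.2.isNilpotent
  have hlt : D.subgroupOf (T : Subgroup G) < ⊤ := lt_top_iff_ne_top.2 fun e =>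
    htu (mem_Cn.1 ((subgroupOf_eq_top.1 e) ht).2)
  obtain ⟨p, hp1, hp2⟩ := SetLike.exists_of_lt (Group.normalizerCondition_of_isNilpotent _ hlt)
  refine hp2 ⟨p.2, hle ?_⟩
  rw [mem_normalizer_iff_map_conj_eq]
  refine eq_of_le_of_card_ge ?_ (le_of_eq (card_map_of_injective (MulAut.conj (p : G)).injective).symm)
  rintro _ ⟨d, hd, rfl⟩
  exact (mem_normalizer_iff.1 hp1 ⟨d, hd.1⟩).1 hd

/-- In an abelian Sylow subgroup no nontrivial element is fixed by the normaliser. -/
theorem eq_one_of_normalizer {p : ℕ} [Fact p.Prime] (T : Sylow p G)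
    (hab : ∀ a ∈ (T : Subgroup G), ∀ b ∈ (T : Subgroup G), Commute a b) {t : G} (ht : t ∈ (T : Subgroup G))
    (hc : ∀ n ∈ normalizer ((T : Subgroup G) : Set G), Commute t n) : t = 1 := by
  have h := Transfer.inf_centralizer_normalizer_inf_commutator_eq_bot T
    ⟨⟨fun a b => Subtype.ext (hab a a.2 b b.2).eq⟩⟩
  exact mem_bot.1 (h ▸ (⟨⟨ht, mem_centralizer_iff.2 fun n hn => (hc n hn).eq.symm⟩,
    m.isPerfect ▸ mem_top t⟩ : t ∈ (T : Subgroup G) ⊓ centralizer (normalizer ((T : Subgroup G) : Set G) : Set G) ⊓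
      commutator G))

/-- With an abelian Sylow subgroup the centre has order prime to `p`. -/
theorem not_dvd_card_center {p : ℕ} [Fact p.Prime] (T : Sylow p G)
    (hab : ∀ a ∈ (T : Subgroup G), ∀ b ∈ (T : Subgroup G), Commute a b) : ¬ p ∣ Nat.card (center G) := by
  intro hd
  obtain ⟨z, hz⟩ := exists_prime_orderOf_dvd_card' p hd
  exact PSL2.AbInv.eq_one_of_central_of_mem_commutator T (fun a ha b hb => (hab a ha b hb).eq)
    (e := (z : G)) (by rw [Subgroup.orderOf_coe, hz]) z.2 (m.isPerfect ▸ mem_top _)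

/-- A quotient Sylow 2-subgroup is not cyclic. -/
theorem not_isCyclic_sylow (T : Sylow 2 (G ⧸ center G)) : ¬ IsCyclic (T : Subgroup (G ⧸ center G)) := by
  intro hc
  haveI : Fact (Nat.Prime 2) := ⟨Nat.prime_two⟩
  haveI := m.isSimple
  rcases eq_or_ne (T : Subgroup (G ⧸ center G)) ⊥ with hT | hT
  · refine m.not_isSolvable_quotient (S0205.result ?_)
    rw [← Nat.not_even_iff_odd, even_iff_two_dvd]
    intro h2
    exact (T.ne_bot_of_dvd_card h2) hT
  have h2 : (Nat.card (G ⧸ center G)).minFac = 2 := by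
    rw [Nat.minFac_eq_two_iff]
    obtain ⟨g, hgT, hg⟩ := (bot_or_exists_ne_one (T : Subgroup (G ⧸ center G))).resolve_left hT
    obtain ⟨k, hk⟩ := T.2 ⟨g, hgT⟩
    have h1 : g ^ (2 ^ k) = 1 := congrArg Subtype.val hk
    obtain ⟨i, -, hi⟩ := (Nat.dvd_prime_pow Nat.prime_two).1 (orderOf_dvd_of_pow_eq_one h1)
    refine Dvd.dvd.trans ?_ (orderOf_dvd_natCard g)
    rw [hi]
    exact dvd_pow_self 2 fun e => hg (orderOf_eq_one_iff.1 (by rw [hi, e, pow_zero]))
  have hN := IsCyclic.normalizer_le_centralizer (P := T) h2 hc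
  have hc' := MonoidHom.ker_transferSylow_isComplement' T hN
  rcases (inferInstance : (MonoidHom.transferSylow T hN).ker.Normal).eq_bot_or_eq_top with e | e
  · refine m.not_isSolvable_quotient ?_
    haveI := T.2.isNilpotent
    have := hc'.sup_eq_top
    rw [e, bot_sup_eq] at this
    exact Group.isSolvable_of_surjective
      (f := ((MulEquiv.subgroupCongr this).trans Subgroup.topEquiv).toMonoidHom)
      ((MulEquiv.subgroupCongr this).trans Subgroup.topEquiv).surjective
  · exact hT (by simpa [e] using hc'.disjoint)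

end MNC

end Cfsg.Agent.MinNonCA
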