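import Cfsg.Agent.Lib.MinNonCA.Basic
import Cfsg.Agent.Lib.PSL2.Dickson
import Cfsg.Agent.Lib.PSL2.SmallIso
import Cfsg.Agent.Lib.PSL2.Classes
import Cfsg.Agent.Lib.PSL2.Sylow
import Cfsg.Agent.Lib.PSL2.Torus

/-!
# The groups `PSL(2, q)` whose proper subgroups are CA

By Dickson's theorem: cyclic and dihedral groups, `A₄`, `A₅` and Borel subgroups are CA, and the other
types do not occur when `16` does not divide `q² - 1` and there are no large subfields.
-/

set_option autoImplicit false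
set_option linter.unusedSectionVars false
set_option linter.style.haveILetI false

namespace Cfsg.Agent.MinNonCA

open Subgroup
open scoped MatrixGroups

theorem dihedral_ca {k : ℕ} {x a b : DihedralGroup k} (hx : ¬ ∀ y, Commute x y) (ha : Commute x a)
    (hb : Commute x b) : Commute a b := by
  open DihedralGroup in
  have cr : ∀ i j : ZMod k, Commute (r i) (sr j) ↔ i + i = 0 := fun i j => by
    show r i * sr j = sr j * r i ↔ _
    rw [r_mul_sr, sr_mul_r, DihedralGroup.sr.injEq]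
    exact ⟨fun h => by linear_combination -h, fun h => by linear_combination -h⟩
  open DihedralGroup in
  have cs : ∀ i j : ZMod k, Commute (sr i) (sr j) ↔ (j - i) + (j - i) = 0 := fun i j => by
    show sr i * sr j = sr j * sr i ↔ _
    rw [sr_mul_sr, sr_mul_sr, DihedralGroup.r.injEq]
    exact ⟨fun h => by linear_combination h, fun h => by linear_combination h⟩
  have crr : ∀ i j : ZMod k, Commute (DihedralGroup.r i) (DihedralGroup.r j) := fun i j => by
    show DihedralGroup.r i * DihedralGroup.r j = DihedralGroup.r j * DihedralGroup.r i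
    rw [DihedralGroup.r_mul_r, DihedralGroup.r_mul_r, add_comm]
  cases x with
  | r i =>
    by_cases hi : i + i = 0
    · refine absurd (fun y => ?_) hx
      cases y with
      | r j => exact crr i j
      | sr j => exact (cr i j).2 hi
    · cases a with
      | sr j => exact absurd ((cr i j).1 ha) hi
      | r a =>
        cases b with
        | sr j => exact absurd ((cr i j).1 hb) hi
        | r b => exact crr a b
  | sr i =>
    cases a with
    | r a =>
      have h1 := (cr a i).1 ha.symm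
      cases b with
      | r b => exact crr a b
      | sr b => exact (cr a b).2 h1
    | sr a =>
      have h1 := (cs i a).1 ha
      cases b with
      | r b => exact ((cr b a).2 ((cr b i).1 hb.symm)).symm
      | sr b =>
        have h2 := (cs i b).1 hb
        exact (cs a b).2 (by linear_combination h2 - h1)

/-- With element orders `1, 2, 3, 5` the centraliser of an involution is abelian. -/
theorem comm_of_orders {H : Type*} [Group H] (h : ∀ w : H, w ^ 2 = 1 ∨ w ^ 3 = 1 ∨ w ^ 5 = 1)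
    {x a b : H} (hx : x ^ 2 = 1) (hx1 : x ≠ 1) (ha : Commute x a) (hb : Commute x b) : Commute a b := by
  have key : ∀ {c : H}, Commute x c → c * c = 1 := by
    intro c hc
    rw [← pow_two]
    have hx3 : x ^ 3 = x := by rw [pow_succ, hx, one_mul]
    have hx5 : x ^ 5 = x := by rw [show 5 = 2 * 2 + 1 from rfl, pow_succ, pow_mul, hx, one_pow, one_mul]
    rcases h (x * c) with e | e | e <;> rw [hc.mul_pow] at e
    · rwa [hx, one_mul] at e
    all_goals
      rcases h c with e' | e' | e'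
    · exact e'
    · rw [hx3, e', mul_one] at e; exact absurd e hx1
    · rw [hx3] at e
      have h6 : c ^ 6 = 1 := by
        rw [show 6 = 3 * 2 from rfl, pow_mul, eq_inv_of_mul_eq_one_right e, inv_pow, hx, inv_one]
      rw [pow_succ, e', one_mul] at h6
      rw [h6, one_pow]
    · exact e'
    · rw [hx5, show 5 = 3 + 2 from rfl, pow_add, e', one_mul] at e
      have h4 : c ^ 4 = 1 := by
        rw [show 4 = 2 * 2 from rfl, pow_mul, eq_inv_of_mul_eq_one_right e, inv_pow, hx, inv_one]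
      rw [pow_succ, e', one_mul] at h4
      rw [h4, one_pow]
    · rw [hx5, e', mul_one] at e; exact absurd e hx1
  have e := key (ha.mul_right hb)
  show a * b = b * a
  rw [eq_inv_of_mul_eq_one_left e, mul_inv_rev, inv_eq_of_mul_eq_one_right (key ha),
    inv_eq_of_mul_eq_one_right (key hb)]

set_option maxRecDepth 8000 in
theorem orders_alt_four : ∀ w : alternatingGroup (Fin 4), w ^ 2 = 1 ∨ w ^ 3 = 1 ∨ w ^ 5 = 1 := by
  have h : ∀ σ : Equiv.Perm (Fin 4), Equiv.Perm.sign σ = 1 → σ ^ 2 = 1 ∨ σ ^ 3 = 1 ∨ σ ^ 5 = 1 := by decide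
  intro w
  exact (h w w.2).imp (fun e => Subtype.ext e) (Or.imp (fun e => Subtype.ext e) fun e => Subtype.ext e)

set_option maxRecDepth 8000 in
theorem orders_alt_five : ∀ w : alternatingGroup (Fin 5), w ^ 2 = 1 ∨ w ^ 3 = 1 ∨ w ^ 5 = 1 := by
  have h : ∀ σ : Equiv.Perm (Fin 5), Equiv.Perm.sign σ = 1 → σ ^ 2 = 1 ∨ σ ^ 3 = 1 ∨ σ ^ 5 = 1 := by decide
  intro w
  exact (h w w.2).imp (fun e => Subtype.ext e) (Or.imp (fun e => Subtype.ext e) fun e => Subtype.ext e)

theorem orders_of_equiv {H K : Type*} [Group H] [Group K] (e : H ≃* K)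
    (h : ∀ w : K, w ^ 2 = 1 ∨ w ^ 3 = 1 ∨ w ^ 5 = 1) (w : H) : w ^ 2 = 1 ∨ w ^ 3 = 1 ∨ w ^ 5 = 1 :=
  (h (e w)).imp (fun k => e.injective (by rw [map_pow, k, map_one]))
    (Or.imp (fun k => e.injective (by rw [map_pow, k, map_one]))
      fun k => e.injective (by rw [map_pow, k, map_one]))

section PSL

variable {F : Type} [Field F] [Fintype F]

open PSL2

/-- Non-involutions have abelian centralisers. -/
theorem psl_involution_of_not_comm {x a b : PSL(2, F)} (hx : x ≠ 1) (ha : Commute x a) (hb : Commute x b)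
    (hab : ¬ Commute a b) : ∃ X : SL(2, F), PSL2.mk X = x ∧ tr X = 0 := by
  obtain ⟨X, rfl⟩ := mk_surjective x
  refine ⟨X, rfl, by_contra fun ht => hab ?_⟩
  have hmem : ∀ {a}, Commute (PSL2.mk X) a → a ∈ (cent X).map PSL2.mk := fun {a} ha => by
    rw [← psl_centralizer_eq (Or.inl ht)]
    exact mem_centralizer_singleton_iff.2 ha.eq.symm
  obtain ⟨A, hA, rfl⟩ := hmem ha
  obtain ⟨B, hB, rfl⟩ := hmem hb
  exact (cent_comm (mk_ne_one_iff.1 hx) (mem_cent.1 hA) (mem_cent.1 hB)).map PSL2.mk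

theorem psl_involution_sq {x a b : PSL(2, F)} (hx : x ≠ 1) (ha : Commute x a) (hb : Commute x b)
    (hab : ¬ Commute a b) : x ^ 2 = 1 := by
  obtain ⟨X, rfl, hX⟩ := psl_involution_of_not_comm hx ha hb hab
  rw [← map_pow, pow_two, sq_eq_neg_one_of_tr_eq_zero hX, mk_neg_one]

/-- Borel subgroups are CA. -/
theorem borel_comm (p : ℕ) [Fact p.Prime] [CharP F p] (h2 : (2 : F) ≠ 0) (P : Sylow p PSL(2, F))
    {x a b : PSL(2, F)} (hxP : x ∈ normalizer ((P : Subgroup PSL(2, F)) : Set PSL(2, F)))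
    (haP : a ∈ normalizer ((P : Subgroup PSL(2, F)) : Set PSL(2, F)))
    (hbP : b ∈ normalizer ((P : Subgroup PSL(2, F)) : Set PSL(2, F)))
    (hx : x ≠ 1) (ha : Commute x a) (hb : Commute x b) : Commute a b := by
  obtain ⟨g, hg⟩ := MulAction.exists_smul_eq PSL(2, F) P (unipSylowPSL F p)
  have hPU : (P : Subgroup PSL(2, F)).map (MulAut.conj g).toMonoidHom = (unip F).map PSL2.mk := by
    rw [← coe_unipSylowPSL p, ← hg]; rfl
  have hB : ∀ {c}, c ∈ normalizer ((P : Subgroup PSL(2, F)) : Set PSL(2, F)) →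
      ∃ s ∈ borel F, PSL2.mk s = g * c * g⁻¹ := by
    intro c hn
    obtain ⟨s, hs'⟩ := mk_surjective (MulAut.conj g c)
    refine ⟨s, ?_, hs'⟩
    have h1 : PSL2.mk (uu 1) ∈ (unip F).map PSL2.mk := mem_map_of_mem PSL2.mk (uu_mem_unip 1)
    rw [← hPU] at h1
    obtain ⟨z, hz, hz'⟩ := h1
    have h2' := mem_map_of_mem (MulAut.conj g).toMonoidHom ((mem_normalizer_iff.1 hn z).1 hz)
    rw [hPU, map_mul, map_mul, map_inv, hz', MulEquiv.coe_toMonoidHom, ← hs'] at h2'
    obtain ⟨u, hu, hu'⟩ := h2'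
    obtain ⟨t, rfl⟩ := mem_unip.1 hu
    rw [← map_inv, ← map_mul, ← map_mul, mk_eq_mk] at hu'
    rcases hu' with h | h
    · exact uu_conj_mem_borel one_ne_zero h.symm
    · have h10 := congrArg (fun a : SL(2, F) => a 1 0) h
      simp [Matrix.mul_apply, Fin.sum_univ_two, Matrix.adjugate_fin_two] at h10
      rw [mem_borel]
      exact sq_eq_zero_iff.1 (by linear_combination -h10)
  obtain ⟨X, hXb, hX⟩ := hB hxP
  obtain ⟨A, hAb, hA⟩ := hB haP
  obtain ⟨B, hBb, hB'⟩ := hB hbP
  have hXc : X ∉ center SL(2, F) := mk_ne_one_iff.1 (hX ▸ fun e => hx (conj_eq_one_iff.1 e))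
  have h00 : ∀ {M : SL(2, F)}, M ∈ borel F → M 0 0 ≠ 0 := fun {M} hM e => by
    have := det_eq M
    rw [e, mem_borel.1 hM, zero_mul, mul_zero, sub_zero] at this
    exact zero_ne_one this
  have hlift : ∀ {M : SL(2, F)} {c : PSL(2, F)}, M ∈ borel F → PSL2.mk M = g * c * g⁻¹ → Commute x c → Commute M X := by
    intro M c hMb hM hc
    have e : PSL2.mk (M * X) = PSL2.mk (X * M) := by
      rw [map_mul, map_mul, hM, hX]
      exact (commute_conj_iff.2 hc.symm).eq
    rcases mk_eq_mk.1 e with h | h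
    · exact h
    · exfalso
      have h' := congrArg (fun a : SL(2, F) => a 0 0) h
      simp only [mul00, Matrix.SpecialLinearGroup.coe_neg, Matrix.neg_apply, mem_borel.1 hMb,
        mem_borel.1 hXb, mul_zero, add_zero] at h'
      exact mul_ne_zero h2 (mul_ne_zero (h00 hMb) (h00 hXb)) (by linear_combination h')
  have h := (cent_comm hXc (hlift hAb hA ha) (hlift hBb hB' hb)).map PSL2.mk
  rw [hA, hB'] at h
  exact commute_conj_iff.1 h

/-- Proper subgroups are CA. -/
theorem psl_proper (hodd : Odd (Fintype.card F)) (h16 : ¬ 16 ∣ Fintype.card F ^ 2 - 1)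
    (hsub : ∀ k m : ℕ, k ^ m = Fintype.card F → k = Fintype.card F ∨ k = 3 ∨ k = 5)
    {H : Subgroup PSL(2, F)} (hH : H ≠ ⊤) {x a b y : PSL(2, F)} (hxH : x ∈ H) (haH : a ∈ H) (hbH : b ∈ H)
    (hyH : y ∈ H) (ha : Commute x a) (hb : Commute x b) (hab : ¬ Commute a b) : Commute x y := by
  classical
  have h2 : (2 : F) ≠ 0 := odd_card_iff.1 hodd
  by_contra hxy
  have hx : x ≠ 1 := fun e => hxy (e ▸ Commute.one_left y)
  have hx2 := psl_involution_sq hx ha hb hab
  have h8 : ¬ 8 ∣ Nat.card PSL(2, F) := fun ⟨c, hc⟩ => h16 (by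
    have h := two_mul_card_PSL (F := F) h2
    have hd : 16 ∣ Fintype.card F * (Fintype.card F ^ 2 - 1) := ⟨c, by rw [← h, hc]; ring⟩
    exact (Nat.Coprime.pow_left 4 (Nat.coprime_two_left.2 hodd)).dvd_of_dvd_mul_left hd)
  have horders : (∀ w : H, w ^ 2 = 1 ∨ w ^ 3 = 1 ∨ w ^ 5 = 1) → False := fun h => hab (by
    have := comm_of_orders h (x := ⟨x, hxH⟩) (a := ⟨a, haH⟩) (b := ⟨b, hbH⟩) (Subtype.ext hx2)
      (fun e => hx (congrArg Subtype.val e)) (Subtype.ext ha.eq) (Subtype.ext hb.eq)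
    exact congrArg Subtype.val this.eq)
  obtain ⟨p, hp⟩ := CharP.exists F
  haveI : Fact p.Prime := ⟨CharP.char_is_prime F p⟩
  rcases dickson p H with ⟨k, -, ⟨hc, -⟩ | ⟨⟨e⟩⟩⟩ | ⟨P, hP⟩ | ⟨⟨e⟩⟩ | ⟨⟨e⟩⟩ | ⟨⟨e⟩⟩ | ⟨K, iK, iK', mK, hK, hiso⟩
  · letI := IsCyclic.commGroup (α := H)
    exact hab (congrArg Subtype.val (mul_comm (⟨a, haH⟩ : H) ⟨b, hbH⟩))
  · refine hab (congrArg Subtype.val (e.injective (?_ : e (⟨a, haH⟩ * ⟨b, hbH⟩) = e (⟨b, hbH⟩ * ⟨a, haH⟩))))
    rw [map_mul, map_mul]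
    refine (dihedral_ca (x := e ⟨x, hxH⟩) (fun h => hxy ?_) ?_ ?_).eq
    · exact congrArg Subtype.val (e.injective (by
        rw [map_mul, map_mul]; exact (h (e ⟨y, hyH⟩)).eq) : (⟨x, hxH⟩ : H) * ⟨y, hyH⟩ = ⟨y, hyH⟩ * ⟨x, hxH⟩)
    · exact (show Commute (⟨x, hxH⟩ : H) ⟨a, haH⟩ from Subtype.ext ha.eq).map e.toMonoidHom
    · exact (show Commute (⟨x, hxH⟩ : H) ⟨b, hbH⟩ from Subtype.ext hb.eq).map e.toMonoidHom
  · exact hab (borel_comm p h2 P (hP hxH) (hP haH) (hP hbH) hx ha hb)
  · exact horders (orders_of_equiv e orders_alt_four)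
  · refine h8 (Dvd.dvd.trans ?_ H.card_subgroup_dvd_card)
    rw [Nat.card_congr e.toEquiv, Nat.card_eq_fintype_card, Fintype.card_perm, Fintype.card_fin]
    decide
  · exact horders (orders_of_equiv e orders_alt_five)
  · have hKodd : Odd (Fintype.card K) := by
      have hm : mK ≠ 0 := fun e => by
        rw [e, pow_zero] at hK
        exact absurd hK.symm (Fintype.one_lt_card (α := F)).ne'
      rw [← hK, Nat.odd_pow_iff hm] at hodd
      exact hodd
    have hK2 : (2 : K) ≠ 0 := odd_card_iff.1 hKodd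
    rcases hiso with ⟨⟨e⟩⟩ | ⟨⟨e⟩⟩
    · rcases hsub _ _ hK with hk | hk | hk
      · refine hH (eq_top_of_card_eq H ?_)
        rw [Nat.card_congr e.toEquiv]
        have h1 := two_mul_card_PSL (F := K) hK2
        have h2' := two_mul_card_PSL (F := F) h2
        rw [hk] at h1
        omega
      · obtain ⟨e'⟩ := psl_three_iso hk
        exact horders (orders_of_equiv (e.trans e') orders_alt_four)
      · obtain ⟨e'⟩ := psl_four_five_iso (Or.inr hk)
        exact horders (orders_of_equiv (e.trans e') orders_alt_five)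
    · refine h8 (Dvd.dvd.trans ?_ H.card_subgroup_dvd_card)
      rw [Nat.card_congr e.toEquiv, GL.card_PGL, card_SL]
      exact dvd_mul_of_dvd_right (Nat.eight_dvd_sq_sub_one_of_odd hKodd) _

/-- An involution with a nonabelian centraliser. -/
theorem psl_exists_nonCA (hodd : Odd (Fintype.card F)) (h7 : 7 ≤ Fintype.card F) :
    ∃ x a b : PSL(2, F), x * x = 1 ∧ (∃ y, ¬ Commute x y) ∧ Commute x a ∧ Commute x b ∧ ¬ Commute a b := by
  have h2 : (2 : F) ≠ 0 := odd_card_iff.1 hodd
  obtain ⟨g, h4, hg⟩ : ∃ g : SL(2, F), tr g ^ 2 ≠ 4 ∧ 4 ∣ Nat.card (cent g) ∧ 8 ≤ Nat.card (cent g) := by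
    rcases (show Fintype.card F % 4 = 1 ∨ Fintype.card F % 4 = 3 by rw [Nat.odd_iff] at hodd; omega) with h | h
    · obtain ⟨g, h4, hg⟩ := exists_torus_card_sub_one (F := F) (by omega)
      exact ⟨g, h4, by omega⟩
    · obtain ⟨g, h4, hg⟩ := exists_torus_card_add_one F
      exact ⟨g, h4, by omega⟩
  obtain ⟨n, hn, hnev, hn3⟩ : ∃ n, Nat.card ((cent g).map PSL2.mk) = n ∧ 2 ∣ n ∧ 4 ≤ n := by
    have h := card_map_cent g
    obtain ⟨i, hi⟩ := hodd
    rw [show Nat.gcd 2 (Fintype.card F - 1) = 2 from Nat.gcd_eq_left ⟨i, by omega⟩] at h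
    exact ⟨_, rfl, by omega, by omega⟩
  obtain ⟨j, rfl⟩ := hnev
  obtain ⟨e⟩ := dihedral_normalizer h4 hn
  open DihedralGroup in
  have h : ∀ d : DihedralGroup (2 * j), Commute (r (j : ZMod (2 * j))) d := fun d => by
    have hj : (j : ZMod (2 * j)) + j = 0 := by
      rw [← Nat.cast_add, ← two_mul, ZMod.natCast_self]
    cases d with
    | r i => show r _ * r i = r i * r _; rw [r_mul_r, r_mul_r, add_comm]
    | sr i =>
      show r _ * sr i = sr i * r _
      rw [r_mul_sr, sr_mul_r, DihedralGroup.sr.injEq]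
      linear_combination -hj
  haveI : NeZero (2 * j) := ⟨by omega⟩
  have hne : ∀ i : ℕ, 0 < i → i < 2 * j → (i : ZMod (2 * j)) ≠ 0 := fun i hi hlt e => by
    have := congrArg ZMod.val e
    rw [ZMod.val_natCast, ZMod.val_zero, Nat.mod_eq_of_lt hlt] at this
    omega
  set x : PSL(2, F) := ((e.symm (DihedralGroup.r (j : ZMod (2 * j))) : _) : PSL(2, F))
  have hmap : ∀ {c d : DihedralGroup (2 * j)}, Commute c d →
      Commute ((e.symm c : _) : PSL(2, F)) ((e.symm d : _) : PSL(2, F)) := fun {c d} hcd =>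
    congrArg Subtype.val ((hcd.map e.symm.toMonoidHom).eq)
  refine ⟨x, (e.symm (DihedralGroup.r 1) : _), (e.symm (DihedralGroup.sr 0) : _), ?_, ?_, hmap (h _), hmap (h _),
    fun hc => ?_⟩
  · show ((e.symm _ * e.symm _ : _) : PSL(2, F)) = 1
    rw [← map_mul, DihedralGroup.r_mul_r, ← Nat.cast_add, ← two_mul, ZMod.natCast_self, ← DihedralGroup.one_def,
      map_one]
    rfl
  · by_contra hall
    push Not at hall
    haveI := psl_isSimpleGroup (F := F) (by omega)
    have hxc : x ∈ center PSL(2, F) := mem_center_iff.2 fun y => (hall y).eq.symm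
    rcases (inferInstance : (center PSL(2, F)).Normal).eq_bot_or_eq_top with e' | e'
    · rw [e', mem_bot] at hxc
      have h0 : e.symm (DihedralGroup.r (j : ZMod (2 * j))) = 1 := Subtype.ext hxc
      rw [MulEquiv.map_eq_one_iff, DihedralGroup.one_def, DihedralGroup.r.injEq] at h0
      exact hne j (by omega) (by omega) h0
    · exact GL.PSL_not_comm 2 le_rfl (fun _ => by rw [Nat.card_eq_fintype_card]; omega)
        (fun a b => mem_center_iff.1 (e' ▸ mem_top b) a)
  · have hc' : Commute (DihedralGroup.r (1 : ZMod (2 * j))) (DihedralGroup.sr 0) := e.symm.injective (by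
      rw [map_mul, map_mul]; exact Subtype.ext hc.eq)
    have hc'' := hc'.eq
    rw [DihedralGroup.r_mul_sr, DihedralGroup.sr_mul_r, DihedralGroup.sr.injEq] at hc''
    exact hne 2 two_pos (by omega) (by push_cast; linear_combination -hc'')

theorem psl_not_isSolvable (h4 : 4 ≤ Fintype.card F) : ¬ Group.IsSolvable PSL(2, F) := fun hs => by
  haveI := psl_isSimpleGroup (F := F) h4
  exact GL.PSL_not_comm 2 le_rfl (fun _ => by rw [Nat.card_eq_fintype_card]; omega)
    (fun a b => IsSimpleGroup.comm_iff_isSolvable.2 hs a b)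

end PSL

end Cfsg.Agent.MinNonCA
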