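import Cfsg.Agent.Lib.MinNonCA.EvenBase
import Cfsg.Agent.Lib.Bicyclic2.Omega
import Cfsg.Agent.Lib.Transfer.Thompson
import Cfsg.Agent.S0483

/-!
# Minimal non-CA groups have abelian Sylow 2-subgroups

Otherwise every involution lift has abelian centraliser.  Either `T / Z` is elementary abelian and the image
modulo the centre is `SL(2, 2 ^ n)`, or it is dihedral and the image is `PSL(2, q)` or `A₇`.
-/

set_option autoImplicit false
set_option linter.unusedSectionVars false
set_option linter.style.haveILetI false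

namespace Cfsg.Agent.MinNonCA

open Subgroup
open scoped commutatorElement MatrixGroups

variable {G : Type*} [Group G]

theorem mk_inverts {v b : G} (h : b * (v * b * v⁻¹) ∈ center G) :
    (v : G ⧸ center G) * b * (v : G ⧸ center G)⁻¹ = (b : G ⧸ center G)⁻¹ :=
  eq_inv_of_mul_eq_one_right (by
    have e := (QuotientGroup.eq_one_iff _).2 h
    simpa only [QuotientGroup.mk_mul, QuotientGroup.mk_inv] using e)

theorem commutator_mem_of_mk_commute {a b : G}
    (h : Commute (a : G ⧸ center G) (b : G ⧸ center G)) : ⁅a, b⁆ ∈ center G := by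
  refine (QuotientGroup.eq_one_iff _).1 ?_
  show QuotientGroup.mk' (center G) ⁅a, b⁆ = 1
  rw [map_commutatorElement]
  exact commutatorElement_eq_one_iff_mul_comm.2 h.eq

namespace MNC

variable [Finite G] (m : MNC G) (T : Sylow 2 G)
  (hnab : ∃ a ∈ (T : Subgroup G), ∃ b ∈ (T : Subgroup G), ¬ Commute a b)

include m hnab

theorem exists_central_invol : ∃ u ∈ (T : Subgroup G), u ∉ center G ∧ u * u ∈ center G ∧
    ∀ t ∈ (T : Subgroup G), ⁅t, u⁆ ∈ center G := by
  haveI : Fact (Nat.Prime 2) := ⟨Nat.prime_two⟩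
  set π := QuotientGroup.mk' (center G) with hπ
  set P := (T : Subgroup G).map π with hP
  have hPp : IsPGroup 2 P := T.2.map π
  haveI : Nontrivial P := by
    rw [Subgroup.nontrivial_iff_ne_bot]
    intro e
    obtain ⟨a, ha, b, -, hab⟩ := hnab
    exact hab (center_commute ((QuotientGroup.eq_one_iff a).1
      (mem_bot.1 (e ▸ mem_map_of_mem π ha : π a ∈ (⊥ : Subgroup (G ⧸ center G))))) b)
  haveI := hPp.center_nontrivial
  have hd : 2 ∣ Nat.card (center P) :=
    ((hPp.to_subgroup (center P)).card_eq_or_dvd).resolve_left (Finite.one_lt_card).ne'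
  obtain ⟨c, hc⟩ := exists_prime_orderOf_dvd_card' 2 hd
  obtain ⟨u, hu, hue⟩ := (c : P).2
  have hu2 : orderOf (π u) = 2 := by rw [hue, Subgroup.orderOf_coe, Subgroup.orderOf_coe, hc]
  refine ⟨u, hu, fun hz => ?_, ?_, fun t ht => commutator_mem_of_mk_commute ?_⟩
  · rw [show π u = 1 from (QuotientGroup.eq_one_iff u).2 hz, orderOf_one] at hu2
    omega
  · exact (QuotientGroup.eq_one_iff _).1 (by
      show π (u * u) = 1
      rw [map_mul, ← pow_two, ← hu2, pow_orderOf_eq_one])
  · show π t * π u = π u * π t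
    rw [hue]
    exact congrArg Subtype.val (mem_center_iff.1 c.2 ⟨π t, mem_map_of_mem π ht⟩)

variable {u : G} (huT : u ∈ (T : Subgroup G)) (hu : u ∉ center G) (hu2 : u * u ∈ center G)
  (hcu : ∀ t ∈ (T : Subgroup G), ⁅t, u⁆ ∈ center G)

include huT hu hu2 hcu

theorem sq_mem_center {v : G} (hv : v ∈ (T : Subgroup G)) (hne : ¬ Commute u v) : v * v ∈ center G := by
  by_contra hc
  have h1 : Commute (v * v) u := by
    rw [Commute, SemiconjBy, ← commutatorElement_eq_one_iff_mul_comm, comm_mul_left (hcu v hv),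
      comm_sq (hcu v hv) hu2]
  exact hne (m.sylow_cent_comm hnab (mul_mem hv hv) hc huT hv h1 ((Commute.refl v).mul_left (Commute.refl v)))

theorem inverts_mem {v b : G} (hv : v ∈ (T : Subgroup G)) (hne : ¬ Commute u v) (hb : b ∈ (T : Subgroup G))
    (hub : Commute u b) : b * (v * b * v⁻¹) ∈ center G := by
  have h1 : ¬ Commute u (b * v) := fun h => hne (by
    have := hub.inv_right.mul_right h
    rwa [inv_mul_cancel_left] at this)
  have h2 := mul_mem (m.sq_mem_center T hnab huT hu hu2 hcu (mul_mem hb hv) h1)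
    (inv_mem (m.sq_mem_center T hnab huT hu hu2 hcu hv hne))
  rwa [show b * v * (b * v) * (v * v)⁻¹ = b * (v * b * v⁻¹) by group] at h2

theorem exists_not_commute : ∃ v ∈ (T : Subgroup G), ¬ Commute u v := by
  by_contra h
  push Not at h
  exact hu (m.mem_center_of_sylow hnab huT h)

theorem ab_of_admissible : Ab u := by
  obtain ⟨v, hv, hne⟩ := m.exists_not_commute T hnab huT hu hu2 hcu
  exact m.ab_of_commutator hne (hcu v hv)

/-- Rank at least two above every centraliser: the image is `SL(2, 2 ^ n)`. -/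
theorem false_of_rank
    (hall : ∀ u ∈ (T : Subgroup G), u ∉ center G → u * u ∈ center G → (∀ t ∈ (T : Subgroup G), ⁅t, u⁆ ∈ center G) →
      ∃ v ∈ (T : Subgroup G), ∃ w ∈ (T : Subgroup G), ¬ Commute u v ∧ ¬ Commute u w ∧ ¬ Commute u (v⁻¹ * w)) :
    False := by
  classical
  haveI : Fact (Nat.Prime 2) := ⟨Nat.prime_two⟩
  haveI := m.isSimple
  set π := QuotientGroup.mk' (center G) with hπ
  obtain ⟨v, hv, w, hw, hnv, hnw, hnvw⟩ := hall u huT hu hu2 hcu
  have hexp : ∀ t ∈ (T : Subgroup G), t * t ∈ center G := fun t ht => by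
    by_cases ht' : Commute u t
    swap
    · exact m.sq_mem_center T hnab huT hu hu2 hcu ht ht'
    have e1 := mk_inverts (m.inverts_mem T hnab huT hu hu2 hcu hv hnv ht ht')
    have e2 := mk_inverts (m.inverts_mem T hnab huT hu hu2 hcu hw hnw ht ht')
    have e3 := mk_inverts (m.inverts_mem T hnab huT hu hu2 hcu (mul_mem (inv_mem hv) hw) hnvw ht ht')
    refine (QuotientGroup.eq_one_iff _).1 ?_
    rw [QuotientGroup.mk_mul, QuotientGroup.mk_inv] at e3
    rw [QuotientGroup.mk_mul]
    set V := (v : G ⧸ center G)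
    set W := (w : G ⧸ center G)
    set B := (t : G ⧸ center G)
    have h4 : V⁻¹ * W * B * (V⁻¹ * W)⁻¹ = V⁻¹ * (W * B * W⁻¹) * V := by group
    rw [e2, e3, ← e1] at h4
    rw [show V⁻¹ * (V * B * V⁻¹) * V = B by group, e1] at h4
    exact eq_inv_iff_mul_eq_one.1 h4.symm
  have habq : ∀ {s t : G}, s ∈ (T : Subgroup G) → t ∈ (T : Subgroup G) →
      Commute (s : G ⧸ center G) (t : G ⧸ center G) := fun {s t} hs ht => by
    have hsq : ∀ {a : G}, a ∈ (T : Subgroup G) → (a : G ⧸ center G)⁻¹ = a := fun {a} ha =>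
      inv_eq_of_mul_eq_one_right (by rw [← QuotientGroup.mk_mul]; exact (QuotientGroup.eq_one_iff _).2 (hexp a ha))
    show (s : G ⧸ center G) * t = t * s
    rw [← QuotientGroup.mk_mul, ← hsq (mul_mem hs ht), QuotientGroup.mk_mul, mul_inv_rev, hsq hs, hsq ht]
  have hadm : ∀ {x : G}, x ∈ (T : Subgroup G) → ∀ t ∈ (T : Subgroup G), ⁅t, x⁆ ∈ center G :=
    fun hx t ht => commutator_mem_of_mk_commute (habq ht hx)
  have hAb : ∀ {x : G}, x ∈ (T : Subgroup G) → x ∉ center G → Ab x := fun hxT hx =>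
    m.ab_of_admissible T hnab hxT hx (hexp _ hxT) (hadm hxT)
  -- centralisers of involutions modulo the centre are abelian
  let H : Subgroup G := (centralizer (((T : Subgroup G).map π : Subgroup (G ⧸ center G)) : Set (G ⧸ center G))).comap π
  have hcent : ∀ {x : G}, x ∈ (T : Subgroup G) → x ∉ center G → Cn x ≤ H := by
    intro x hxT hx a ha
    obtain ⟨v, hv, w, hw, hnv, hnw, hnvw⟩ := hall x hxT hx (hexp x hxT) (hadm hxT)
    have hab := hAb hxT hx
    have hconj : ∀ {s : G}, s ∈ (T : Subgroup G) → ∀ {o : G}, o ∈ Cn x → s * o * s⁻¹ ∈ Cn x := by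
      intro s hs o ho
      refine mem_Cn.2 ?_
      have e : x = (⁅s, x⁆)⁻¹ * (s * x * s⁻¹) := by simp only [commutatorElement_def]; group
      rw [e]
      exact (center_commute (inv_mem (hadm hxT s hs)) _).mul_left (commute_conj_iff.2 (mem_Cn.1 ho))
    have hcc : ∀ {a b : G}, a ∈ Cn x → b ∈ Cn x → Commute a b := fun ha hb =>
      hab _ _ (mem_Cn.1 ha) (mem_Cn.1 hb)
    -- elements fixed by one element outside are fixed by `T`
    have hfix : ∀ {o σ : G}, o ∈ Cn x → σ ∈ (T : Subgroup G) → ¬ Commute x σ → Commute σ o →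
        ∀ t ∈ (T : Subgroup G), Commute t o := by
      intro o σ ho hσ hxσ hσo t ht
      by_cases hoc : o ∈ center G
      · exact commute_center hoc t
      set D := (T : Subgroup G) ⊓ Cn o
      have hxD : x ∈ D := ⟨hxT, mem_Cn.2 (mem_Cn.1 ho).symm⟩
      have hDn : normalizer (D : Set G) ≠ ⊤ := fun e => by
        haveI : D.Normal := normalizer_eq_top_iff.1 e
        by_cases hDtop : D = ⊤
        · refine m.notSolvable ?_
          haveI : Group.IsNilpotent G := by
            haveI := (T.2.to_le (inf_le_left : D ≤ T)).isNilpotent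
            exact Group.nilpotent_of_mulEquiv ((MulEquiv.subgroupCongr hDtop).trans Subgroup.topEquiv)
          infer_instance
        exact hx (m.le_center hDtop hxD)
      have hnorm : ∀ g : G, (∀ d ∈ D, g * d * g⁻¹ ∈ D) → g ∈ normalizer (D : Set G) := fun g hg => by
        rw [mem_normalizer_iff_map_conj_eq]
        exact eq_of_le_of_card_ge (by rintro _ ⟨d, hd, rfl⟩; exact hg d hd)
          (le_of_eq (card_map_of_injective (MulAut.conj g).injective).symm)
      have hle := m.toHyp.le_Cn hDn (x := o)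
        (hnorm o fun d hd => by rw [(mem_Cn.1 hd.2).eq, mul_inv_cancel_right]; exact hd)
        (le_normalizer hxD) (le_normalizer (⟨hσ, mem_Cn.2 hσo.symm⟩ : σ ∈ D)) (mem_Cn.1 ho).symm hσo.symm hxσ
      refine (mem_Cn.1 (hle (hnorm t fun d hd => ⟨(T : Subgroup G).mul_mem ((T : Subgroup G).mul_mem ht hd.1) ((T : Subgroup G).inv_mem ht), mem_Cn.2 ?_⟩))).symm
      rw [show t * d * t⁻¹ = ⁅t, d⁆ * d by simp only [commutatorElement_def]; group]
      exact (commute_center (hadm hd.1 t ht) o).mul_right (mem_Cn.1 hd.2)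
    have hsq : ∀ {o : G}, o ∈ Cn x → ∀ t ∈ (T : Subgroup G), Commute t (o * o) := by
      intro o ho t ht
      have hp : ∀ {s : G}, s ∈ (T : Subgroup G) → ¬ Commute x s → ∀ t ∈ (T : Subgroup G),
          Commute t (o * (s * o * s⁻¹)) := fun {s} hs hxs =>
        hfix (mul_mem ho (hconj hs ho)) hs hxs (by
          show s * (o * (s * o * s⁻¹)) = o * (s * o * s⁻¹) * s
          have e : s * (s * o * s⁻¹) = o * s := by
            rw [show s * (s * o * s⁻¹) = s * s * o * s⁻¹ by group, (center_commute (hexp s hs) o).eq]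
            group
          calc s * (o * (s * o * s⁻¹)) = (s * o * s⁻¹) * (s * (s * o * s⁻¹)) := by group
            _ = (s * o * s⁻¹) * o * s := by rw [e]; group
            _ = _ := by rw [(hcc (hconj hs ho) ho).eq])
      have e : v * o * v⁻¹ * (w * o * w⁻¹) = o * ((v⁻¹ * w) * o * (v⁻¹ * w)⁻¹) := by
        have h := (hp (mul_mem (inv_mem hv) hw) hnvw v hv).eq
        calc v * o * v⁻¹ * (w * o * w⁻¹) = v * (o * ((v⁻¹ * w) * o * (v⁻¹ * w)⁻¹)) * v⁻¹ := by group
          _ = _ := by rw [h, mul_inv_cancel_right]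
      have h3 := hp (mul_mem (inv_mem hv) hw) hnvw t ht
      rw [← e] at h3
      have h4 := ((hp hv hnv t ht).mul_right (hp hw hnw t ht)).mul_right h3.inv_right
      have hvo := hconj hv ho
      rwa [show o * (v * o * v⁻¹) * (o * (w * o * w⁻¹)) * (v * o * v⁻¹ * (w * o * w⁻¹))⁻¹ = o * o by
        rw [show o * (v * o * v⁻¹) * (o * (w * o * w⁻¹)) = o * ((v * o * v⁻¹) * o) * (w * o * w⁻¹) by group,
          (hcc hvo ho).eq]
        group] at h4
    have hH : ∀ {g : G}, (∀ t ∈ (T : Subgroup G), Commute t g) → g ∈ H := fun hg => by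
      refine mem_comap.2 (mem_centralizer_iff.2 ?_)
      rintro _ ⟨t, ht, rfl⟩
      exact ((hg t ht).map π).eq
    obtain ⟨k, n, hn, hkn⟩ := Nat.exists_eq_two_pow_mul_odd (orderOf_pos a).ne'
    have hTX : (T : Subgroup G) ≤ (Cn (π x)).comap π := fun t ht => mem_Cn.2 ((habq hxT ht))
    refine mem_of_coprime_pow (a := 2 ^ k) (b := n) ((Nat.coprime_two_left.2 hn).pow_left k) ?_ ?_
    · set o := a ^ (2 ^ k)
      have ho : o ∈ Cn x := pow_mem ha _
      refine mem_of_coprime_pow (a := 2) (b := n) (Nat.coprime_two_left.2 hn) ?_ ?_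
      · rw [pow_two]; exact hH (hsq ho)
      · rw [← pow_mul, ← hkn, pow_orderOf_eq_one]; exact one_mem _
    · set y := a ^ n with hy
      have hyC : y ∈ Cn x := pow_mem ha _
      obtain ⟨h, hh, hht⟩ := GW.exists_conj_mem (p := 2) T hTX
        (show y ∈ (Cn (π x)).comap π from mem_Cn.2 ((mem_Cn.1 hyC).map π))
        ⟨k, by rw [hy, ← pow_mul, mul_comm, ← hkn, pow_orderOf_eq_one]⟩
      obtain ⟨s, hs, hc, -⟩ := exists_mem_same T (hexp x hxT) (hadm hxT)
        (commutator_mem_of_mk_commute (mem_Cn.1 hh).symm)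
      -- `h` is an element of `T` times one of `Cn x`
      have e : h * y * h⁻¹ = s * y * s⁻¹ := by
        calc h * y * h⁻¹ = s * ((s⁻¹ * h) * y) * (s⁻¹ * h)⁻¹ * s⁻¹ := by group
          _ = _ := by rw [(hcc hc hyC).eq]; group
      rw [e] at hht
      have hyT : y ∈ (T : Subgroup G) := by
        have := mul_mem (mul_mem (inv_mem hs) hht) hs
        rwa [show s⁻¹ * (s * y * s⁻¹) * s = y by group] at this
      refine mem_comap.2 (mem_centralizer_iff.2 ?_)
      rintro _ ⟨t, ht, rfl⟩
      exact (habq ht hyT).eq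
  set Tq : Sylow 2 (G ⧸ center G) := T.mapSurjective (QuotientGroup.mk'_surjective _)
  have hTq : (Tq : Subgroup (G ⧸ center G)) = (T : Subgroup G).map π := Sylow.coe_mapSurjective _ _
  have hQ : PSL2.AbInv.Hyp (G ⧸ center G) := by
    intro q hq
    obtain ⟨c, -, hc⟩ := GW.exists_conj_mem (p := 2) Tq (H := ⊤) le_top (mem_top q)
      ⟨1, by rw [pow_one, ← hq]; exact pow_orderOf_eq_one _⟩
    rw [hTq] at hc
    obtain ⟨x, hxT, hxe⟩ := hc
    have hx : x ∉ center G := fun h => by
      rw [show π x = 1 from (QuotientGroup.eq_one_iff x).2 h, eq_comm, conj_eq_one_iff] at hxe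
      rw [hxe, orderOf_one] at hq
      omega
    have hxab : ∀ A B : G ⧸ center G, Commute (π x) A → Commute (π x) B → Commute A B := by
      intro A B hA hB
      obtain ⟨a, rfl⟩ := QuotientGroup.mk'_surjective (center G) A
      obtain ⟨b, rfl⟩ := QuotientGroup.mk'_surjective (center G) B
      obtain ⟨s, hs, hsa, -⟩ := exists_mem_same T (hexp x hxT) (hadm hxT) (commutator_mem_of_mk_commute hA.symm)
      obtain ⟨t, ht, htb, -⟩ := exists_mem_same T (hexp x hxT) (hadm hxT) (commutator_mem_of_mk_commute hB.symm)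
      rw [show a = s * (s⁻¹ * a) by group, show b = t * (t⁻¹ * b) by group, map_mul, map_mul]
      have hmixed : ∀ {s c : G}, s ∈ (T : Subgroup G) → c ∈ Cn x → Commute (π s) (π c) := fun {s c} hs hc =>
        mem_centralizer_iff.1 (mem_comap.1 (hcent hxT hx hc)) _ (mem_map_of_mem π hs)
      exact ((habq hs ht).mul_right (hmixed hs htb)).mul_left ((hmixed ht hsa).symm.mul_right
        ((hAb hxT hx _ _ (mem_Cn.1 hsa) (mem_Cn.1 htb)).map π))
    refine ⟨⟨fun A B => Subtype.ext ?_⟩⟩
    have h1 := hxab (c * A * c⁻¹) (c * B * c⁻¹) (hxe ▸ commute_conj_iff.2 (mem_Cn.1 A.2))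
      (hxe ▸ commute_conj_iff.2 (mem_Cn.1 B.2))
    exact (commute_conj_iff.1 h1).eq
  have hnn : ¬ (Tq : Subgroup (G ⧸ center G)).Normal := fun hn => by
    rcases hn.eq_bot_or_eq_top with e | e
    · exact m.not_isCyclic_sylow Tq (by rw [e]; infer_instance)
    · haveI := Tq.2.isNilpotent
      exact m.not_isSolvable_quotient (Group.isSolvable_of_surjective
        (f := ((MulEquiv.subgroupCongr e).trans Subgroup.topEquiv).toMonoidHom)
        ((MulEquiv.subgroupCongr e).trans Subgroup.topEquiv).surjective)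
  obtain ⟨F, iF, iF', A, iA, iA', -, -, ⟨e⟩⟩ := PSL2.AbInv.exists_equiv hQ Tq (m.not_isCyclic_sylow Tq) hnn
  refine m.false_of_ab_involution T (fun x hx hx' _ => hAb hx hx') (oddCent_sl_prod e ?_)
  rcases (inferInstance : (center (G ⧸ center G)).Normal).eq_bot_or_eq_top with e | e
  · exact e
  · exact absurd (Group.isSolvable_of_comm fun a b => mem_center_iff.1 (e ▸ mem_top b) a) m.not_isSolvable_quotient

/-- Index two: the image has dihedral Sylow 2-subgroups. -/
theorem false_of_index_two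
    (hidx : ∀ v ∈ (T : Subgroup G), ∀ w ∈ (T : Subgroup G), ¬ Commute u v → ¬ Commute u w → Commute u (v⁻¹ * w)) :
    False := by
  classical
  haveI : Fact (Nat.Prime 2) := ⟨Nat.prime_two⟩
  haveI := m.isSimple
  set π := QuotientGroup.mk' (center G) with hπ
  obtain ⟨v, hv, hnv⟩ := m.exists_not_commute T hnab huT hu hu2 hcu
  have hBab : ∀ {a b : G}, a ∈ (T : Subgroup G) → b ∈ (T : Subgroup G) → Commute u a → Commute u b → Commute a b :=
    fun ha hb => m.sylow_cent_comm hnab huT hu ha hb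
  have hnz : ∀ {b : G}, b ∈ (T : Subgroup G) → Commute u b → b ∉ center G → ¬ Commute b v := fun {b} hb hub hbc h =>
    hnv (m.sylow_cent_comm hnab hb hbc huT hv hub.symm h)
  set Bq := ((T : Subgroup G) ⊓ Cn u).map π with hBq
  set Tq : Sylow 2 (G ⧸ center G) := T.mapSurjective (QuotientGroup.mk'_surjective _)
  have hTq : (Tq : Subgroup (G ⧸ center G)) = (T : Subgroup G).map π := Sylow.coe_mapSurjective _ _
  have hBT : Bq ≤ (Tq : Subgroup (G ⧸ center G)) := hTq ▸ map_mono inf_le_left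
  have hvB : π v ∉ Bq := by
    rintro ⟨b, hb, hbe⟩
    have hz : b⁻¹ * v ∈ center G := QuotientGroup.eq.1 hbe
    refine hnv ?_
    have := (mem_Cn.1 hb.2).mul_right (commute_center hz u)
    rwa [mul_inv_cancel_left] at this
  have hcase : ∀ q ∈ (Tq : Subgroup (G ⧸ center G)), q ∈ Bq ∨ (π v)⁻¹ * q ∈ Bq := by
    intro q hq
    rw [hTq] at hq
    obtain ⟨t, ht, rfl⟩ := hq
    by_cases h : Commute u t
    · exact Or.inl (mem_map_of_mem π ⟨ht, mem_Cn.2 h⟩)
    · right
      rw [← map_inv, ← map_mul]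
      exact mem_map_of_mem π ⟨(T : Subgroup G).mul_mem ((T : Subgroup G).inv_mem hv) ht, mem_Cn.2 (hidx v hv t ht hnv h)⟩
  have hvv : π v * π v = 1 := by
    rw [← map_mul]; exact (QuotientGroup.eq_one_iff _).2 (m.sq_mem_center T hnab huT hu hu2 hcu hv hnv)
  have hnormal : ∀ M : Subgroup (G ⧸ center G), M.Normal → M.index ≠ 2 := fun M hM hi => by
    rcases hM.eq_bot_or_eq_top with rfl | rfl
    · rw [Subgroup.index_bot] at hi
      refine m.not_isSolvable_quotient ?_
      haveI : IsCyclic (G ⧸ center G) := isCyclic_of_prime_card (p := 2) hi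
      exact Group.isSolvable_of_comm fun a b => (IsCyclic.commGroup (α := G ⧸ center G)).mul_comm a b
    · rw [Subgroup.index_top] at hi; omega
  have hadm : ∀ {b : G}, b ∈ (T : Subgroup G) → Commute u b → b * b ∈ center G →
      ∀ t ∈ (T : Subgroup G), ⁅t, b⁆ ∈ center G := fun {b} hb hub hb2 t ht => by
    by_cases h : Commute u t
    · rw [commutatorElement_eq_one_iff_mul_comm.2 (hBab ht hb h hub).eq]; exact one_mem _
    · refine commutator_mem_of_mk_commute ?_
      have e := mk_inverts (m.inverts_mem T hnab huT hu hu2 hcu ht h hb hub)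
      rw [inv_eq_of_mul_eq_one_right (by
        rw [← QuotientGroup.mk_mul]; exact (QuotientGroup.eq_one_iff _).2 hb2 :
          (b : G ⧸ center G) * b = 1)] at e
      exact mul_inv_eq_iff_eq_mul.1 e
  -- the image of `B` has one involution
  have huniq : ∀ b ∈ (T : Subgroup G), Commute u b → b ∉ center G → b * b ∈ center G → u⁻¹ * b ∈ center G := by
    intro b hb hub hbc hb2
    obtain ⟨q, hq⟩ : ∃ q, q * π v * q⁻¹ ∈ Bq := by
      by_contra hex
      push Not at hex
      obtain ⟨M, hM, hMi, -⟩ := Transfer.exists_index_two_of_involution Tq Bq hBT (by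
        refine relIndex_eq_two_iff.2 ⟨π v, hTq ▸ mem_map_of_mem π hv, fun c hc => ?_⟩
        rcases hcase c hc with h | h
        · exact Or.inr ⟨h, fun h' => hvB (by
            simpa using mul_mem (inv_mem h) h')⟩
        · by_cases hcB : c ∈ Bq
          · exact Or.inr ⟨hcB, fun h' => hvB (by simpa using mul_mem (inv_mem hcB) h')⟩
          · refine Or.inl ⟨?_, hcB⟩
            obtain ⟨d, hd, hde⟩ := h
            have hcv : c = π v * π d := by rw [hde, mul_inv_cancel_left]
            rw [hcv]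
            have e := mk_inverts (m.inverts_mem T hnab huT hu hu2 hcu hv hnv hd.1 (mem_Cn.1 hd.2))
            have e' : π v * π d * π v = (π d)⁻¹ := by
              have h0 : (π v)⁻¹ = π v := inv_eq_of_mul_eq_one_right hvv
              calc π v * π d * π v = π v * π d * (π v)⁻¹ := by rw [h0]
                _ = _ := e
            rw [e']
            exact inv_mem (mem_map_of_mem π hd)) (π v) (by rw [pow_two, hvv]) (hTq ▸ mem_map_of_mem π hv) hvB hex
      exact hnormal M hM hMi
    obtain ⟨g, rfl⟩ := QuotientGroup.mk'_surjective (center G) q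
    rw [← map_inv, ← map_mul, ← map_mul] at hq
    obtain ⟨b₀, hb₀, hb₀e⟩ := hq
    have hz : b₀⁻¹ * (g * v * g⁻¹) ∈ center G := QuotientGroup.eq.1 hb₀e
    have hv2 : v * v ∈ center G := m.sq_mem_center T hnab huT hu hu2 hcu hv hnv
    have hb₀2 : b₀ * b₀ ∈ center G := (QuotientGroup.eq_one_iff _).1 (by
      show π (b₀ * b₀) = 1
      rw [map_mul, hb₀e, ← map_mul, show g * v * g⁻¹ * (g * v * g⁻¹) = g * (v * v) * g⁻¹ by group,
        (commute_center hv2 g).eq, mul_inv_cancel_right]
      exact (QuotientGroup.eq_one_iff _).2 hv2)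
    have hcomm₀ := hadm hb₀.1 (mem_Cn.1 hb₀.2) hb₀2
    have hval : ∀ {w : G}, w ∈ (T : Subgroup G) → ⁅w, v⁆ ∈ center G → ¬ Commute w v → ⁅w, v⁆ = ⁅v, b₀⁆ := by
      intro w hw hwc hwv
      have e : ⁅g * w * g⁻¹, b₀⁆ = ⁅w, v⁆ := by
        set z := b₀⁻¹ * (g * v * g⁻¹) with hzdef
        have e1 : b₀ = g * v * g⁻¹ * z⁻¹ := by rw [hzdef]; group
        calc ⁅g * w * g⁻¹, b₀⁆
            = (g * w * g⁻¹) * (g * v * g⁻¹) * (z⁻¹ * (g * w * g⁻¹)⁻¹) * (z * (g * v * g⁻¹)⁻¹) := by
              rw [e1, commutatorElement_def]; group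
          _ = g * ⁅w, v⁆ * g⁻¹ := by
              rw [(center_commute (inv_mem hz) _).eq, commutatorElement_def]; group
          _ = _ := by rw [(commute_center hwc g).eq, mul_inv_cancel_right]
      obtain ⟨t, ht, -, hte⟩ := exists_mem_same T hb₀2 hcomm₀ (x := g * w * g⁻¹) (e ▸ hwc)
      rw [e] at hte
      have hut : ¬ Commute u t := fun h => hwv (commutatorElement_eq_one_iff_mul_comm.1 (by
        rw [← hte, commutatorElement_eq_one_iff_mul_comm.2 (hBab ht hb₀.1 h (mem_Cn.1 hb₀.2)).eq]))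
      have h1 : ⁅v⁻¹ * t, b₀⁆ = 1 := commutatorElement_eq_one_iff_mul_comm.2
        (hBab (mul_mem (inv_mem hv) ht) hb₀.1 (hidx v hv t ht hnv hut) (mem_Cn.1 hb₀.2)).eq
      rw [← hte]
      nth_rw 1 [show t = v * (v⁻¹ * t) by group]
      rw [comm_mul_left (h1 ▸ one_mem _), h1, mul_one]
    have hbv : ⁅b, v⁆ ∈ center G := by
      rw [← commutatorElement_inv]; exact inv_mem (hadm hb hub hb2 v hv)
    have huv : ⁅u, v⁆ ∈ center G := by
      rw [← commutatorElement_inv]; exact inv_mem (hcu v hv)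
    have e : ⁅b, v⁆ = ⁅u, v⁆ :=
      (hval hb hbv (hnz hb hub hbc)).trans (hval huT huv hnv).symm
    by_contra hc
    refine hnz (mul_mem (inv_mem huT) hb) ((Commute.refl u).inv_right.mul_right hub) hc ?_
    refine commutatorElement_eq_one_iff_mul_comm.1 ?_
    have h1 : ⁅b, v⁆ = u * ⁅u⁻¹ * b, v⁆ * u⁻¹ * ⁅u, v⁆ := by simp only [commutatorElement_def]; group
    rwa [e, right_eq_mul, conj_eq_one_iff] at h1
  -- the image of `B` is cyclic
  have huq : π u ≠ 1 := fun e => hu ((QuotientGroup.eq_one_iff u).1 e)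
  have hcyc : IsCyclic Bq := by
    refine Bicyclic2.isCyclic_of_involution (Tq.2.to_le hBT) (fun a b => ?_) (z := ⟨π u,
      mem_map_of_mem π ⟨huT, mem_Cn.2 (Commute.refl u)⟩⟩) fun a ha => ?_
    · obtain ⟨⟨_, a, ha, rfl⟩, ⟨_, b, hb, rfl⟩⟩ := a, b
      exact Subtype.ext ((hBab ha.1 hb.1 (mem_Cn.1 ha.2) (mem_Cn.1 hb.2)).map π).eq
    · obtain ⟨_, b, hb, rfl⟩ := a
      have h2 : b * b ∈ center G := (QuotientGroup.eq_one_iff _).1 (congrArg Subtype.val ha : π b * π b = 1)
      by_cases hbc : b ∈ center G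
      · exact Or.inl (Subtype.ext ((QuotientGroup.eq_one_iff b).2 hbc))
      · exact Or.inr (Subtype.ext
          ((QuotientGroup.eq.2 (huniq b hb.1 (mem_Cn.1 hb.2) hbc h2) : (u : G ⧸ center G) = b).symm))
  obtain ⟨⟨x, hxB⟩, hgen⟩ := hcyc.exists_generator
  have hgen' : ∀ q ∈ Bq, q ∈ zpowers x := fun q hq => by
    obtain ⟨j, hj⟩ := mem_zpowers_iff.1 (hgen ⟨q, hq⟩)
    exact mem_zpowers_iff.2 ⟨j, congrArg Subtype.val hj⟩
  set X : (Tq : Subgroup (G ⧸ center G)) := ⟨x, hBT hxB⟩
  set V : (Tq : Subgroup (G ⧸ center G)) := ⟨π v, hTq ▸ mem_map_of_mem π hv⟩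
  have hmem : ∀ {q : (Tq : Subgroup (G ⧸ center G))}, q ∈ zpowers X ↔ (q : G ⧸ center G) ∈ zpowers x := fun {q} => by
    simp only [mem_zpowers_iff, Subtype.ext_iff, SubgroupClass.coe_zpow, X]
  obtain ⟨eD⟩ := nonempty_dihedral X V (Subtype.ext hvv) (Subtype.ext (by
      obtain ⟨b, hb, hbe⟩ := hxB
      show π v * x * (π v)⁻¹ = x⁻¹
      rw [← hbe]
      exact mk_inverts (m.inverts_mem T hnab huT hu hu2 hcu hv hnv hb.1 (mem_Cn.1 hb.2))))
    (fun h => hvB ((zpowers_le.2 hxB) (hmem.1 h)))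
    (fun q => (hcase q q.2).imp (fun h => hmem.2 (hgen' _ h)) (fun h => hmem.2 (hgen' _ h)))
  have hn : 2 ≤ orderOf X := by
    by_contra h
    have h1 : orderOf x = 1 := by
      have := orderOf_pos X
      rw [← Subgroup.orderOf_coe] at h this
      show orderOf ((X : (Tq : Subgroup (G ⧸ center G))) : G ⧸ center G) = 1
      omega
    rw [orderOf_eq_one_iff] at h1
    have h2 := hgen' _ (mem_map_of_mem π (⟨huT, mem_Cn.2 (Commute.refl u)⟩ : u ∈ (T : Subgroup G) ⊓ Cn u))
    rw [h1, zpowers_one_eq_bot, mem_bot] at h2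
    exact huq h2
  haveI : Group.IsPerfect (G ⧸ center G) := ⟨by
    rcases (inferInstance : (commutator (G ⧸ center G)).Normal).eq_bot_or_eq_top with e | e
    · exact absurd (Group.isSolvable_of_comm fun a b => commutatorElement_eq_one_iff_mul_comm.1 (mem_bot.1
        (e ▸ commutator_mem_commutator (mem_top a) (mem_top b)))) m.not_isSolvable_quotient
    · exact e⟩
  have hO : Cfsg.oddCore (G ⧸ center G) = ⊥ := by
    rcases (inferInstance : (Cfsg.oddCore (G ⧸ center G)).Normal).eq_bot_or_eq_top with e | e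
    · exact e
    refine absurd (S0205.result ?_) m.not_isSolvable_quotient
    have := PCore.odd_card_oddCore (G := G ⧸ center G)
    rwa [e, card_top] at this
  set eQ := (QuotientGroup.quotientMulEquivOfEq hO).trans QuotientGroup.quotientBot
  refine m.false_of_ab_involution T (fun t ht htc ht2 => ?_) ?_
  · by_cases h : Commute u t
    · have hz := huniq t ht h htc ht2
      have := (m.ab_of_admissible T hnab huT hu hu2 hcu).mul_center hz
      rwa [mul_inv_cancel_left] at this
    · exact m.ab_of_commutator (fun e => h e.symm) (by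
        show ⁅u, t⁆ ∈ center G
        rw [← commutatorElement_inv]; exact inv_mem (hcu t ht))
  rcases S0483.result Tq _ hn ⟨eD⟩ with ⟨F, iF, iF', -, -, ⟨e⟩⟩ | ⟨⟨e⟩⟩
  · exact oddCent_psl.of_equiv (eQ.symm.trans e)
  · exact oddCent_alt_seven.of_equiv (eQ.symm.trans e)

omit huT hu hu2 hcu in
/-- No minimal non-CA group has a nonabelian Sylow 2-subgroup. -/
theorem false_of_nonabelian : False := by
  obtain ⟨u, huT, hu, hu2, hcu⟩ := m.exists_central_invol T hnab
  by_cases h : ∀ u ∈ (T : Subgroup G), u ∉ center G → u * u ∈ center G → (∀ t ∈ (T : Subgroup G), ⁅t, u⁆ ∈ center G) →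
      ∃ v ∈ (T : Subgroup G), ∃ w ∈ (T : Subgroup G), ¬ Commute u v ∧ ¬ Commute u w ∧ ¬ Commute u (v⁻¹ * w)
  · exact m.false_of_rank T hnab huT hu hu2 hcu h
  push Not at h
  obtain ⟨u, huT, hu, hu2, hcu, hidx⟩ := h
  exact m.false_of_index_two T hnab huT hu hu2 hcu hidx

end MNC

/-- Sylow 2-subgroups of minimal non-CA groups are abelian. -/
theorem MNC.sylow_comm [Finite G] (m : MNC G) (T : Sylow 2 G) :
    ∀ a ∈ (T : Subgroup G), ∀ b ∈ (T : Subgroup G), Commute a b := by
  by_contra h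
  push Not at h
  exact m.false_of_nonabelian T h

end Cfsg.Agent.MinNonCA
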