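import Cfsg.Agent.Lib.MinNonCA.Klein
import Cfsg.Agent.Lib.PSL2.Centralizer
import Cfsg.Agent.Lib.GW.Cores
import Mathlib.GroupTheory.SpecificGroups.Alternating.Centralizer

/-!
# Minimal non-CA groups: when all involution lifts have abelian centralisers

Then a bad element has odd prime order modulo the centre, is not conjugate to its inverse there, and has an
abelian maximal centraliser.  This does not occur in `PSL(2, q)`, `A₇` or `SL(2, 2 ^ n)`.
-/

set_option autoImplicit false
set_option linter.unusedSectionVars false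
set_option linter.style.haveILetI false

namespace Cfsg.Agent.MinNonCA

open Subgroup Equiv
open scoped commutatorElement MatrixGroups

/-- An element of odd prime order is inverted by some element or has abelian centraliser. -/
def OddCent (H : Type*) [Group H] : Prop :=
  ∀ q : H, (orderOf q).Prime → orderOf q ≠ 2 →
    (∃ g, g * q * g⁻¹ = q⁻¹) ∨ ∀ a b, Commute q a → Commute q b → Commute a b

theorem OddCent.of_equiv {H K : Type*} [Group H] [Group K] (h : OddCent H) (e : K ≃* H) : OddCent K := by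
  intro q hq hq2
  rw [← e.orderOf_eq q] at hq hq2
  rcases h (e q) hq hq2 with ⟨g, hg⟩ | hc
  · exact Or.inl ⟨e.symm g, e.injective (by simp [hg])⟩
  · exact Or.inr fun a b ha hb => e.injective (by
      rw [map_mul, map_mul]; exact (hc _ _ (ha.map e.toMonoidHom) (hb.map e.toMonoidHom)).eq)

theorem oddCent_alt_seven : OddCent (alternatingGroup (Fin 7)) := by
  classical
  intro q hq hq2
  set σ : Perm (Fin 7) := (q : Perm (Fin 7)) with hσ
  rw [← Subgroup.orderOf_coe] at hq hq2
  obtain ⟨k, hk⟩ := Perm.cycleType_prime_order hq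
  by_cases hle : centralizer {σ} ≤ alternatingGroup (Fin 7)
  · right
    obtain ⟨-, hsum, hcount⟩ := Perm.centralizer_le_alternating_iff.1 hle
    have hk0 : k = 0 := by
      have := hcount (orderOf σ)
      rw [hk, Multiset.count_replicate_self] at this
      omega
    subst hk0
    have hs7 : orderOf σ ≤ 7 := by
      have h1 : σ.cycleType.sum ≤ 7 := by
        rw [Perm.sum_cycleType]
        exact (Finset.card_le_univ _).trans_eq (Fintype.card_fin 7)
      rw [hk] at h1; simpa only [zero_add, Multiset.replicate_one, Multiset.sum_singleton] using h1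
    have h7 : orderOf σ = 7 := by
      rw [hk, Fintype.card_fin] at hsum
      simp only [zero_add, Multiset.replicate_one, Multiset.sum_singleton] at hsum
      interval_cases h : orderOf σ <;> first | rfl | omega | norm_num at hq
    have hcard : Nat.card (centralizer {σ}) = 7 := by
      rw [Perm.nat_card_centralizer, hk, h7]
      simp
    haveI : Fact (Nat.Prime 7) := ⟨by norm_num⟩
    haveI : IsCyclic (centralizer {σ}) := isCyclic_of_prime_card hcard
    intro a b ha hb
    have hmem : ∀ {a : alternatingGroup (Fin 7)}, Commute q a → (a : Perm (Fin 7)) ∈ centralizer {σ} :=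
      fun {a} ha => mem_Cn.2 (ha.map (alternatingGroup (Fin 7)).subtype)
    letI := IsCyclic.commGroup (α := centralizer {σ})
    exact Subtype.ext ((congrArg Subtype.val
      (mul_comm (⟨_, hmem ha⟩ : centralizer {σ}) ⟨_, hmem hb⟩) :
        (a : Perm (Fin 7)) * b = (b : Perm (Fin 7)) * a))
  · left
    obtain ⟨c, hc, hcA⟩ := SetLike.not_le_iff_exists.1 hle
    obtain ⟨g, hg⟩ := isConj_iff.1
      (Perm.isConj_iff_cycleType_eq.2 (Perm.cycleType_inv σ).symm : IsConj σ σ⁻¹)
    by_cases hgA : g ∈ alternatingGroup (Fin 7)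
    · exact ⟨⟨g, hgA⟩, Subtype.ext hg⟩
    refine ⟨⟨g * c, ?_⟩, Subtype.ext ?_⟩
    · rw [Perm.mem_alternatingGroup, map_mul] at *
      rcases Int.units_eq_one_or (Perm.sign g) with e | e
      · exact absurd e hgA
      rcases Int.units_eq_one_or (Perm.sign c) with e' | e'
      · exact absurd e' hcA
      rw [e, e']; decide
    · show g * c * σ * (g * c)⁻¹ = σ⁻¹
      rw [mul_inv_rev, show g * c * σ * (c⁻¹ * g⁻¹) = g * (c * σ * c⁻¹) * g⁻¹ by group,
        ← (mem_Cn.1 hc).eq, mul_inv_cancel_right, hg]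

section SL

variable {F : Type} [Field F] [Fintype F]

theorem oddCent_psl :
    OddCent (Matrix.ProjectiveSpecialLinearGroup (Fin 2) F) := by
  show OddCent (SL(2, F) ⧸ center SL(2, F))
  intro q hq hq2
  right
  intro a b ha hb
  set r := orderOf q with hr
  obtain ⟨r', hr'⟩ := hq.odd_of_ne_two hq2
  have hcen : ∀ c ∈ center SL(2, F), c * c = 1 := fun c hc => by
    have h1 : (⟨c, hc⟩ : center SL(2, F)) ^ Nat.card (center SL(2, F)) = 1 := pow_card_eq_one'
    have h2 : Nat.card (center SL(2, F)) ∣ 2 := PSL2.card_center (F := F) ▸ Nat.gcd_dvd_left _ _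
    have h3 : (⟨c, hc⟩ : center SL(2, F)) ^ 2 = 1 :=
      orderOf_dvd_iff_pow_eq_one.1 ((orderOf_dvd_of_pow_eq_one h1).trans h2)
    rw [← pow_two]
    exact congrArg Subtype.val h3
  obtain ⟨X₀, rfl⟩ := QuotientGroup.mk_surjective q
  obtain ⟨H, rfl⟩ := QuotientGroup.mk_surjective a
  obtain ⟨K, rfl⟩ := QuotientGroup.mk_surjective b
  -- a lift of order dividing `r`
  set X := X₀ ^ (r + 1) with hX
  have hXr : X ^ r = 1 := by
    have h1 : X₀ ^ r ∈ center SL(2, F) := (QuotientGroup.eq_one_iff _).1 (by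
      rw [QuotientGroup.mk_pow, hr, pow_orderOf_eq_one])
    rw [hX, ← pow_mul, mul_comm, pow_mul, show r + 1 = 2 * (r' + 1) by omega, pow_mul, pow_two,
      hcen _ h1, one_pow]
  have hXq : (X : SL(2, F) ⧸ center SL(2, F)) = X₀ := by
    rw [hX, QuotientGroup.mk_pow, pow_succ, hr, pow_orderOf_eq_one, one_mul]
  have hXc : X ∉ center SL(2, F) := fun hc => hq.one_lt.ne' (by
    rw [hr, ← hXq, (QuotientGroup.eq_one_iff X).2 hc, orderOf_one])
  have hlift : ∀ {H : SL(2, F)}, Commute (X₀ : SL(2, F) ⧸ center SL(2, F)) H → Commute H X := fun {H} ha => by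
    set c := H * X * H⁻¹ * X⁻¹ with hc
    have hcm : c ∈ center SL(2, F) := (QuotientGroup.eq_one_iff _).1 (by
      rw [hc, QuotientGroup.mk_mul, QuotientGroup.mk_mul, QuotientGroup.mk_mul, QuotientGroup.mk_inv,
        QuotientGroup.mk_inv, hXq, ← ha.eq]
      group)
    have e : H * X * H⁻¹ = c * X := by rw [hc]; group
    have h2 : c ^ r = 1 := by
      have e1 : (c * X) ^ r = 1 := by rw [← e, conj_pow, hXr, mul_one, mul_inv_cancel]
      rwa [(center_commute hcm X).mul_pow, hXr, mul_one] at e1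
    have h3 : c = 1 := by
      rw [show r = 2 * r' + 1 by omega, pow_succ, pow_mul, pow_two, hcen c hcm, one_pow, one_mul] at h2
      exact h2
    rw [h3, one_mul] at e
    exact mul_inv_eq_iff_eq_mul.1 e
  exact (PSL2.cent_comm hXc (hlift ha) (hlift hb)).map (QuotientGroup.mk' _)

theorem oddCent_sl_prod {A : Type} [CommGroup A] {K : Type*} [Group K] (e : K ≃* SL(2, F) × A)
    (hK : center K = ⊥) : OddCent K := by
  intro q hq _
  right
  intro a b ha hb
  have hq1 : (e q).1 ∉ center SL(2, F) := fun hc => hq.one_lt.ne' (by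
    have : q ∈ center K := mem_center_iff.2 fun g => e.injective (by
      rw [map_mul, map_mul]
      exact Prod.ext (mem_center_iff.1 hc (e g).1) (mul_comm _ _))
    rw [hK, mem_bot] at this
    rw [this, orderOf_one])
  refine e.injective ?_
  rw [map_mul, map_mul]
  exact Prod.ext (PSL2.cent_comm hq1 (congrArg Prod.fst (ha.map e.toMonoidHom).eq.symm)
    (congrArg Prod.fst (hb.map e.toMonoidHom).eq.symm)).eq (mul_comm _ _)

end SL

/-- Generators of a dihedral group. -/
theorem nonempty_dihedral {W : Type*} [Group W] [Finite W] (x y : W) (hy : y * y = 1)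
    (hyx : y * x * y⁻¹ = x⁻¹) (hmem : y ∉ zpowers x)
    (hall : ∀ w, w ∈ zpowers x ∨ y⁻¹ * w ∈ zpowers x) :
    Nonempty (W ≃* DihedralGroup (orderOf x)) := by
  haveI : NeZero (orderOf x) := ⟨(orderOf_pos x).ne'⟩
  set n := orderOf x with hn
  let pw : ZMod n → W := fun i => x ^ i.val
  have hadd : ∀ i j, pw (i + j) = pw i * pw j := fun i j => by
    simp only [pw, ← pow_add]
    rw [pow_eq_pow_iff_modEq, ← hn, ZMod.val_add]
    exact Nat.mod_modEq _ _
  have hzero : pw 0 = 1 := by simp [pw]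
  have hneg : ∀ i, pw (-i) = (pw i)⁻¹ := fun i =>
    eq_inv_of_mul_eq_one_left (by rw [← hadd, neg_add_cancel, hzero])
  have hconj : ∀ i, pw i * y = y * pw (-i) := fun i => by
    have h1 : (y * x * y⁻¹) ^ i.val = y * x ^ i.val * y⁻¹ := conj_pow
    rw [hyx, inv_pow] at h1
    rw [hneg]
    show x ^ i.val * y = y * (x ^ i.val)⁻¹
    rw [h1, inv_eq_of_mul_eq_one_right hy, ← mul_assoc, ← mul_assoc, hy, one_mul]
  let f : DihedralGroup n →* W :=
    { toFun := fun d => match d with
        | .r i => pw i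
        | .sr i => y * pw i
      map_one' := hzero
      map_mul' := by
        rintro (i | i) (j | j)
        · exact hadd i j
        · show y * pw (j - i) = pw i * (y * pw j)
          rw [← mul_assoc, hconj, mul_assoc, ← hadd, neg_add_eq_sub]
        · show y * pw (i + j) = y * pw i * pw j
          rw [hadd, mul_assoc]
        · show pw (j - i) = y * pw i * (y * pw j)
          rw [mul_assoc, ← mul_assoc (pw i), hconj, mul_assoc, ← mul_assoc y, hy, one_mul, ← hadd,
            neg_add_eq_sub] }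
  have hinj : Function.Injective f := by
    refine (injective_iff_map_eq_one f).2 fun d hd => ?_
    rcases d with i | i
    · have h1 : x ^ i.val = 1 := hd
      rw [← orderOf_dvd_iff_pow_eq_one, ← hn] at h1
      have : i = 0 := (ZMod.val_eq_zero i).1 (Nat.eq_zero_of_dvd_of_lt h1 (ZMod.val_lt i))
      rw [this]; rfl
    · have h1 : y * x ^ i.val = 1 := hd
      exact absurd (eq_inv_of_mul_eq_one_left h1 ▸ inv_mem (pow_mem (mem_zpowers x) _)) hmem
  have hsurj : Function.Surjective f := fun w => by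
    have hp : ∀ w ∈ zpowers x, ∃ i, pw i = w := fun w hw => by
      obtain ⟨j, rfl⟩ := (isOfFinOrder_of_finite x).mem_powers_iff_mem_zpowers.2 hw
      exact ⟨(j : ZMod n), by
        show x ^ (j : ZMod n).val = x ^ j
        rw [ZMod.val_natCast, hn, pow_mod_orderOf]⟩
    rcases hall w with h | h
    · obtain ⟨i, hi⟩ := hp w h
      exact ⟨.r i, hi⟩
    · obtain ⟨i, hi⟩ := hp _ h
      exact ⟨.sr i, by show y * pw i = w; rw [hi, mul_inv_cancel_left]⟩
  exact ⟨(MulEquiv.ofBijective f ⟨hinj, hsurj⟩).symm⟩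

variable {G : Type*} [Group G]

theorem comm_mul_left {a b u : G} (hb : ⁅b, u⁆ ∈ center G) : ⁅a * b, u⁆ = ⁅a, u⁆ * ⁅b, u⁆ := by
  have e : ⁅a * b, u⁆ = a * ⁅b, u⁆ * (u * a⁻¹ * u⁻¹) := by simp only [commutatorElement_def]; group
  rw [e, (commute_center hb a).eq, mul_assoc, ← (center_commute hb _).eq]
  simp only [commutatorElement_def]
  group

theorem comm_sq {a u : G} (ha : ⁅a, u⁆ ∈ center G) (hu : u * u ∈ center G) : ⁅a, u⁆ * ⁅a, u⁆ = 1 := by
  have e : a * u * a⁻¹ = ⁅a, u⁆ * u := by rw [commutatorElement_def]; group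
  have h2 : a * (u * u) * a⁻¹ = u * u := by rw [(commute_center hu a).eq, mul_inv_cancel_right]
  rw [show a * (u * u) * a⁻¹ = (a * u * a⁻¹) * (a * u * a⁻¹) by group, e,
    (center_commute ha u).symm.mul_mul_mul_comm] at h2
  exact mul_eq_right.1 h2

/-- Modulo the centraliser, an element fixing `b` modulo the centre acts like an element of the Sylow
subgroup. -/
theorem exists_mem_same [Finite G] (T : Sylow 2 G) {b : G} (hb : b * b ∈ center G)
    (hT : ∀ t ∈ (T : Subgroup G), ⁅t, b⁆ ∈ center G) {x : G} (hx : ⁅x, b⁆ ∈ center G) :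
    ∃ t ∈ (T : Subgroup G), t⁻¹ * x ∈ Cn b ∧ ⁅t, b⁆ = ⁅x, b⁆ := by
  haveI : Fact (Nat.Prime 2) := ⟨Nat.prime_two⟩
  have hone : ⁅(1 : G), b⁆ = 1 := commutatorElement_eq_one_iff_mul_comm.2 (by rw [one_mul, mul_one])
  have hinv : ∀ {a : G}, ⁅a, b⁆ ∈ center G → ⁅a⁻¹, b⁆ = (⁅a, b⁆)⁻¹ := fun {a} ha => by
    have e : ⁅a⁻¹, b⁆ = a⁻¹ * (⁅a, b⁆)⁻¹ * a := by simp only [commutatorElement_def]; group
    rw [e, mul_assoc, (center_commute (inv_mem ha) a).eq, inv_mul_cancel_left]
  let X : Subgroup G :=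
    { carrier := {x | ⁅x, b⁆ ∈ center G}
      one_mem' := by show ⁅(1 : G), b⁆ ∈ center G; rw [hone]; exact one_mem _
      mul_mem' := fun {a c} ha hc => by
        show ⁅a * c, b⁆ ∈ center G
        rw [comm_mul_left hc]; exact mul_mem ha hc
      inv_mem' := fun {a} ha => by show ⁅a⁻¹, b⁆ ∈ center G; rw [hinv ha]; exact inv_mem ha }
  let φ : X →* G :=
    { toFun := fun a => ⁅(a : G), b⁆
      map_one' := hone
      map_mul' := fun a c => comm_mul_left c.2 }
  obtain ⟨k, m, hm, hkm⟩ := Nat.exists_eq_two_pow_mul_odd (orderOf_pos x).ne'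
  obtain ⟨h, hh, hht⟩ := GW.exists_conj_mem (p := 2) T (H := X) hT (pow_mem (show x ∈ X from hx) m)
    ⟨k, by rw [← pow_mul, mul_comm, ← hkm, pow_orderOf_eq_one]⟩
  refine ⟨h * x ^ m * h⁻¹, hht, ?_⟩
  have e : φ ((⟨h, hh⟩ : X) * ⟨x, hx⟩ ^ m * (⟨h, hh⟩ : X)⁻¹) = φ ⟨x, hx⟩ := by
    obtain ⟨j, rfl⟩ := hm
    rw [map_mul, map_mul, map_inv, show φ ⟨h, hh⟩ * φ (⟨x, hx⟩ ^ (2 * j + 1)) = φ (⟨x, hx⟩ ^ (2 * j + 1)) * φ ⟨h, hh⟩
      from (center_commute hh _).eq, mul_inv_cancel_right, map_pow, pow_succ, pow_mul, pow_two,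
      show φ ⟨x, hx⟩ * φ ⟨x, hx⟩ = 1 from comm_sq hx hb, one_pow, one_mul]
  refine ⟨mem_Cn.2 (Commute.symm ?_), e⟩
  rw [Commute, SemiconjBy, ← commutatorElement_eq_one_iff_mul_comm, comm_mul_left hx]
  rw [hinv (show ⁅h * x ^ m * h⁻¹, b⁆ ∈ center G from hT _ hht), show ⁅h * x ^ m * h⁻¹, b⁆ = ⁅x, b⁆ from e,
    inv_mul_cancel]

namespace MNC

variable [Finite G] (m : MNC G)

include m

/-- If the involution lifts have abelian centralisers, no suitable image exists. -/
theorem false_of_ab_involution (T : Sylow 2 G)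
    (hT : ∀ u ∈ (T : Subgroup G), u ∉ center G → u * u ∈ center G → Ab u)
    (hQ : OddCent (G ⧸ center G)) : False := by
  haveI : Fact (Nat.Prime 2) := ⟨Nat.prime_two⟩
  obtain ⟨x, hx⟩ := m.exists_bad
  obtain ⟨r, y, hr, hy, -, -, hyr⟩ := m.toHyp.exists_prime_pow_mem hx
  haveI := Fact.mk hr
  set π := QuotientGroup.mk' (center G) with hπ
  have hq : orderOf (π y) = r := orderOf_eq_prime (by rw [← map_pow]; exact (QuotientGroup.eq_one_iff _).2 hyr)
    fun e => hy.1 ((QuotientGroup.eq_one_iff y).1 e)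
  rcases eq_or_ne r 2 with rfl | hr2
  · set Tq : Sylow 2 (G ⧸ center G) := T.mapSurjective (QuotientGroup.mk'_surjective _)
    have hTq : (Tq : Subgroup (G ⧸ center G)) = (T : Subgroup G).map π := Sylow.coe_mapSurjective _ _
    obtain ⟨h, -, hh⟩ := GW.exists_conj_mem (p := 2) Tq (H := ⊤) le_top (mem_top (π y))
      ⟨1, by rw [pow_one, ← hq]; exact pow_orderOf_eq_one _⟩
    obtain ⟨g, rfl⟩ := QuotientGroup.mk'_surjective (center G) h
    rw [hTq, ← map_inv, ← map_mul, ← map_mul] at hh
    obtain ⟨t, ht, hte⟩ := hh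
    have hz : t⁻¹ * (g * y * g⁻¹) ∈ center G := QuotientGroup.eq.1 hte
    have htc : t ∉ center G := fun hc => hy.1 (by
      have h1 := mul_mem hc hz
      rw [mul_inv_cancel_left] at h1
      simpa [mul_assoc] using (inferInstance : (center G).Normal).conj_mem _ h1 g⁻¹)
    have ht2 : t * t ∈ center G := (QuotientGroup.eq_one_iff _).1 (by
      show π (t * t) = 1
      rw [map_mul, hte, map_mul, map_mul, map_inv, ← pow_two, conj_pow, ← hq, pow_orderOf_eq_one]
      simp)
    have h1 := (((hT t ht htc ht2).mul_center hz).conj g⁻¹)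
    rw [mul_inv_cancel_left, show g⁻¹ * (g * y * g⁻¹) * g⁻¹⁻¹ = y by group] at h1
    obtain ⟨a, b, ha, hb, hab⟩ := hy.2
    exact hab (h1 a b ha hb)
  rcases hQ (π y) (hq ▸ hr) (hq ▸ hr2) with ⟨g, hg⟩ | hc
  · obtain ⟨g, rfl⟩ := QuotientGroup.mk'_surjective (center G) g
    have hz : y * (g * y * g⁻¹) ∈ center G := (QuotientGroup.eq_one_iff _).1 (by
      show π (y * (g * y * g⁻¹)) = 1
      rw [map_mul, map_mul, map_mul, map_inv, hg, mul_inv_cancel])
    have hgy : g ∈ Cn y := m.toHyp.mem_Cn_of_conj hy (by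
      ext w
      rw [mem_Cn, mem_Cn]
      constructor <;> intro e
      · have h1 := ((center_commute (inv_mem hz) w).mul_left e)
        rw [show (y * (g * y * g⁻¹))⁻¹ * (g * y * g⁻¹) = (g * y * g⁻¹)⁻¹ * y⁻¹ * (g * y * g⁻¹) by group] at h1
        have h2 := (center_commute hz w).mul_left e.inv_left
        rw [mul_inv_cancel_right] at h2
        exact h2
      · have h2 := e.inv_left.mul_left (center_commute hz w)
        rwa [inv_mul_cancel_left] at h2)
    have h2 : y * y ∈ center G := by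
      rwa [← (mem_Cn.1 hgy).eq, mul_inv_cancel_right] at hz
    have : r ∣ 2 := by
      rw [← hq]
      exact orderOf_dvd_of_pow_eq_one (by rw [← map_pow, pow_two]; exact (QuotientGroup.eq_one_iff _).2 h2)
    exact hr2 ((Nat.prime_dvd_prime_iff_eq hr Nat.prime_two).1 this)
  · have hZ : center G ≤ Cn y := fun z hz => mem_Cn.2 (commute_center hz y)
    have hcom : ((Cn y).map π).comap π = Cn y := comap_map_eq_self (by rwa [QuotientGroup.ker_mk'])
    have hA : IsCoatom ((Cn y).map π) := by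
      refine ⟨fun e => (m.toHyp.isCoatom hy).1 (by rw [← hcom, e, comap_top]), fun B hB => ?_⟩
      have h1 : Cn y < B.comap π := lt_of_le_of_ne (hcom ▸ comap_mono hB.le) fun e => hB.ne (by
        rw [e, map_comap_eq_self_of_surjective (QuotientGroup.mk'_surjective _)])
      rw [← map_comap_eq_self_of_surjective (QuotientGroup.mk'_surjective (center G)) B,
        (m.toHyp.isCoatom hy).2 _ h1, map_top_of_surjective _ (QuotientGroup.mk'_surjective _)]
    refine false_of_abelian_coatom m.isSimple m.not_isSolvable_quotient hA ?_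
    rintro _ ⟨a, ha, rfl⟩ _ ⟨b, hb, rfl⟩
    exact hc _ _ ((mem_Cn.1 ha).map π) ((mem_Cn.1 hb).map π)

end MNC

end Cfsg.Agent.MinNonCA
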