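import Cfsg.Agent.Lib.MinNonCA.Odd
import Cfsg.Agent.Lib.GW.Assembly
import Cfsg.Agent.Lib.GW.PartII.SplitFour
import Cfsg.Agent.Lib.Components.Fitting
import Cfsg.Agent.S0588

/-!
# Minimal non-CA groups with Klein four Sylow 2-subgroups: the image modulo the centre is `PSL(2, q)`

For an involution `t` with `H = Cn t = O T`, the fixed points `U` of `T` on `O` form, modulo `W = U ∩ Z(H)`, a
Frobenius complement with inverted kernel; this gives the split hypothesis of Gorenstein-Walter.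
-/

set_option autoImplicit false
set_option linter.unusedSectionVars false
set_option linter.style.haveILetI false

namespace Cfsg.Agent.MinNonCA

open Subgroup
open scoped commutatorElement

universe u

variable {G : Type u} [Group G] [Finite G]

theorem odd_of_dvd {a b : ℕ} (hb : Odd b) (h : a ∣ b) : Odd a := hb.of_dvd_nat h

theorem eq_one_of_sq_odd {v : G} (h2 : v * v = 1) (hodd : Odd (orderOf v)) : v = 1 :=
  orderOf_eq_one_iff.1 (Nat.eq_one_of_dvd_coprimes (Nat.coprime_two_right.2 hodd) dvd_rfl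
    (orderOf_dvd_of_pow_eq_one (by rw [pow_two]; exact h2)))

namespace MNC

variable (m : MNC G)

include m

/-- The split hypothesis at a bad involution `t`, second involution `s`. -/
theorem splits_of (T : Sylow 2 G) (hab : ∀ a ∈ (T : Subgroup G), ∀ b ∈ (T : Subgroup G), Commute a b)
    {t s n : G} (htT : t ∈ (T : Subgroup G)) (ht2 : t * t = 1) (ht1 : t ≠ 1) (hb : Bad t)
    (hsT : s ∈ (T : Subgroup G)) (hs2 : s * s = 1) (hsH : ¬ Cn t ≤ Cn s)
    (hTcases : ∀ v ∈ (T : Subgroup G), v = 1 ∨ v = t ∨ v = s ∨ v = t * s)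
    (hn : n ∈ normalizer ((T : Subgroup G) : Set G)) (hnt : ¬ Commute t n)
    {S : Sylow 2 (G ⧸ center G)} {u : G ⧸ center G} (hyp : GW.Hyp S u) :
    GW.Splits (t : G ⧸ center G) (s : G ⧸ center G) := by
  classical
  haveI : Fact (Nat.Prime 2) := ⟨Nat.prime_two⟩
  have hodd := m.not_dvd_card_center T hab
  have hzodd : ∀ {z : G}, z ∈ center G → Odd (orderOf z) := fun {z} hz => by
    refine odd_of_dvd ?_ ((Subgroup.orderOf_mk z hz).symm ▸ orderOf_dvd_natCard (⟨z, hz⟩ : center G))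
    rw [← Nat.not_even_iff_odd, even_iff_two_dvd]
    exact hodd
  obtain ⟨O, hOle, hOn, hOodd, hdec, hOmax⟩ := m.exists_complement T hab htT ht1
  have hoddO : ∀ {v : G}, v ∈ O → Odd (orderOf v) := fun {v} hv =>
    odd_of_dvd hOodd ((Subgroup.orderOf_mk v hv).symm ▸ orderOf_dvd_natCard (⟨v, hv⟩ : O))
  have hZO : center G ≤ O := fun z hz => hOmax z (mem_Cn.2 (commute_center hz t)) (hzodd hz)
  have htC : ∀ {v : G}, v ∈ O → Commute t v := fun hv => mem_Cn.1 (hOle hv)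
  have hsN : ∀ v ∈ O, s * v * s⁻¹ ∈ O := fun v hv =>
    (mem_normalizer_iff.1 (hOn (mem_Cn.2 (hab t htT s hsT))) v).1 hv
  -- commuting with `s` inside `O` is commuting with `T`
  have hTc : ∀ {v : G}, v ∈ O → Commute s v → ∀ a ∈ (T : Subgroup G), Commute a v := by
    intro v hv hsv a ha
    rcases hTcases a ha with rfl | rfl | rfl | rfl
    · exact Commute.one_left v
    · exact htC hv
    · exact hsv
    · exact (htC hv).mul_left hsv
  -- centraliser in `Cn t` of an element of `T` or `O` not central in it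
  have hcomm : ∀ {e : G}, e ∈ Cn t → ¬ Cn t ≤ Cn e → ∀ {a b : G}, a ∈ Cn t → b ∈ Cn t → Commute e a →
      Commute e b → Commute a b := fun {e} he hne {a b} ha hb' hea heb =>
    by_contra fun hab' => hne (m.toHyp.le_Cn hb.ne_top he ha hb' hea heb hab')
  let U : Subgroup G := O ⊓ Cn s
  let W : Subgroup G :=
    { carrier := {w | w ∈ U ∧ Cn t ≤ Cn w}
      one_mem' := ⟨one_mem _, fun v _ => mem_Cn.2 (Commute.one_left v)⟩
      mul_mem' := fun {a b} ha hb' => ⟨mul_mem ha.1 hb'.1, fun v hv =>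
        mem_Cn.2 ((mem_Cn.1 (ha.2 hv)).mul_left (mem_Cn.1 (hb'.2 hv)))⟩
      inv_mem' := fun {a} ha => ⟨inv_mem ha.1, fun v hv => mem_Cn.2 (mem_Cn.1 (ha.2 hv)).inv_left⟩ }
  have hWU : W ≤ U := fun w hw => hw.1
  have hWc : ∀ {w v : G}, w ∈ W → v ∈ O → Commute w v := fun hw hv => mem_Cn.1 (hw.2 (hOle hv))
  have hZW : center G ≤ W := fun z hz =>
    ⟨⟨hZO hz, mem_Cn.2 (commute_center hz s)⟩, fun v _ => mem_Cn.2 (center_commute hz v)⟩
  set n' := n * t * n⁻¹ with hn'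
  -- conjugation by `n` preserves `U`
  have hnU : ∀ {v : G}, v ∈ U → n * v * n⁻¹ ∈ U := fun {v} hv => by
    have hvT := hTc hv.1 (mem_Cn.1 hv.2)
    have hc : ∀ a ∈ (T : Subgroup G), Commute a (n * v * n⁻¹) := fun a ha => by
      rw [← commute_conj_iff (g := n⁻¹)]
      have := hvT (n⁻¹ * a * n) (by simpa using (mem_normalizer_iff.1 (inv_mem hn) a).1 ha)
      simpa [mul_assoc] using this
    exact ⟨hOmax _ (mem_Cn.2 (hc t htT)) (by
      rw [show orderOf (n * v * n⁻¹) = orderOf v from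
        orderOf_injective (MulAut.conj n).toMonoidHom (MulAut.conj n).injective v]
      exact hoddO hv.1), mem_Cn.2 (hc s hsT)⟩
  -- an element of `W` moved into `W` by `n` is central
  have hmove : ∀ {w : G}, w ∈ W → n * w * n⁻¹ ∈ W → w ∈ center G := fun {w} hw hw' => by
    by_contra hwc
    have hwc' : n * w * n⁻¹ ∉ center G := fun hc => hwc (by
      simpa [mul_assoc] using (inferInstance : (center G).Normal).conj_mem _ hc n⁻¹)
    obtain ⟨e1, hbw⟩ := m.toHyp.Cn_eq_of_le hb hwc hw.2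
    obtain ⟨e2, -⟩ := m.toHyp.Cn_eq_of_le hb hwc' hw'.2
    have h1 := m.toHyp.mem_Cn_of_conj hbw (e2.trans e1.symm)
    rw [e1, mem_Cn] at h1
    exact hnt h1
  -- a normal complement `K` of `U` modulo `W`
  obtain ⟨K, i, j, hKO, hWK, hKn, hKs, hsup, hinf, hij, hKj, hUi⟩ : ∃ (K : Subgroup G) (i j : ℕ),
      K ≤ O ∧ W ≤ K ∧ (∀ o ∈ O, ∀ k ∈ K, o * k * o⁻¹ ∈ K) ∧ (∀ k ∈ K, s * k * s⁻¹ ∈ K) ∧
      (∀ o ∈ O, ∃ k ∈ K, ∃ v ∈ U, o = k * v) ∧ K ⊓ U ≤ W ∧ Nat.Coprime i j ∧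
      (∀ k ∈ K, k ^ j ∈ W) ∧ ∀ v ∈ U, v ^ i ∈ W := by
    by_cases hUW : U ≤ W
    · refine ⟨O, 1, Nat.card O, le_rfl, hWU.trans inf_le_left, fun o ho k hk =>
        mul_mem (mul_mem ho hk) (inv_mem ho), hsN, fun o ho => ⟨o, ho, 1, one_mem _, (mul_one o).symm⟩,
        inf_le_right.trans hUW, Nat.coprime_one_left _, fun k hk => ?_, fun v hv => by rw [pow_one]; exact hUW hv⟩
      rw [show k ^ Nat.card O = 1 from congrArg Subtype.val (pow_card_eq_one' (x := (⟨k, hk⟩ : O)))]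
      exact one_mem _
    set U' := U.subgroupOf O
    set W' := W.subgroupOf O
    haveI hW'n : W'.Normal := ⟨fun w hw g => by
      show (g : G) * w * (g : G)⁻¹ ∈ W
      rw [← (hWc (show (w : G) ∈ W from hw) g.2).eq, mul_inv_cancel_right]
      exact hw⟩
    have hW'sol : Group.IsSolvable W' := Group.isSolvable_of_comm fun a b =>
      Subtype.ext (Subtype.ext (hWc (show ((a : O) : G) ∈ W from a.2) (b : O).2).eq)
    have hcent : ∀ {v : G}, v ∈ U → v ∉ W → ∀ {o : G}, o ∈ O → Commute v o → o ∈ U := fun {v} hv hvW {o} ho hvo =>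
      ⟨ho, mem_Cn.2 (hcomm (hOle hv.1) (fun hle => hvW ⟨hv, hle⟩) (mem_Cn.2 (hab t htT s hsT)) (hOle ho)
        (mem_Cn.1 hv.2).symm hvo)⟩
    have hne : ¬ U' ≤ W' := fun hle => hUW fun v hv => hle (show (⟨v, hv.1⟩ : O) ∈ U' from hv)
    obtain ⟨u₀, hu₀, hu₀W⟩ := SetLike.not_le_iff_exists.1 hUW
    have hUab : ∀ {a b : G}, a ∈ U → b ∈ U → Commute u₀ a → Commute u₀ b → Commute a b := fun ha hb' h1 h2 =>
      hcomm (hOle hu₀.1) (fun hle => hu₀W ⟨hu₀, hle⟩) (hOle ha.1) (hOle hb'.1) h1 h2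
    have hUu : ∀ {a : G}, a ∈ U → Commute u₀ a := fun {a} ha =>
      hcomm (e := s) (mem_Cn.2 (hab t htT s hsT)) hsH (hOle hu₀.1) (hOle ha.1) (mem_Cn.1 hu₀.2) (mem_Cn.1 ha.2)
    have htop : U' ≠ ⊤ := fun e => by
      obtain ⟨a, b, ha, hb', hab'⟩ := hb.2
      obtain ⟨o, ho, v, hv, rfl⟩ := hdec a (mem_Cn.2 ha)
      obtain ⟨o', ho', v', hv', rfl⟩ := hdec b (mem_Cn.2 hb')
      have hmem : ∀ {x : G}, x ∈ O → x ∈ U := fun {x} hx => (e ▸ mem_top (⟨x, hx⟩ : O) : (⟨x, hx⟩ : O) ∈ U')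
      have hT' : ∀ {x y : G}, x ∈ O → y ∈ (T : Subgroup G) → Commute x y := fun {x y} hx hy =>
        (hTc hx (mem_Cn.1 (hmem hx).2) y hy).symm
      exact hab' (((hUab (hmem ho) (hmem ho') (hUu (hmem ho)) (hUu (hmem ho'))).mul_right (hT' ho hv')).mul_left
        ((hT' ho' hv).symm.mul_right (hab v hv v' hv')))
    have hTI : ∀ g ∉ U', ∀ a ∈ U', g * a * g⁻¹ ∈ U' → a ∈ W' := by
      intro g hg a ha hga
      by_contra haW
      have haU : (a : G) ∈ U := ha
      have hbU : (g : G) * a * (g : G)⁻¹ ∈ U := hga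
      have hbW : (g : G) * a * (g : G)⁻¹ ∉ W := fun hc => haW (show (a : G) ∈ W by
        have e := (hWc hc (g⁻¹ : O).2).eq
        have : (a : G) = (g : G) * a * (g : G)⁻¹ := by
          calc (a : G) = (g : G)⁻¹ * ((g : G) * a * (g : G)⁻¹) * g := by group
            _ = ((g : G) * a * (g : G)⁻¹) * ((g⁻¹ : O) : G) * g := by rw [e]; rfl
            _ = _ := by rw [Subgroup.coe_inv]; group
        rwa [this])
      have hUa : ∀ {v : G}, v ∈ U → Commute (a : G) v := fun hv =>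
        hcomm (e := s) (mem_Cn.2 (hab t htT s hsT)) hsH (hOle haU.1) (hOle hv.1) (mem_Cn.1 haU.2) (mem_Cn.1 hv.2)
      -- conjugation by `g` maps `U` to itself
      have hgU : (g : G) * a * (g : G)⁻¹ ∈ U := hbU
      have h1 : (g : G)⁻¹ * (s * g * s⁻¹) ∈ U := by
        refine hcent haU haW (mul_mem (inv_mem g.2) (hsN _ g.2)) ?_
        have e1 : s * a * s⁻¹ = (a : G) := by rw [(mem_Cn.1 haU.2).eq, mul_inv_cancel_right]
        have e2 : s * ((g : G) * a * (g : G)⁻¹) * s⁻¹ = (g : G) * a * (g : G)⁻¹ := by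
          rw [(mem_Cn.1 hbU.2).eq, mul_inv_cancel_right]
        show (a : G) * ((g : G)⁻¹ * (s * g * s⁻¹)) = (g : G)⁻¹ * (s * g * s⁻¹) * a
        have e3 : (s * g * s⁻¹) * a * (s * g * s⁻¹)⁻¹ = (g : G) * a * (g : G)⁻¹ := by
          conv_lhs => rw [← e1]
          rw [show s * g * s⁻¹ * (s * (a : G) * s⁻¹) * (s * g * s⁻¹)⁻¹ = s * ((g : G) * a * (g : G)⁻¹) * s⁻¹ by group, e2]
        calc (a : G) * ((g : G)⁻¹ * (s * g * s⁻¹))
            = (g : G)⁻¹ * ((g : G) * a * (g : G)⁻¹) * (s * g * s⁻¹) := by group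
          _ = _ := by rw [← e3]; group
      set x := (g : G)⁻¹ * (s * g * s⁻¹) with hx
      have hx2 : x * x = 1 := by
        have e : s * x * s⁻¹ = x := by rw [(mem_Cn.1 h1.2).eq, mul_inv_cancel_right]
        conv_lhs => arg 1; rw [← e]
        rw [hx, show s * ((g : G)⁻¹ * (s * g * s⁻¹)) * s⁻¹ * ((g : G)⁻¹ * (s * g * s⁻¹))
          = s * (g : G)⁻¹ * s * g * (s⁻¹ * s⁻¹) * (g : G)⁻¹ * (s * g * s⁻¹) by group,
          show s⁻¹ * s⁻¹ = 1 by rw [← mul_inv_rev, hs2, inv_one], show s⁻¹ = s from inv_eq_of_mul_eq_one_right hs2]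
        calc s * (g : G)⁻¹ * s * g * 1 * (g : G)⁻¹ * (s * g * s) = s * (g : G)⁻¹ * (s * s) * g * s := by group
          _ = 1 := by rw [hs2, mul_one, mul_assoc s _ (g : G), inv_mul_cancel, mul_one, hs2]
      have hgs : Commute s (g : G) :=
        mul_inv_eq_iff_eq_mul.1 (inv_mul_eq_one.1 (eq_one_of_sq_odd hx2 (hoddO h1.1))).symm
      exact hg ⟨g.2, mem_Cn.2 hgs⟩
    obtain ⟨K', hK'n, -, hWK', hK'sup, hK'inf, hK'mem⟩ :=
      exists_kernel_mod hW'sol (fun w hw => hWU hw) hne htop hTI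
    have hF := isFrobeniusComplement_map (N := W') (A := U') (fun w hw => hWU hw) hne htop hTI
    haveI := hK'n
    set π' := QuotientGroup.mk' W'
    have hker : π'.ker = W' := QuotientGroup.ker_mk' W'
    have hcomp : IsComplement' (K'.map π') (U'.map π') := by
      refine isComplement'_of_disjoint_and_mul_eq_univ ?_ ?_
      · rw [disjoint_def]
        rintro _ ⟨k, hk, rfl⟩ ⟨v, hv, hkv⟩
        refine (QuotientGroup.eq_one_iff k).2 (hK'inf.le ⟨hk, ?_⟩)
        have hzW : v⁻¹ * k ∈ W' := QuotientGroup.eq.1 hkv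
        simpa using mul_mem hv ((show W' ≤ U' from fun w hw => hWU hw) hzW)
      · refine Set.eq_univ_of_forall fun q => ?_
        obtain ⟨g, rfl⟩ := QuotientGroup.mk'_surjective W' q
        obtain ⟨k, hk, v, hv, rfl⟩ := mem_sup_of_normal_left.1 (hK'sup ▸ mem_top g : g ∈ K' ⊔ U')
        exact ⟨_, mem_map_of_mem π' hk, _, mem_map_of_mem π' hv, (map_mul π' k v).symm⟩
    refine ⟨K'.map O.subtype, Nat.card (U'.map π'), (U'.map π').index, map_subtype_le _, fun w hw => ?_,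
      ?_, ?_, fun o ho => ?_, ?_, ?_, ?_, fun v hv => ?_⟩
    · exact ⟨⟨w, (hWU hw).1⟩, hWK' hw, rfl⟩
    · rintro o ho _ ⟨k, hk, rfl⟩
      exact ⟨⟨o, ho⟩ * k * ⟨o, ho⟩⁻¹, hK'n.conj_mem k hk _, rfl⟩
    · rintro _ ⟨k, hk, rfl⟩
      refine ⟨⟨s * k * s⁻¹, hsN _ k.2⟩, ?_, rfl⟩
      refine (hK'mem _).2 (((hK'mem k).1 hk).imp (fun hk => ?_) fun hk g hg => ?_)
      · show s * (k : G) * s⁻¹ ∈ W
        have hk' : (k : G) ∈ W := hk
        rw [(mem_Cn.1 (hWU hk').2).eq, mul_inv_cancel_right]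
        exact hk'
      · refine hk ⟨s * g * s⁻¹, hsN _ g.2⟩ ?_
        have hg' : (g : G) * (s * k * s⁻¹) * (g : G)⁻¹ ∈ U := hg
        show s * g * s⁻¹ * k * (s * g * s⁻¹)⁻¹ ∈ U
        have e : s * ((g : G) * (s * k * s⁻¹) * (g : G)⁻¹) * s⁻¹ = s * g * s⁻¹ * k * (s * g * s⁻¹)⁻¹ := by
          have hsi : s⁻¹ = s := inv_eq_of_mul_eq_one_right hs2
          calc s * ((g : G) * (s * k * s⁻¹) * (g : G)⁻¹) * s⁻¹
              = s * g * s * k * (s⁻¹ * (g : G)⁻¹ * s⁻¹) := by group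
            _ = _ := by rw [hsi, mul_inv_rev, mul_inv_rev, hsi]; group
        rw [← e, (mem_Cn.1 hg'.2).eq, mul_inv_cancel_right]
        exact hg'
    · obtain ⟨k, hk, v, hv, e⟩ := mem_sup_of_normal_left.1 (hK'sup ▸ mem_top (⟨o, ho⟩ : O) : _ ∈ K' ⊔ U')
      exact ⟨k, mem_map_of_mem _ hk, v, hv, (congrArg Subtype.val e).symm⟩
    · rintro _ ⟨⟨k, hk, rfl⟩, hkU⟩
      exact hK'inf.le ⟨hk, hkU⟩
    · exact S0588.result (U'.map π') fun q hq hq1 v hv =>
        Frobenius.mem_of_commute hF hq hq1 (mem_Cn.1 hv).symm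
    · rintro _ ⟨k, hk, rfl⟩
      have h1 : (⟨π' k, mem_map_of_mem π' hk⟩ : K'.map π') ^ Nat.card (K'.map π') = 1 := pow_card_eq_one'
      rw [← hcomp.index_eq_card] at h1
      have h2 : π' (k ^ (U'.map π').index) = 1 := by
        rw [map_pow]; exact congrArg Subtype.val h1
      exact (QuotientGroup.eq_one_iff (N := W') _).1 h2
    · have h1 : (⟨π' ⟨v, hv.1⟩, mem_map_of_mem π' (show (⟨v, hv.1⟩ : O) ∈ U' from hv)⟩ : U'.map π') ^
          Nat.card (U'.map π') = 1 := pow_card_eq_one'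
      have h2 : π' ((⟨v, hv.1⟩ : O) ^ Nat.card (U'.map π')) = 1 := by
        rw [map_pow]; exact congrArg Subtype.val h1
      exact (QuotientGroup.eq_one_iff (N := W') ((⟨v, hv.1⟩ : O) ^ Nat.card (U'.map π'))).1 h2
  -- `W` has exponent prime to `j` modulo the centre
  have hWj : ∀ {w : G}, w ∈ W → w ^ i ∈ center G := fun {w} hw =>
    hmove (pow_mem hw i) (by rw [← conj_pow]; exact hUi _ (hnU (hWU hw)))
  have hWz : ∀ {w : G}, w ∈ W → w ^ j ∈ center G → w ∈ center G := fun {w} hw hwj =>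
    mem_of_coprime_pow hij (hWj hw) hwj
  -- the inversion
  set K₀ := K.subgroupOf O with hK₀
  set W₀ := W.subgroupOf O
  haveI hW₀n : W₀.Normal := ⟨fun w hw g => by
    show (g : G) * w * (g : G)⁻¹ ∈ W
    rw [← (hWc (show (w : G) ∈ W from hw) g.2).eq, mul_inv_cancel_right]
    exact hw⟩
  set π₀ := QuotientGroup.mk' W₀
  let σ : O →* O :=
    { toFun := fun v => ⟨s * v * s⁻¹, hsN _ v.2⟩
      map_one' := Subtype.ext (by simp)
      map_mul' := fun a b => Subtype.ext (by simp [mul_assoc]) }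
  have hσW : W₀ ≤ W₀.comap σ := fun w hw => by
    show s * (w : G) * s⁻¹ ∈ W
    have hw' : (w : G) ∈ W := hw
    rw [(mem_Cn.1 (hWU hw').2).eq, mul_inv_cancel_right]
    exact hw'
  let σq : O ⧸ W₀ →* O ⧸ W₀ := QuotientGroup.map W₀ W₀ σ hσW
  have hσK : ∀ q ∈ K₀.map π₀, σq q ∈ K₀.map π₀ := by
    rintro _ ⟨k, hk, rfl⟩
    exact ⟨σ k, hKs _ hk, rfl⟩
  let φ : K₀.map π₀ →* K₀.map π₀ :=
    { toFun := fun q => ⟨σq q, hσK _ q.2⟩
      map_one' := Subtype.ext (by simp)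
      map_mul' := fun a b => Subtype.ext (by simp) }
  have hσσ : ∀ v : O, σ (σ v) = v := fun v => Subtype.ext (by
    show s * (s * v * s⁻¹) * s⁻¹ = v
    rw [show s * (s * (v : G) * s⁻¹) * s⁻¹ = s * s * v * (s * s)⁻¹ by group, hs2]
    simp)
  have hinvol : Function.Involutive φ := fun q => Subtype.ext (by
    obtain ⟨k, -, hk⟩ := q.2
    show σq (σq q) = q
    rw [← hk]
    show QuotientGroup.mk' W₀ (σ (σ k)) = _
    rw [hσσ])
  have hfpf : MonoidHom.FixedPointFree φ := fun q hq => Subtype.ext (by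
    obtain ⟨k, hk, hkq⟩ := q.2
    have e : (σ k : O ⧸ W₀) = (k : O ⧸ W₀) := by
      show σq (π₀ k) = π₀ k
      rw [hkq]
      exact congrArg Subtype.val hq
    have hw : (k : G)⁻¹ * (s * k * s⁻¹) ∈ W := (QuotientGroup.eq (s := W₀)).1 e.symm
    set w := (k : G)⁻¹ * (s * k * s⁻¹) with hwdef
    have hw2 : w * w = 1 := by
      have e1 : s * w * s⁻¹ = w := by rw [(mem_Cn.1 (hWU hw).2).eq, mul_inv_cancel_right]
      conv_lhs => arg 1; rw [← e1]
      rw [hwdef, show s * ((k : G)⁻¹ * (s * k * s⁻¹)) * s⁻¹ = s * (k : G)⁻¹ * s * k * (s⁻¹ * s⁻¹) by group,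
        show s⁻¹ * s⁻¹ = 1 by rw [← mul_inv_rev, hs2, inv_one], show s⁻¹ = s from inv_eq_of_mul_eq_one_right hs2]
      calc s * (k : G)⁻¹ * s * k * 1 * ((k : G)⁻¹ * (s * k * s)) = s * (k : G)⁻¹ * (s * s) * k * s := by group
        _ = 1 := by rw [hs2, mul_one, mul_assoc s _ (k : G), inv_mul_cancel, mul_one, hs2]
    have hks : Commute s (k : G) :=
      mul_inv_eq_iff_eq_mul.1 (inv_mul_eq_one.1 (eq_one_of_sq_odd hw2 (hoddO (hWU hw).1))).symm
    rw [← hkq]
    exact (QuotientGroup.eq_one_iff (N := W₀) k).2 (hinf ⟨hk, k.2, mem_Cn.2 hks⟩))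
  have hinv : ∀ {k : G}, k ∈ K → s * k * s⁻¹ * k ∈ W := fun {k} hk => by
    have e := congrFun (hfpf.coe_eq_inv_of_involutive hinvol)
      ⟨π₀ ⟨k, hKO hk⟩, mem_map_of_mem π₀ (show (⟨k, hKO hk⟩ : O) ∈ K₀ from hk)⟩
    have e' : π₀ (σ ⟨k, hKO hk⟩) = (π₀ ⟨k, hKO hk⟩)⁻¹ := congrArg Subtype.val e
    exact (QuotientGroup.eq_one_iff (N := W₀) (σ ⟨k, hKO hk⟩ * ⟨k, hKO hk⟩)).1 (by
      show π₀ _ = 1
      rw [map_mul, e', inv_mul_cancel])
  have hKcomm : ∀ {k k' : G}, k ∈ K → k' ∈ K → ⁅k, k'⁆ ∈ center G := fun {k k'} hk hk' => by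
    have hc : ⁅k, k'⁆ ∈ W := by
      have e : Commute (⟨π₀ ⟨k, hKO hk⟩, mem_map_of_mem π₀ (show (⟨k, hKO hk⟩ : O) ∈ K₀ from hk)⟩ : K₀.map π₀)
          ⟨π₀ ⟨k', hKO hk'⟩, mem_map_of_mem π₀ (show (⟨k', hKO hk'⟩ : O) ∈ K₀ from hk')⟩ :=
        hfpf.commute_all_of_involutive hinvol _ _
      exact (QuotientGroup.eq_one_iff (N := W₀) ⁅(⟨k, hKO hk⟩ : O), ⟨k', hKO hk'⟩⁆).1 (by
        show π₀ _ = 1
        rw [map_commutatorElement, commutatorElement_eq_one_iff_mul_comm]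
        exact congrArg Subtype.val e.eq)
    refine hWz hc ?_
    -- the `j`-th power is a commutator with an element of `W`
    have hcp : ∀ N : ℕ, k ^ N * k' * (k ^ N)⁻¹ = ⁅k, k'⁆ ^ N * k' := fun N => by
      induction N with
      | zero => simp
      | succ N ih =>
        calc k ^ (N + 1) * k' * (k ^ (N + 1))⁻¹ = k * (k ^ N * k' * (k ^ N)⁻¹) * k⁻¹ := by
              rw [pow_succ', mul_inv_rev]; group
          _ = (k * ⁅k, k'⁆ ^ N * k⁻¹) * (k * k' * k⁻¹) := by rw [ih]; group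
          _ = ⁅k, k'⁆ ^ N * (⁅k, k'⁆ * k') := by
              rw [← ((hWc (pow_mem hc N) (hKO hk))).eq, mul_inv_cancel_right,
                show k * k' * k⁻¹ = ⁅k, k'⁆ * k' by rw [commutatorElement_def]; group]
          _ = _ := by rw [pow_succ, mul_assoc]
    have h1 := hcp j
    rw [(hWc (hKj k hk) (hKO hk')).eq, mul_inv_cancel_right, right_eq_mul] at h1
    rw [h1]
    exact one_mem _
  -- passage to `Q`
  set π := QuotientGroup.mk' (center G) with hπ
  have hto : orderOf (t : G ⧸ center G) = 2 := by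
    refine orderOf_eq_prime ?_ fun e => ?_
    · rw [← QuotientGroup.mk_pow, pow_two, ht2, QuotientGroup.mk_one]
    · exact hb.1 ((QuotientGroup.eq_one_iff t).1 e)
  have hlift : ∀ {q : G ⧸ center G}, q ∈ GW.oCore (t : G ⧸ center G) → ∃ o ∈ O, (o : G ⧸ center G) = q := by
    intro q hq
    obtain ⟨hqc, hqo⟩ := (hyp.mem_oCore_iff hto).1 hq
    obtain ⟨g, rfl⟩ := QuotientGroup.mk_surjective q
    have hz : t * g * t⁻¹ * g⁻¹ ∈ center G := (QuotientGroup.eq_one_iff _).1 (by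
      rw [QuotientGroup.mk_mul, QuotientGroup.mk_mul, QuotientGroup.mk_mul, QuotientGroup.mk_inv, QuotientGroup.mk_inv,
        (mem_Cn.1 hqc).eq]
      group)
    set z := t * g * t⁻¹ * g⁻¹ with hzdef
    have hgt : Commute t g := by
      have e1 : t * g * t⁻¹ = z * g := by rw [hzdef]; group
      have hz2 : z * z = 1 := by
        have e2 : t * (t * g * t⁻¹) * t⁻¹ = g := by
          rw [show t * (t * g * t⁻¹) * t⁻¹ = t * t * g * (t * t)⁻¹ by group, ht2]; simp
        rw [e1, show t * (z * g) * t⁻¹ = (t * z * t⁻¹) * (t * g * t⁻¹) by group, e1,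
          (commute_center hz t).eq, mul_inv_cancel_right, ← mul_assoc] at e2
        exact mul_eq_right.1 e2
      rw [eq_one_of_sq_odd hz2 (hzodd hz), one_mul] at e1
      exact mul_inv_eq_iff_eq_mul.1 e1
    obtain ⟨o, ho, v, hv, rfl⟩ := hdec g (mem_Cn.2 hgt)
    refine ⟨o, ho, ?_⟩
    have hvo : (v : G ⧸ center G) = 1 := by
      have hq2 : orderOf (v : G ⧸ center G) ∣ 2 := orderOf_dvd_of_pow_eq_one (by
        rw [← QuotientGroup.mk_pow, pow_two]
        rcases hTcases v hv with rfl | rfl | rfl | rfl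
        · simp
        · rw [ht2, QuotientGroup.mk_one]
        · rw [hs2, QuotientGroup.mk_one]
        · rw [((hab t htT s hsT).symm).mul_mul_mul_comm, ht2, hs2, one_mul, QuotientGroup.mk_one])
      by_contra hv1
      have hv2 : orderOf (v : G ⧸ center G) = 2 :=
        ((Nat.dvd_prime Nat.prime_two).1 hq2).resolve_left fun e => hv1 (orderOf_eq_one_iff.1 e)
      have hvo' : Commute (o : G ⧸ center G) (v : G ⧸ center G) → False := fun hc => by
        have e := hc.orderOf_mul_eq_mul_orderOf_of_coprime (by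
          rw [hv2]
          exact Nat.coprime_two_right.2 (odd_of_dvd (hoddO ho) (orderOf_map_dvd π o)))
        rw [← QuotientGroup.mk_mul] at e
        rw [e, hv2] at hqo
        exact absurd hqo (by simp [Nat.odd_mul])
      -- an involution `o v` of odd order
      have hodd' : Odd (orderOf ((o * v : G) : G ⧸ center G)) := hqo
      have hvn : ∀ a ∈ O, v * a * v⁻¹ ∈ O := fun a ha =>
        (mem_normalizer_iff.1 (hOn (mem_Cn.2 (hab t htT v hv))) a).1 ha
      have hpow : ∀ N : ℕ, ∃ a ∈ O, (o * v) ^ N = a * v ^ N := fun N => by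
        induction N with
        | zero => exact ⟨1, one_mem _, by simp⟩
        | succ N ih =>
          obtain ⟨a, ha, hN⟩ := ih
          exact ⟨o * (v * a * v⁻¹), mul_mem ho (hvn a ha), by rw [pow_succ', hN, pow_succ']; group⟩
      obtain ⟨a, ha, hN⟩ := hpow (orderOf ((o * v : G) : G ⧸ center G))
      have h1 : ((a * v ^ orderOf ((o * v : G) : G ⧸ center G) : G) : G ⧸ center G) = 1 := by
        rw [← hN, QuotientGroup.mk_pow, pow_orderOf_eq_one]
      obtain ⟨k, hk⟩ := hodd'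
      rw [QuotientGroup.mk_mul, QuotientGroup.mk_pow, hk, pow_succ, pow_mul,
        show (v : G ⧸ center G) ^ 2 = 1 by rw [← hv2]; exact pow_orderOf_eq_one _, one_pow, one_mul,
        mul_eq_one_iff_eq_inv] at h1
      have := orderOf_map_dvd π a
      rw [show π a = (a : G ⧸ center G) from rfl, h1, orderOf_inv, hv2] at this
      exact absurd (odd_of_dvd (hoddO ha) this) (by decide)
    rw [QuotientGroup.mk_mul, hvo, mul_one]
  have hOcore : ∀ {o : G}, o ∈ O → (o : G ⧸ center G) ∈ GW.oCore (t : G ⧸ center G) := fun {o} ho =>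
    (hyp.mem_oCore_iff hto).2 ⟨mem_Cn.2 (mk_commute_of (htC ho)),
      odd_of_dvd (hoddO ho) (orderOf_map_dvd π o)⟩
  have hKqc : ∀ {k k' : G}, k ∈ K → k' ∈ K → Commute (k : G ⧸ center G) (k' : G ⧸ center G) := fun {k k'} hk hk' => by
    have h1 : π ⁅k, k'⁆ = 1 := (QuotientGroup.eq_one_iff _).2 (hKcomm hk hk')
    rw [map_commutatorElement, commutatorElement_eq_one_iff_mul_comm] at h1
    exact h1
  let A : Subgroup (G ⧸ center G) :=
    { carrier := {a | ∃ k ∈ K, (k : G ⧸ center G) = a ∧ a ^ j = 1}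
      one_mem' := ⟨1, one_mem _, rfl, one_pow _⟩
      mul_mem' := by
        rintro _ _ ⟨k, hk, rfl, hka⟩ ⟨k', hk', rfl, hkb⟩
        exact ⟨k * k', mul_mem hk hk', rfl, by rw [(hKqc hk hk').mul_pow, hka, hkb, one_mul]⟩
      inv_mem' := by
        rintro _ ⟨k, hk, rfl, hka⟩
        exact ⟨k⁻¹, inv_mem hk, rfl, by rw [inv_pow, hka, inv_one]⟩ }
  have hAle : A ≤ GW.oCore (t : G ⧸ center G) := by
    rintro _ ⟨k, hk, rfl, -⟩; exact hOcore (hKO hk)
  have hAn : GW.oCore (t : G ⧸ center G) ≤ normalizer (A : Set (G ⧸ center G)) := by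
    intro q hq
    obtain ⟨o, ho, rfl⟩ := hlift hq
    rw [mem_normalizer_iff_map_conj_eq]
    refine eq_of_le_of_card_ge ?_ (le_of_eq (card_map_of_injective (MulAut.conj (o : G ⧸ center G)).injective).symm)
    rintro _ ⟨_, ⟨k, hk, rfl, hka⟩, rfl⟩
    exact ⟨o * k * o⁻¹, hKn o ho k hk, rfl, by
      show ((o : G ⧸ center G) * k * (o : G ⧸ center G)⁻¹) ^ j = 1
      rw [conj_pow, hka]; simp⟩
  have hAinv : ∀ a ∈ A, (s : G ⧸ center G) * a * (s : G ⧸ center G)⁻¹ = a⁻¹ := by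
    rintro _ ⟨k, hk, rfl, hka⟩
    rw [eq_inv_iff_mul_eq_one]
    show ((s * k * s⁻¹ * k : G) : G ⧸ center G) = 1
    refine (QuotientGroup.eq_one_iff _).2 (hWz (hinv hk) ((QuotientGroup.eq_one_iff _).1 ?_))
    rw [QuotientGroup.mk_pow, QuotientGroup.mk_mul, (hKqc (hKs k hk) hk).mul_pow, hka, mul_one]
    show ((s : G ⧸ center G) * k * (s : G ⧸ center G)⁻¹) ^ j = 1
    rw [conj_pow, hka]; simp
  have hsq : orderOf (s : G ⧸ center G) ∣ 2 := orderOf_dvd_of_pow_eq_one (by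
    rw [← QuotientGroup.mk_pow, pow_two, hs2, QuotientGroup.mk_one])
  refine ⟨A, ?_, hAn, hAinv, ?_, ?_⟩
  · intro a ha
    set Cq := GW.oCore (t : G ⧸ center G)
    haveI : IsMulCommutative A := ⟨⟨fun a b => Subtype.ext (by
      obtain ⟨k, hk, e, -⟩ := a.2
      obtain ⟨k', hk', e', -⟩ := b.2
      show (a : G ⧸ center G) * b = b * a
      rw [← e, ← e']
      exact (hKqc hk hk').eq)⟩⟩
    haveI : Group.IsNilpotent (A.subgroupOf Cq) := by
      letI : CommGroup (A.subgroupOf Cq) :=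
        { (inferInstance : Group (A.subgroupOf Cq)) with
          mul_comm := fun a b => Subtype.ext (Subtype.ext (by
            show ((a : Cq) : G ⧸ center G) * (b : Cq) = (b : Cq) * (a : Cq)
            exact congrArg Subtype.val
              (mul_comm' (⟨((a : Cq) : G ⧸ center G), a.2⟩ : A) ⟨((b : Cq) : G ⧸ center G), b.2⟩))) }
      infer_instance
    exact ⟨⟨a, hAle ha⟩, Components.le_fittingSubgroup (N := A.subgroupOf Cq)
      (normal_subgroupOf_of_le_normalizer hAn) ha, rfl⟩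
  · refine (eq_bot_iff_forall _).2 fun a ha => ?_
    obtain ⟨haA, haO, hac⟩ := ha
    have h1 := hAinv a haA
    rw [(mem_Cn.1 hac).eq, mul_inv_cancel_right] at h1
    exact eq_one_of_sq_odd (eq_inv_iff_mul_eq_one.1 h1) ((hyp.mem_oCore_iff hto).1 haO).2
  · refine le_antisymm (sup_le hAle inf_le_left) fun q hq => ?_
    obtain ⟨o, ho, rfl⟩ := hlift hq
    obtain ⟨k, hk, v, hv, rfl⟩ := hsup o ho
    have hD : ∀ {v : G}, v ∈ U → (v : G ⧸ center G) ∈ A ⊔ GW.oCore (t : G ⧸ center G) ⊓ GW.Cent (s : G ⧸ center G) :=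
      fun {v} hv => mem_sup_right ⟨hOcore hv.1, mem_Cn.2 (mk_commute_of (mem_Cn.1 hv.2))⟩
    rw [QuotientGroup.mk_mul]
    refine mul_mem ?_ (hD hv)
    obtain ⟨p, q, hpq⟩ := Nat.isCoprime_iff_coprime.2 hij
    have e1 : (k : G ⧸ center G) = ((k ^ j : G) : G ⧸ center G) ^ q * ((k : G ⧸ center G) ^ i) ^ p := by
      rw [QuotientGroup.mk_pow, ← zpow_natCast (k : G ⧸ center G) j, ← zpow_natCast (k : G ⧸ center G) i, ← zpow_mul,
        ← zpow_mul, ← zpow_add, show (j : ℤ) * q + (i : ℤ) * p = 1 by linear_combination hpq, zpow_one]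
    rw [e1]
    refine mul_mem (zpow_mem (hD (hWU (hKj k hk))) q) (mem_sup_left (zpow_mem ?_ p))
    refine ⟨k ^ i, pow_mem hk i, rfl, ?_⟩
    rw [← pow_mul, mul_comm, pow_mul, ← QuotientGroup.mk_pow, ← QuotientGroup.mk_pow]
    exact (QuotientGroup.eq_one_iff _).2 (hWj (hKj k hk))

omit m in
theorem four_cases {x y a b v : G} (hxx : x * x = 1) (hyy : y * y = 1) (hc : Commute x y)
    (ha : a = 1 ∨ a = x ∨ a = y ∨ a = x * y) (hb : b = 1 ∨ b = x ∨ b = y ∨ b = x * y)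
    (hv : v = 1 ∨ v = x ∨ v = y ∨ v = x * y) (ha1 : a ≠ 1) (hb1 : b ≠ 1) (hab : a ≠ b) :
    v = 1 ∨ v = a ∨ v = b ∨ v = a * b := by
  have h1 : x * (x * y) = y := by rw [← mul_assoc, hxx, one_mul]
  have h2 : y * (x * y) = x := by rw [← mul_assoc, ← hc.eq, mul_assoc, hyy, mul_one]
  have h3 : x * y * x = y := by rw [mul_assoc, ← hc.eq, h1]
  have h4 : x * y * y = x := by rw [mul_assoc, hyy, mul_one]
  have h5 : y * x = x * y := hc.eq.symm
  rcases ha with rfl | rfl | rfl | rfl <;> rcases hb with rfl | rfl | rfl | rfl <;>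
    rcases hv with rfl | rfl | rfl | rfl <;>
    first
      | exact absurd rfl ha1
      | exact absurd rfl hb1
      | exact absurd rfl hab
      | exact Or.inl rfl
      | exact Or.inr (Or.inl rfl)
      | exact Or.inr (Or.inr (Or.inl rfl))
      | exact Or.inr (Or.inr (Or.inr rfl))
      | exact Or.inr (Or.inr (Or.inr h1.symm))
      | exact Or.inr (Or.inr (Or.inr h2.symm))
      | exact Or.inr (Or.inr (Or.inr h3.symm))
      | exact Or.inr (Or.inr (Or.inr h4.symm))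
      | exact Or.inr (Or.inr (Or.inr h5.symm))

/-- Abelian Sylow 2-subgroups: the image modulo the centre is `PSL(2, F)` with `|F|` odd, and the Sylow
2-subgroups of the image have order four. -/
theorem psl_of_abelian (T : Sylow 2 G) (hab : ∀ a ∈ (T : Subgroup G), ∀ b ∈ (T : Subgroup G), Commute a b) :
    ∃ (F : Type) (_ : Field F) (_ : Fintype F), Odd (Fintype.card F) ∧
      (∀ S : Sylow 2 (G ⧸ center G), Nat.card (S : Subgroup (G ⧸ center G)) = 4) ∧
      Nonempty (G ⧸ center G ≃* Matrix.ProjectiveSpecialLinearGroup (Fin 2) F) := by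
  classical
  haveI : Fact (Nat.Prime 2) := ⟨Nat.prime_two⟩
  set π := QuotientGroup.mk' (center G) with hπ
  have hodd := m.not_dvd_card_center T hab
  have habT : ∀ T' : Sylow 2 G, ∀ a ∈ (T' : Subgroup G), ∀ b ∈ (T' : Subgroup G), Commute a b := by
    intro T' a ha b hb
    obtain ⟨c, hc⟩ := MulAction.exists_smul_eq G T T'
    rw [← hc, Sylow.coe_subgroup_smul] at ha hb
    obtain ⟨a', ha', rfl⟩ := ha
    obtain ⟨b', hb', rfl⟩ := hb
    exact commute_conj_iff.2 (hab a' ha' b' hb')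
  -- elementary facts for every Sylow subgroup
  have hklein : ∀ T' : Sylow 2 G, ∃ t t' n : G, t ∈ (T' : Subgroup G) ∧ t' ∈ (T' : Subgroup G) ∧ Bad t ∧
      t * t = 1 ∧ t' * t' = 1 ∧ t ≠ 1 ∧ t' = n * t * n⁻¹ ∧ t' ≠ t ∧ n * t' * n⁻¹ = t * t' ∧
      n ∈ normalizer ((T' : Subgroup G) : Set G) ∧
      ∀ v ∈ (T' : Subgroup G), v = 1 ∨ v = t ∨ v = t' ∨ v = t * t' := by
    intro T'
    obtain ⟨t, n, htT, ht2, hb, hn, hne, hcyc, hall⟩ := m.exists_klein T' (habT T')
    have h2 : t * t = 1 := by rw [← pow_two, ← ht2, pow_orderOf_eq_one]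
    refine ⟨t, n * t * n⁻¹, n, htT, (mem_normalizer_iff.1 hn t).1 htT, hb, h2, ?_,
      fun e => hb.1 (e ▸ one_mem _), rfl, hne, hcyc, hn, hall⟩
    rw [show n * t * n⁻¹ * (n * t * n⁻¹) = n * (t * t) * n⁻¹ by group, h2]; group
  obtain ⟨t, t', n, htT, ht'T, hb, ht2, ht'2, ht1, ht', hne, hcyc, hn, hall⟩ := hklein T
  set Tq : Sylow 2 (G ⧸ center G) := T.mapSurjective (QuotientGroup.mk'_surjective _)
  have hTq : (Tq : Subgroup (G ⧸ center G)) = (T : Subgroup G).map π := Sylow.coe_mapSurjective _ _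
  have hinj : ∀ {T' : Sylow 2 G} {v : G}, v ∈ (T' : Subgroup G) → (v : G ⧸ center G) = 1 → v = 1 := by
    intro T' v hv e
    by_contra h1
    obtain ⟨k, hk⟩ := T'.2 ⟨v, hv⟩
    obtain ⟨i, -, hi⟩ := (Nat.dvd_prime_pow Nat.prime_two).1
      (orderOf_dvd_of_pow_eq_one (congrArg Subtype.val hk : v ^ (2 ^ k) = 1))
    refine hodd (Dvd.dvd.trans ?_ (orderOf_dvd_natCard (⟨v, (QuotientGroup.eq_one_iff v).1 e⟩ : center G)))
    rw [Subgroup.orderOf_mk, hi]
    exact dvd_pow_self 2 fun e => h1 (orderOf_eq_one_iff.1 (by rw [hi, e, pow_zero]))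
  have hmem : ∀ q, q ∈ (Tq : Subgroup (G ⧸ center G)) ↔
      q = 1 ∨ q = π t ∨ q = π t' ∨ q = π t * π t' := fun q => by
    rw [hTq]
    constructor
    · rintro ⟨v, hv, rfl⟩
      rcases hall v hv with rfl | rfl | rfl | rfl <;> simp
    · rintro (rfl | rfl | rfl | rfl)
      · exact one_mem _
      · exact mem_map_of_mem π htT
      · exact mem_map_of_mem π ht'T
      · exact mul_mem (mem_map_of_mem π htT) (mem_map_of_mem π ht'T)
  have ht'1 : t' ≠ 1 := fun e => ht1 (conj_eq_one_iff.1 (ht' ▸ e))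
  have hpair : GW.Pair (π t) (π t') := by
    refine ⟨orderOf_eq_prime ?_ fun e => ht1 (hinj htT e), orderOf_eq_prime ?_ fun e => ht'1 (hinj ht'T e),
      (mk_commute_of (hab t htT t' ht'T)).eq, fun e => hne ?_⟩
    · rw [← map_pow, pow_two, ht2, map_one]
    · rw [← map_pow, pow_two, ht'2, map_one]
    · have h1 := hinj (mul_mem htT (inv_mem ht'T)) (by
        show π (t * t'⁻¹) = 1
        rw [map_mul, map_inv, e, mul_inv_cancel])
      exact (mul_inv_eq_one.1 h1).symm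
  have hTfour : (Tq : Subgroup (G ⧸ center G)) = hpair.four := SetLike.ext fun q => (hmem q).trans Iff.rfl
  have hcard : Nat.card (Tq : Subgroup (G ⧸ center G)) = 4 := by
    rw [hTfour]
    have h : (hpair.four : Set (G ⧸ center G)) = {1, π t, π t', π t * π t'} := by
      ext q; simp [GW.Pair.mem_four]
    rw [← SetLike.coe_sort_coe, Nat.card_coe_set_eq, h]
    have e1 := BSW.ne_one_of_order hpair.ha
    have e2 := BSW.ne_one_of_order hpair.hb
    have e3 := BSW.ne_one_of_order hpair.order_mul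
    rw [Set.ncard_insert_of_notMem (by simp [e1.symm, e2.symm, e3.symm]),
      Set.ncard_insert_of_notMem (by simp [hpair.ne, hpair.mul_ne.symm]),
      Set.ncard_pair hpair.mul_ne_right.symm]
  have hSylow : ∀ S : Sylow 2 (G ⧸ center G), Nat.card (S : Subgroup (G ⧸ center G)) = 4 := fun S => by
    rw [S.card_eq_multiplicity, ← Tq.card_eq_multiplicity, hcard]
  haveI : IsKleinFour (Tq : Subgroup (G ⧸ center G)) := by
    refine ⟨hcard, ?_⟩
    refine ((Nat.dvd_prime Nat.prime_two).1 (Monoid.exponent_dvd_of_forall_pow_eq_one fun q => ?_)).resolve_left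
      fun e => ?_
    · obtain ⟨k, hk⟩ : ∃ k, (q : G ⧸ center G) ^ 2 = k ∧ k = 1 := ⟨_, rfl, by
        have hq : (q : G ⧸ center G) ∈ hpair.four := hTfour.le q.2
        rw [GW.Pair.mem_four] at hq
        rcases hq with e | e | e | e <;> rw [e, pow_two]
        · exact one_mul 1
        · exact BSW.sq_of_order hpair.ha
        · exact BSW.sq_of_order hpair.hb
        · exact hpair.mul_sq⟩
      exact Subtype.ext (hk.1.trans hk.2)
    · haveI := Monoid.exp_eq_one_iff.1 e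
      rw [Nat.card_of_subsingleton (1 : (Tq : Subgroup (G ⧸ center G)))] at hcard
      omega
  obtain ⟨eK⟩ := IsKleinFour.nonempty_mulEquiv (G₁ := (Tq : Subgroup (G ⧸ center G))) (G₂ := DihedralGroup 2)
  have hyp : GW.Hyp Tq (π t) := ⟨m.isSimple, ⟨2, le_rfl, ⟨eK⟩⟩, hpair.ha,
    hTq ▸ mem_map_of_mem π htT, fun q hq => by
      rw [hTfour] at hq
      exact (hpair.commute_of_mem_four hq hpair.left_mem).eq⟩
  have hsp : ∀ a b : G ⧸ center G, GW.Pair a b → GW.Splits a b := by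
    intro a b hp
    obtain ⟨S, hS⟩ := hp.isPGroup.exists_le_sylow
    obtain ⟨c, hc⟩ := MulAction.exists_smul_eq (G ⧸ center G) Tq S
    obtain ⟨c, rfl⟩ := QuotientGroup.mk'_surjective (center G) c
    have hSe : (S : Subgroup (G ⧸ center G)) = ((c • T : Sylow 2 G) : Subgroup G).map π := by
      rw [← hc, Sylow.coe_subgroup_smul, Sylow.coe_subgroup_smul, hTq]
      exact (Coprime.map_conj_smul π c (T : Subgroup G)).symm
    have haS := hS hp.left_mem
    have hbS := hS hp.right_mem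
    rw [hSe] at haS hbS
    obtain ⟨a₀, ha₀, rfl⟩ := haS
    obtain ⟨b₀, hb₀, rfl⟩ := hbS
    obtain ⟨x, y, k, hxT, hyT, hbx, hx2, hy2, hx1, hy, hyx, hcyc', hk, hall'⟩ := hklein (c • T)
    have hxy : Commute x y := habT _ x hxT y hyT
    have hsq : ∀ v ∈ ((c • T : Sylow 2 G) : Subgroup G), v * v = 1 := fun v hv => by
      rcases hall' v hv with rfl | rfl | rfl | rfl
      · exact one_mul 1
      · exact hx2
      · exact hy2
      · rw [hxy.symm.mul_mul_mul_comm, hx2, hy2, one_mul]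
    have ha1 : a₀ ≠ 1 := fun e => BSW.ne_one_of_order hp.ha (by rw [e, map_one])
    have hb1 : b₀ ≠ 1 := fun e => BSW.ne_one_of_order hp.hb (by rw [e, map_one])
    have hab1 : a₀ ≠ b₀ := fun e => hp.ne (congrArg π e)
    have hcases := fun v hv => four_cases hx2 hy2 hxy (hall' a₀ ha₀) (hall' b₀ hb₀) (hall' v hv) ha1 hb1 hab1
    have hba : Bad a₀ ∧ ¬ Commute a₀ k := by
      rcases hall' a₀ ha₀ with e | e | e | e
      · exact absurd e ha1
      · refine e ▸ ⟨hbx, fun hc' => hyx ?_⟩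
        rw [hy, hc'.symm.eq, mul_inv_cancel_right]
      · refine e ▸ ⟨hy ▸ hbx.conj k, fun hc' => ?_⟩
        rw [hc'.symm.eq, mul_inv_cancel_right] at hcyc'
        exact hx1 (right_eq_mul.1 hcyc')
      · refine e ▸ ⟨hcyc' ▸ (hy ▸ hbx.conj k).conj k, fun hc' => ?_⟩
        have e1 : k * (x * y) * k⁻¹ = (k * x * k⁻¹) * (k * y * k⁻¹) := by group
        rw [hc'.symm.eq, mul_inv_cancel_right, ← hy, hcyc', ← mul_assoc, hxy.symm.eq, mul_assoc, hy2, mul_one] at e1
        exact hyx (by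
          have := mul_eq_left.1 e1
          exact absurd this fun e => hx1 (conj_eq_one_iff.1 (hy ▸ e)))
    refine m.splits_of (c • T) (habT _) ha₀ (hsq _ ha₀) ha1 hba.1 hb₀ (hsq _ hb₀) (fun hle => ?_) hcases hk
      hba.2 hyp
    -- otherwise all three involutions have the same centraliser
    have hnc : ∀ v ∈ ((c • T : Sylow 2 G) : Subgroup G), v ≠ 1 → v ∉ center G := fun v hv hv1 hvc =>
      hv1 (hinj hv ((QuotientGroup.eq_one_iff v).2 hvc))
    have hall3 : ∀ v ∈ ((c • T : Sylow 2 G) : Subgroup G), v ≠ 1 → Cn v = Cn a₀ := fun v hv hv1 => by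
      rcases hcases v hv with e | e | e | e
      · exact absurd e hv1
      · rw [e]
      · exact e ▸ (m.toHyp.Cn_eq_of_le hba.1 (hnc _ hb₀ hb1) hle).1
      · refine (m.toHyp.Cn_eq_of_le hba.1 (hnc v hv hv1) fun w hw => ?_).1
        rw [e]
        exact mem_Cn.2 ((mem_Cn.1 hw).mul_left (mem_Cn.1 (hle hw)))
    have hy1 : y ≠ 1 := fun e => hx1 (conj_eq_one_iff.1 (hy ▸ e))
    have h1 := m.toHyp.mem_Cn_of_conj hbx (g := k) (by rw [← hy, hall3 y hyT hy1, hall3 x hxT hx1])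
    exact hyx (by rw [hy, (mem_Cn.1 h1).symm.eq, mul_inv_cancel_right])
  have nf : GW.NoFixed (G ⧸ center G) := fun a b ha hb hc hne' =>
    by_contra fun hD => GW.false_of_four hyp hsp hcard ⟨ha, hb, hc, hne'⟩ hD
  obtain ⟨F, iF, iF', hoddF, he⟩ := hyp.psl_of_noFixed nf
  exact ⟨F, iF, iF', hoddF, hSylow, he⟩

end MNC

end Cfsg.Agent.MinNonCA
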