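import Cfsg.Agent.Lib.MinNonCA.Common
import Cfsg.Agent.Lib.Coprime.Generation
import Cfsg.Agent.Lib.PSL2.Centralizer
import Cfsg.Agent.S0949

/-!
# Minimal non-CA groups with an abelian Sylow 2-subgroup: it is a four group

Some involution centraliser `H` is nonabelian (else `G ≅ SL(2, 2 ^ n)` is CA).  `H` has a normal
2-complement, the part of `T` central in `H` is TI, and this forces rank two and homocyclic shape.
-/

set_option autoImplicit false
set_option linter.unusedSectionVars false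
set_option linter.style.haveILetI false

namespace Cfsg.Agent.MinNonCA

open Subgroup
open scoped commutatorElement MatrixGroups

variable {G : Type*} [Group G] [Finite G]

namespace MNC

variable (m : MNC G)

include m

/-- Some involution has nonabelian centraliser (abelian Sylow 2-subgroups). -/
theorem exists_bad_involution (T : Sylow 2 G)
    (hab : ∀ a ∈ (T : Subgroup G), ∀ b ∈ (T : Subgroup G), Commute a b) :
    ∃ t : G, orderOf t = 2 ∧ Bad t := by
  haveI : Fact (Nat.Prime 2) := ⟨Nat.prime_two⟩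
  have hodd := m.not_dvd_card_center T hab
  by_contra hcon
  push Not at hcon
  have hH : PSL2.AbInv.Hyp G := fun t ht => ⟨⟨fun a b => Subtype.ext (by
    have hnc : t ∉ center G := fun hc => hodd (by
      rw [← ht, ← Subgroup.orderOf_mk _ hc]; exact orderOf_dvd_natCard _)
    exact (Ab.of_not_bad hnc (hcon t ht) a b (mem_Cn.1 a.2) (mem_Cn.1 b.2)).eq)⟩⟩
  have hnc : ¬ IsCyclic (T : Subgroup G) := fun hc => by
    refine m.not_isCyclic_sylow (T.mapSurjective (QuotientGroup.mk'_surjective _)) ?_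
    rw [Sylow.coe_mapSurjective]
    exact isCyclic_of_surjective _ ((QuotientGroup.mk' (center G)).subgroupMap_surjective (T : Subgroup G))
  have hnn : ¬ (T : Subgroup G).Normal := fun hn => by
    haveI := hn
    have hle : (T : Subgroup G) ≤ center G := m.le_center fun e => by
      haveI := T.2.isNilpotent
      exact m.notSolvable (Group.isSolvable_of_surjective
        (f := ((MulEquiv.subgroupCongr e).trans Subgroup.topEquiv).toMonoidHom)
        ((MulEquiv.subgroupCongr e).trans Subgroup.topEquiv).surjective)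
    refine hnc ?_
    have h1 : (T : Subgroup G) = ⊥ := (eq_bot_iff_forall _).2 fun g hg => by
      by_contra h1
      obtain ⟨k, hk⟩ := T.2 ⟨g, hg⟩
      obtain ⟨i, -, hi⟩ := (Nat.dvd_prime_pow Nat.prime_two).1
        (orderOf_dvd_of_pow_eq_one (congrArg Subtype.val hk : g ^ (2 ^ k) = 1))
      refine hodd (Dvd.dvd.trans ?_ (orderOf_dvd_natCard (⟨g, hle hg⟩ : center G)))
      rw [Subgroup.orderOf_mk, hi]
      exact dvd_pow_self 2 fun e => h1 (orderOf_eq_one_iff.1 (by rw [hi, e, pow_zero]))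
    rw [h1]
    infer_instance
  obtain ⟨F, iF, iF', A, iA, iA', -, -, ⟨e⟩⟩ := PSL2.AbInv.exists_equiv hH T hnc hnn
  obtain ⟨x, hxc, a, b, ha, hb, hxab⟩ := m.exists_bad
  have hx1 : (e x).1 ∉ center SL(2, F) := fun hc => hxc (mem_center_iff.2 fun g => e.injective (by
    rw [map_mul, map_mul]
    exact Prod.ext (mem_center_iff.1 hc (e g).1) (mul_comm _ _)))
  refine hxab (e.injective ?_)
  rw [map_mul, map_mul]
  refine Prod.ext ?_ (mul_comm _ _)
  exact (PSL2.cent_comm hx1 (congrArg Prod.fst (by rw [← map_mul, ← map_mul, ha.eq] : e x * e a = e a * e x)).symm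
    (congrArg Prod.fst (by rw [← map_mul, ← map_mul, hb.eq] : e x * e b = e b * e x)).symm)

/-- In an abelian Sylow 2-subgroup an element normalising it and fixing one nontrivial element
centralises it. -/
theorem semiregular (T : Sylow 2 G) (hab : ∀ a ∈ (T : Subgroup G), ∀ b ∈ (T : Subgroup G), Commute a b)
    {w s a : G} (hw : w ∈ normalizer ((T : Subgroup G) : Set G)) (hs : s ∈ (T : Subgroup G)) (hs1 : s ≠ 1)
    (hsw : Commute s w) (ha : a ∈ (T : Subgroup G)) : Commute a w := by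
  haveI : Fact (Nat.Prime 2) := ⟨Nat.prime_two⟩
  by_contra hne
  have hN : normalizer ((T : Subgroup G) : Set G) ≠ ⊤ := fun e => by
    haveI := normalizer_eq_top_iff.1 e
    refine hne (center_commute (m.le_center (N := (T : Subgroup G)) (fun e' => ?_) ha) w)
    haveI := T.2.isNilpotent
    exact m.notSolvable (Group.isSolvable_of_surjective
      (f := ((MulEquiv.subgroupCongr e').trans Subgroup.topEquiv).toMonoidHom)
      ((MulEquiv.subgroupCongr e').trans Subgroup.topEquiv).surjective)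
  exact hs1 (m.eq_one_of_normalizer T hab hs fun n hn =>
    m.toHyp.proper _ hN s (le_normalizer hs) a (le_normalizer ha) w hw (hab s hs a ha) hsw hne n hn)

/-- The normal 2-complement of an involution centraliser. -/
theorem exists_complement (T : Sylow 2 G) (hab : ∀ a ∈ (T : Subgroup G), ∀ b ∈ (T : Subgroup G), Commute a b)
    {t : G} (ht : t ∈ (T : Subgroup G)) (ht1 : t ≠ 1) :
    ∃ O : Subgroup G, O ≤ Cn t ∧ Cn t ≤ normalizer (O : Set G) ∧ Odd (Nat.card O) ∧
      (∀ h ∈ Cn t, ∃ o ∈ O, ∃ s ∈ (T : Subgroup G), h = o * s) ∧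
      ∀ h ∈ Cn t, Odd (orderOf h) → h ∈ O := by
  haveI : Fact (Nat.Prime 2) := ⟨Nat.prime_two⟩
  have hT : (T : Subgroup G) ≤ Cn t := fun s hs => mem_Cn.2 (hab t ht s hs)
  obtain ⟨P, hPmem⟩ : ∃ P : Sylow 2 (Cn t), ∀ q : Cn t, q ∈ (P : Subgroup (Cn t)) ↔ (q : G) ∈ (T : Subgroup G) :=
    ⟨T.subtype hT, fun q => by rw [Sylow.coe_subtype, mem_subgroupOf]⟩
  have hP : normalizer ((P : Subgroup (Cn t)) : Set (Cn t)) ≤ centralizer ((P : Subgroup (Cn t)) : Set (Cn t)) := by
    intro w hw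
    refine mem_centralizer_iff.2 fun q hq => Subtype.ext ?_
    have hwN : (w : G) ∈ normalizer ((T : Subgroup G) : Set G) := by
      refine mem_normalizer_iff.2 fun v => ⟨fun hv => ?_, fun hv => ?_⟩
      · exact (hPmem (w * ⟨v, hT hv⟩ * w⁻¹)).1 ((mem_normalizer_iff.1 hw _).1 ((hPmem ⟨v, hT hv⟩).2 hv))
      · have hvC : v ∈ Cn t := by
          simpa [mul_assoc] using mul_mem (mul_mem (inv_mem w.2) (hT hv)) w.2
        exact (hPmem ⟨v, hvC⟩).1 ((mem_normalizer_iff.1 hw _).2 ((hPmem (w * ⟨v, hvC⟩ * w⁻¹)).2 hv))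
    exact (m.semiregular T hab hwN ht ht1 (mem_Cn.1 w.2) ((hPmem q).1 hq)).eq
  obtain ⟨K, hKn, hc⟩ : ∃ K : Subgroup (Cn t), K.Normal ∧ IsComplement' K (P : Subgroup (Cn t)) :=
    ⟨(MonoidHom.transferSylow P hP).ker, inferInstance, MonoidHom.ker_transferSylow_isComplement' P hP⟩
  haveI := hKn
  have hKodd : Odd (Nat.card K) := by
    rw [← Nat.not_even_iff_odd, even_iff_two_dvd]
    exact fun h2 => P.not_dvd_index (hc.index_eq_card ▸ h2)
  refine ⟨K.map (Cn t).subtype, map_subtype_le _, fun g hg => ?_, ?_, fun g hg => ?_, fun g hg hgo => ?_⟩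
  · rw [mem_normalizer_iff_map_conj_eq]
    refine eq_of_le_of_card_ge ?_ (le_of_eq (card_map_of_injective (MulAut.conj g).injective).symm)
    rintro _ ⟨_, ⟨k, hk, rfl⟩, rfl⟩
    exact ⟨⟨g, hg⟩ * k * ⟨g, hg⟩⁻¹, hKn.conj_mem k hk _, by simp [MulAut.conj_apply]⟩
  · rwa [card_map_of_injective (Cn t).subtype_injective]
  · obtain ⟨⟨k, q⟩, hkq⟩ := hc.surjective ⟨g, hg⟩
    exact ⟨_, mem_map_of_mem _ k.2, _, (hPmem q).1 q.2,
      (congrArg Subtype.val hkq).symm⟩
  · refine ⟨⟨g, hg⟩, ?_, rfl⟩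
    show (⟨g, hg⟩ : Cn t) ∈ K
    rw [← QuotientGroup.eq_one_iff (N := K), ← orderOf_eq_one_iff]
    obtain ⟨k, hk⟩ := P.2.exists_card_eq
    refine Nat.eq_one_of_dvd_coprimes ((Nat.coprime_two_left.2 hgo).pow_left k) ?_
      ((orderOf_map_dvd (QuotientGroup.mk' K) _).trans (by rw [Subgroup.orderOf_mk]))
    rw [← hk, ← hc.symm.index_eq_card, index_eq_card]
    exact orderOf_dvd_natCard _

omit m in
/-- Extracting `x` from commutation with `x ^ 2` and an odd power. -/
theorem commute_of_two {n v : G} {b : ℕ} (hb : Odd b) (h2 : Commute (n ^ 2) v) (hbv : Commute (n ^ b) v) :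
    Commute n v :=
  (mem_Cn.1 (mem_of_coprime_pow (H := Cn v) (Nat.coprime_two_left.2 hb) (mem_Cn.2 h2.symm)
    (mem_Cn.2 hbv.symm))).symm

/-- The Klein data. -/
theorem exists_klein (T : Sylow 2 G) (hab : ∀ a ∈ (T : Subgroup G), ∀ b ∈ (T : Subgroup G), Commute a b) :
    ∃ t n : G, t ∈ (T : Subgroup G) ∧ orderOf t = 2 ∧ Bad t ∧ n ∈ normalizer ((T : Subgroup G) : Set G) ∧
      n * t * n⁻¹ ≠ t ∧ n * (n * t * n⁻¹) * n⁻¹ = t * (n * t * n⁻¹) ∧
      ∀ s ∈ (T : Subgroup G), s = 1 ∨ s = t ∨ s = n * t * n⁻¹ ∨ s = t * (n * t * n⁻¹) := by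
  haveI : Fact (Nat.Prime 2) := ⟨Nat.prime_two⟩
  have hodd := m.not_dvd_card_center T hab
  obtain ⟨t₀, ht₀, hb₀⟩ := m.exists_bad_involution T hab
  -- a conjugate in `T`
  obtain ⟨t, htT, ht2, hb⟩ : ∃ t, t ∈ (T : Subgroup G) ∧ orderOf t = 2 ∧ Bad t := by
    obtain ⟨R, hR⟩ := (IsPGroup.of_card (n := 1) (by rw [Nat.card_zpowers, ht₀, pow_one]) :
      IsPGroup 2 (zpowers t₀)).exists_le_sylow
    obtain ⟨c, hc⟩ := MulAction.exists_smul_eq G R T
    refine ⟨c * t₀ * c⁻¹, ?_, ?_, hb₀.conj c⟩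
    · rw [← hc]
      exact Subgroup.smul_mem_pointwise_smul t₀ (MulAut.conj c) (R : Subgroup G) (hR (mem_zpowers t₀))
    · rw [← ht₀]
      exact orderOf_injective (MulAut.conj c).toMonoidHom (MulAut.conj c).injective t₀
  have ht1 : t ≠ 1 := fun e => by rw [e, orderOf_one] at ht2; omega
  have htt : t * t = 1 := by rw [← pow_two, ← ht2, pow_orderOf_eq_one]
  obtain ⟨n, hn, hnt⟩ : ∃ n ∈ normalizer ((T : Subgroup G) : Set G), ¬ Commute t n := by
    by_contra hcon
    push Not at hcon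
    exact ht1 (m.eq_one_of_normalizer T hab htT hcon)
  set t' := n * t * n⁻¹ with ht'
  have ht'T : t' ∈ (T : Subgroup G) := (mem_normalizer_iff.1 hn t).1 htT
  have ht't : t' ≠ t := fun e => hnt (mul_inv_eq_iff_eq_mul.1 e).symm
  have ht'2 : t' * t' = 1 := by
    rw [ht', show n * t * n⁻¹ * (n * t * n⁻¹) = n * (t * t) * n⁻¹ by group, htt]; group
  have hne : Cn t' ≠ Cn t := fun e => hnt (mem_Cn.1 (m.toHyp.mem_Cn_of_conj hb e))
  have hTI : ∀ s ∈ (T : Subgroup G), Cn t ≤ Cn s → Cn t' ≤ Cn s → s = 1 := fun s hs h1 h2 => by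
    by_contra hs1
    have hsc : s ∉ center G := fun hc => by
      obtain ⟨k, hk⟩ := T.2 ⟨s, hs⟩
      obtain ⟨i, -, hi⟩ := (Nat.dvd_prime_pow Nat.prime_two).1
        (orderOf_dvd_of_pow_eq_one (congrArg Subtype.val hk : s ^ (2 ^ k) = 1))
      refine hodd (Dvd.dvd.trans ?_ (orderOf_dvd_natCard (⟨s, hc⟩ : center G)))
      rw [Subgroup.orderOf_mk, hi]
      exact dvd_pow_self 2 fun e => hs1 (orderOf_eq_one_iff.1 (by rw [hi, e, pow_zero]))
    exact hne ((m.toHyp.Cn_eq_of_le (hb.conj n) hsc h2).1.symm.trans (m.toHyp.Cn_eq_of_le hb hsc h1).1)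
  obtain ⟨O, hOle, hOn, hOodd, hdec, -⟩ := m.exists_complement T hab htT ht1
  -- the part of `T` central in `Cn t`
  let T0 : Subgroup G :=
    { carrier := {s | s ∈ (T : Subgroup G) ∧ Cn t ≤ Cn s}
      one_mem' := ⟨one_mem _, fun v _ => mem_Cn.2 (Commute.one_left v)⟩
      mul_mem' := fun {a b} ha hb' => ⟨mul_mem ha.1 hb'.1, fun v hv =>
        mem_Cn.2 ((mem_Cn.1 (ha.2 hv)).mul_left (mem_Cn.1 (hb'.2 hv)))⟩
      inv_mem' := fun {a} ha => ⟨inv_mem ha.1, fun v hv => mem_Cn.2 (mem_Cn.1 (ha.2 hv)).inv_left⟩ }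
  have hU : ∀ e ∈ (T : Subgroup G), e ∉ T0 → O ⊓ centralizer {e} ≤ O ⊓ centralizer ((T : Subgroup G) : Set G) := by
    intro e he he0 o ho
    refine ⟨ho.1, mem_centralizer_iff.2 fun s hs => ?_⟩
    by_contra hne'
    refine he0 ⟨he, m.toHyp.le_Cn hb.ne_top (mem_Cn.2 (hab t htT e he)) (hOle ho.1) (mem_Cn.2 (hab t htT s hs))
      (mem_Cn.1 ho.2) (hab e he s hs) fun hc => hne' hc.eq.symm⟩
  have hfour : ∀ e₁ ∈ (T : Subgroup G), ∀ e₂ ∈ (T : Subgroup G), e₁ ∉ T0 → e₂ ∉ T0 → e₁ * e₂ ∉ T0 →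
      e₁ * e₁ = 1 → e₂ * e₂ = 1 → False := by
    intro e₁ he₁ e₂ he₂ h1 h2 h12 hs1 hs2
    set A := T0 ⊔ zpowers e₁ ⊔ zpowers e₂ with hA
    have hAT : A ≤ (T : Subgroup G) := sup_le (sup_le (fun s hs => hs.1) (zpowers_le.2 he₁)) (zpowers_le.2 he₂)
    haveI : IsMulCommutative A := ⟨⟨fun a b => Subtype.ext (hab a (hAT a.2) b (hAT b.2)).eq⟩⟩
    let S2 : Subgroup G :=
      { carrier := {a | a ∈ (T : Subgroup G) ∧ a * a ∈ T0}
        one_mem' := ⟨one_mem _, by rw [one_mul]; exact one_mem _⟩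
        mul_mem' := fun {a b} ha hb' => ⟨mul_mem ha.1 hb'.1, by
          rw [(hab b hb'.1 a ha.1).mul_mul_mul_comm]; exact mul_mem ha.2 hb'.2⟩
        inv_mem' := fun {a} ha => ⟨inv_mem ha.1, by rw [← mul_inv_rev]; exact inv_mem ha.2⟩ }
    have hAS : A ≤ S2 := sup_le (sup_le (fun s hs => ⟨hs.1, mul_mem hs hs⟩)
      (zpowers_le.2 ⟨he₁, by rw [hs1]; exact one_mem _⟩)) (zpowers_le.2 ⟨he₂, by rw [hs2]; exact one_mem _⟩)
    have heq := Coprime.eq_of_forall_centralizer_le' (A := A) (B₀ := T0) (K := O)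
      (S := O ⊓ centralizer ((T : Subgroup G) : Set G)) (le_sup_of_le_left le_sup_left)
      (fun s hs => mem_centralizer_iff.2 fun o ho => (mem_Cn.1 (hs.2 (hOle ho))).eq.symm)
      (fun a ha e => by
        obtain ⟨haT, ha2⟩ := hAS ha
        let Ka : Subgroup G :=
          { carrier := {g | g ∈ (T : Subgroup G) ∧ (g ∈ T0 ∨ g * a ∈ T0)}
            one_mem' := ⟨one_mem _, Or.inl (one_mem _)⟩
            mul_mem' := fun {u v} hu hv => ⟨mul_mem hu.1 hv.1, by
              rcases hu.2 with hu' | hu' <;> rcases hv.2 with hv' | hv'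
              · exact Or.inl (mul_mem hu' hv')
              · right; rw [mul_assoc]; exact mul_mem hu' hv'
              · right; rw [mul_assoc, (hab v hv.1 a haT).eq, ← mul_assoc]; exact mul_mem hu' hv'
              · left
                have := mul_mem (mul_mem hu' hv') (inv_mem ha2)
                rwa [(hab a haT v hv.1).mul_mul_mul_comm, mul_inv_cancel_right] at this⟩
            inv_mem' := fun {u} hu => ⟨inv_mem hu.1, by
              rcases hu.2 with hu' | hu'
              · exact Or.inl (inv_mem hu')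
              · right
                rw [show u⁻¹ * a = (u * a)⁻¹ * (a * a) by rw [(hab u hu.1 a haT).eq]; group]
                exact mul_mem (inv_mem hu') ha2⟩ }
        have hle : A ≤ Ka := e.ge.trans (sup_le (fun s hs => ⟨hs.1, Or.inl hs⟩)
          (zpowers_le.2 ⟨haT, Or.inr ha2⟩))
        have k1 := ((hle (mem_sup_left (mem_sup_right (mem_zpowers e₁)))).2).resolve_left h1
        have k2 := ((hle (mem_sup_right (mem_zpowers e₂))).2).resolve_left h2
        refine h12 ?_
        have := mul_mem (mul_mem k1 k2) (inv_mem ha2)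
        rwa [(hab a haT e₂ he₂).mul_mul_mul_comm, mul_inv_cancel_right] at this)
      (fun v hv => hOn (mem_Cn.2 (hab t htT v (hAT hv))))
      (by
        obtain ⟨k, hk⟩ := (T.2.to_le hAT).exists_card_eq
        rw [hk]; exact (Nat.coprime_two_left.2 hOodd).pow_left k)
      inf_le_left (fun a ha ha0 => hU a (hAT ha) ha0)
    -- so `Cn t` is abelian
    obtain ⟨a, b, ha, hb', hab'⟩ := hb.2
    obtain ⟨o, ho, s, hs, rfl⟩ := hdec a (mem_Cn.2 ha)
    obtain ⟨o', ho', s', hs', rfl⟩ := hdec b (mem_Cn.2 hb')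
    have hTc : ∀ {o : G}, o ∈ O → ∀ {s : G}, s ∈ (T : Subgroup G) → Commute o s := fun {o} ho {s} hs =>
      ((mem_centralizer_iff.1 (heq.ge ho).2) s hs).symm
    have hoo : Commute o o' := by
      by_contra hne'
      exact h1 ⟨he₁, m.toHyp.le_Cn hb.ne_top (mem_Cn.2 (hab t htT e₁ he₁)) (hOle ho) (hOle ho')
        (hTc ho he₁).symm (hTc ho' he₁).symm hne'⟩
    exact hab' ((hoo.mul_right (hTc ho hs')).mul_left ((hTc ho' hs).symm.mul_right (hab s hs s' hs')))
  have ht0 : t ∈ T0 := ⟨htT, le_rfl⟩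
  have hconjCn : ∀ s : G, Cn t ≤ Cn s → Cn t' ≤ Cn (n * s * n⁻¹) := fun s hs v hv => by
    refine mem_Cn.2 ?_
    rw [← commute_conj_iff (g := n⁻¹)]
    have h1 : Commute t (n⁻¹ * v * n) := by
      rw [← commute_conj_iff (g := n)]; simpa [ht', mul_assoc] using mem_Cn.1 hv
    simpa [mul_assoc] using mem_Cn.1 (hs (mem_Cn.2 h1))
  have ht'0 : t' ∉ T0 := fun hc => by
    have h1 : t' = 1 := hTI t' ht'T hc.2 (le_rfl)
    exact ht1 (conj_eq_one_iff.1 h1)
  have hinv0 : ∀ s ∈ T0, s * s = 1 → s = 1 ∨ s = t := by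
    intro s hs hs2
    by_cases hs1 : s = 1
    · exact Or.inl hs1
    right
    set s' := n * s * n⁻¹ with hs'
    have hs'T : s' ∈ (T : Subgroup G) := (mem_normalizer_iff.1 hn s).1 hs.1
    have hs'n : Cn t' ≤ Cn s' := hconjCn s hs.2
    have hs'0 : s' ∉ T0 := fun hc => hs1 (conj_eq_one_iff.1 (hTI s' hs'T hc.2 hs'n))
    have hmul : s' * t' = 1 := by
      have h0 : s' * t' ∈ T0 := by
        by_contra h0
        refine hfour s' hs'T t' ht'T hs'0 ht'0 h0 ?_ ht'2
        rw [hs', show n * s * n⁻¹ * (n * s * n⁻¹) = n * (s * s) * n⁻¹ by group, hs2]; group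
      exact hTI _ h0.1 h0.2 fun v hv => mem_Cn.2 ((mem_Cn.1 (hs'n hv)).mul_left (mem_Cn.1 hv))
    have h1 : s' = t' := (eq_inv_of_mul_eq_one_left hmul).trans (inv_eq_of_mul_eq_one_right ht'2)
    simpa [hs', ht'] using h1
  -- the involutions of `T`
  have hOmega : ∀ s ∈ (T : Subgroup G), s * s = 1 → s = 1 ∨ s = t ∨ s = t' ∨ s = t * t' := by
    intro s hs hs2
    by_cases hs0 : s ∈ T0
    · exact (hinv0 s hs0 hs2).imp_right Or.inl
    have h0 : s * t' ∈ T0 := by
      by_contra h0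
      exact hfour s hs t' ht'T hs0 ht'0 h0 hs2 ht'2
    rcases hinv0 _ h0 (by rw [(hab t' ht'T s hs).mul_mul_mul_comm, hs2, ht'2, one_mul]) with h | h
    · right; right; left
      exact (eq_inv_of_mul_eq_one_left h).trans (inv_eq_of_mul_eq_one_right ht'2)
    · right; right; right
      rw [← h, mul_assoc, ht'2, mul_one]
  have hcyc : n * t' * n⁻¹ = t * t' := by
    have hT' : n * t' * n⁻¹ ∈ (T : Subgroup G) := (mem_normalizer_iff.1 hn t').1 ht'T
    rcases hOmega _ hT' (by rw [show n * t' * n⁻¹ * (n * t' * n⁻¹) = n * (t' * t') * n⁻¹ by group, ht'2]; group)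
      with h | h | h | h
    · exact absurd (conj_eq_one_iff.1 (conj_eq_one_iff.1 h)) ht1
    · exfalso
      have h2 : Commute (n ^ 2) t := by
        refine mul_inv_eq_iff_eq_mul.1 ?_
        rw [pow_two, show n * n * t * (n * n)⁻¹ = n * t' * n⁻¹ by rw [ht']; group, h]
      -- an odd power of `n` normalises like a power of a 2-element in `T`
      obtain ⟨a, b, hb', hab'⟩ := Nat.exists_eq_two_pow_mul_odd (orderOf_pos n).ne'
      have hnb : n ^ b ∈ (T : Subgroup G) := by
        refine mem_sylow_of_normalizing T ?_ (pow_mem hn b)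
        rintro ⟨_, k, rfl⟩
        refine ⟨a, Subtype.ext ?_⟩
        show ((n ^ b) ^ k) ^ (2 ^ a) = 1
        rw [← zpow_natCast, zpow_comm, zpow_natCast, ← pow_mul, mul_comm, ← hab', pow_orderOf_eq_one, one_zpow]
      exact hnt (commute_of_two hb' h2 (hab _ hnb t htT)).symm
    · exact absurd (by simpa [ht'] using h) ht't
    · exact h
  -- the exponent is two
  refine ⟨t, n, htT, ht2, hb, hn, ht't, hcyc, fun s hs => ?_⟩
  suffices h2 : ∀ s ∈ (T : Subgroup G), s * s = 1 from hOmega s hs (h2 s hs)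
  by_contra hex
  push Not at hex
  obtain ⟨s₀, hs₀, hs₀2⟩ := hex
  -- an element of maximal order
  obtain ⟨x, hx, hmax⟩ := Set.exists_max_image ((T : Subgroup G) : Set G) orderOf (Set.toFinite _) ⟨1, one_mem _⟩
  obtain ⟨e, he⟩ : ∃ e, orderOf x = 2 ^ e := by
    obtain ⟨k, hk⟩ := T.2 ⟨x, hx⟩
    obtain ⟨i, -, hi⟩ := (Nat.dvd_prime_pow Nat.prime_two).1
      (orderOf_dvd_of_pow_eq_one (congrArg Subtype.val hk : x ^ (2 ^ k) = 1))
    exact ⟨i, hi⟩
  have hexp : ∀ s ∈ (T : Subgroup G), s ^ (2 ^ e) = 1 := fun s hs => by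
    obtain ⟨k, hk⟩ := T.2 ⟨s, hs⟩
    obtain ⟨i, -, hi⟩ := (Nat.dvd_prime_pow Nat.prime_two).1
      (orderOf_dvd_of_pow_eq_one (congrArg Subtype.val hk : s ^ (2 ^ k) = 1))
    have := hmax s hs
    rw [hi, he] at this
    rw [← orderOf_dvd_iff_pow_eq_one, hi]
    exact Nat.pow_dvd_pow 2 ((Nat.pow_le_pow_iff_right (by norm_num)).1 this)
  have he2 : 2 ≤ e := by
    by_contra hlt
    have := hexp s₀ hs₀
    interval_cases e
    · exact hs₀2 (by simp at this; simp [this])
    · exact hs₀2 (by rwa [pow_one, pow_two] at this)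
  -- an involution whose conjugates by `n` are all three
  set y := n * x * n⁻¹ with hy
  have hyT : y ∈ (T : Subgroup G) := (mem_normalizer_iff.1 hn x).1 hx
  set w := x ^ (2 ^ (e - 1)) with hw
  set w' := y ^ (2 ^ (e - 1)) with hw'
  have h2e : 2 ^ (e - 1) * 2 = 2 ^ e := by rw [← pow_succ, Nat.sub_add_cancel (by omega)]
  have hw1 : w ≠ 1 := fun h => by
    have := Nat.le_of_dvd (Nat.two_pow_pos _) (orderOf_dvd_of_pow_eq_one h)
    rw [he] at this
    have := (Nat.pow_le_pow_iff_right (by norm_num : 1 < 2)).1 this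
    omega
  have hww : w * w = 1 := by rw [hw, ← pow_two, ← pow_mul, h2e, ← he, pow_orderOf_eq_one]
  have hw'e : w' = n * w * n⁻¹ := by rw [hw', hy, conj_pow]
  have hmoves : w' ≠ w := by
    rw [hw'e]
    rcases hOmega w (pow_mem hx _) hww with h | h | h | h
    · exact absurd h hw1
    · rw [h]; exact ht't
    · rw [h, hcyc]
      exact fun h' => ht1 (mul_eq_right.1 h')
    · rw [h, show n * (t * t') * n⁻¹ = (n * t * n⁻¹) * (n * t' * n⁻¹) by group, hcyc, ← ht',
        ← mul_assoc, (hab t' ht'T t htT).eq, mul_assoc, ht'2, mul_one]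
      exact fun h' => conj_eq_one_iff.not.2 ht1 (left_eq_mul.1 h')
  -- the isomorphism with `ZMod (2 ^ e) × ZMod (2 ^ e)`
  haveI : NeZero (2 ^ e) := ⟨(Nat.two_pow_pos e).ne'⟩
  have hpm : ∀ (u : G), u ∈ (T : Subgroup G) → ∀ a b : ZMod (2 ^ e), u ^ (a + b).val = u ^ a.val * u ^ b.val := by
    intro u hu a b
    rw [← pow_add]
    exact pow_eq_pow_iff_modEq.2 ((ZMod.val_add a b ▸ Nat.mod_modEq _ _ : (a + b).val ≡ a.val + b.val [MOD 2 ^ e]).of_dvd
      (orderOf_dvd_of_pow_eq_one (hexp u hu)))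
  let φ : Multiplicative (ZMod (2 ^ e) × ZMod (2 ^ e)) →* (T : Subgroup G) :=
    { toFun := fun v => ⟨x ^ (Multiplicative.toAdd v).1.val * y ^ (Multiplicative.toAdd v).2.val,
        mul_mem (pow_mem hx _) (pow_mem hyT _)⟩
      map_one' := Subtype.ext (by simp)
      map_mul' := fun u v => Subtype.ext (by
        show x ^ ((Multiplicative.toAdd u).1 + (Multiplicative.toAdd v).1).val *
            y ^ ((Multiplicative.toAdd u).2 + (Multiplicative.toAdd v).2).val = _
        rw [hpm x hx, hpm y hyT]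
        exact ((hab x hx y hyT).pow_pow _ _).mul_mul_mul_comm _ _) }
  have hφv : ∀ a b : ℕ, ((φ (Multiplicative.ofAdd (((a : ZMod (2 ^ e))), ((b : ZMod (2 ^ e))))) : G)) = x ^ a * y ^ b := by
    intro a b
    show x ^ (a : ZMod (2 ^ e)).val * y ^ (b : ZMod (2 ^ e)).val = _
    rw [ZMod.val_natCast, ZMod.val_natCast]
    congr 1
    · exact pow_eq_pow_iff_modEq.2 ((Nat.mod_modEq _ _).of_dvd (orderOf_dvd_of_pow_eq_one (hexp x hx)))
    · exact pow_eq_pow_iff_modEq.2 ((Nat.mod_modEq _ _).of_dvd (orderOf_dvd_of_pow_eq_one (hexp y hyT)))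
  have hker : ∀ a b : ℕ, x ^ a * y ^ b = 1 → 2 ^ e ∣ a ∧ 2 ^ e ∣ b := by
    intro a b hab'
    suffices key : ∀ k, k ≤ e → 2 ^ k ∣ a ∧ 2 ^ k ∣ b from key e le_rfl
    intro k
    induction k with
    | zero => simp
    | succ k ih =>
      intro hk
      obtain ⟨⟨a', rfl⟩, ⟨b', rfl⟩⟩ := ih (by omega)
      have h1 : w ^ a' * w' ^ b' = 1 := by
        have e0 := congrArg (fun v => v ^ (2 ^ (e - 1 - k))) hab'
        simp only [one_pow, ((hab x hx y hyT).pow_pow _ _).mul_pow, ← pow_mul] at e0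
        have e1 : 2 ^ k * 2 ^ (e - 1 - k) = 2 ^ (e - 1) := by rw [← pow_add]; congr 1; omega
        rw [mul_right_comm (2 ^ k) a', e1, mul_right_comm (2 ^ k) b', e1, pow_mul, pow_mul] at e0
        exact e0
      have hcases : ∀ {v : G} (j : ℕ), v * v = 1 → v ^ j = if Even j then 1 else v := fun {v} j hv => by
        rcases Nat.even_or_odd' j with ⟨i, rfl | rfl⟩
        · simp [pow_mul, pow_two, hv]
        · simp [pow_add, pow_mul, pow_two, hv]
      have hw'2 : w' * w' = 1 := by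
        rw [hw'e, show n * w * n⁻¹ * (n * w * n⁻¹) = n * (w * w) * n⁻¹ by group, hww]; group
      rw [hcases a' hww, hcases b' hw'2] at h1
      have hab2 : Even a' ∧ Even b' := by
        by_cases ha' : Even a' <;> by_cases hb'' : Even b'
        · exact ⟨ha', hb''⟩
        · rw [if_pos ha', if_neg hb'', one_mul, hw'e] at h1
          exact absurd (conj_eq_one_iff.1 h1) hw1
        · rw [if_neg ha', if_pos hb'', mul_one] at h1
          exact absurd h1 hw1
        · rw [if_neg ha', if_neg hb''] at h1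
          exact absurd ((eq_inv_of_mul_eq_one_right h1).trans (inv_eq_of_mul_eq_one_right hww)) hmoves
      rw [pow_succ]
      exact ⟨mul_dvd_mul_left _ (even_iff_two_dvd.1 hab2.1), mul_dvd_mul_left _ (even_iff_two_dvd.1 hab2.2)⟩
  have hinj : Function.Injective φ := by
    refine (injective_iff_map_eq_one φ).2 fun v hv => ?_
    obtain ⟨h1, h2⟩ := hker _ _ (congrArg Subtype.val hv)
    have hz : ∀ a : ZMod (2 ^ e), 2 ^ e ∣ a.val → a = 0 := fun a ha =>
      (ZMod.val_eq_zero a).1 (Nat.eq_zero_of_dvd_of_lt ha (ZMod.val_lt a))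
    exact Multiplicative.toAdd.injective (Prod.ext (hz _ h1) (hz _ h2))
  have hsurj : Function.Surjective φ := by
    suffices key : ∀ k, k ≤ e → ∀ s ∈ (T : Subgroup G), s ^ (2 ^ k) = 1 → ∃ a b : ℕ, s = x ^ a * y ^ b by
      rintro ⟨s, hs⟩
      obtain ⟨a, b, hab'⟩ := key e le_rfl s hs (hexp s hs)
      exact ⟨_, Subtype.ext ((hφv a b).trans hab'.symm)⟩
    intro k
    induction k with
    | zero => exact fun _ s _ hs => ⟨0, 0, by simpa using hs⟩
    | succ k ih =>
      intro hk s hs hsk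
      obtain ⟨a, b, hab'⟩ := ih (by omega) (s * s) (mul_mem hs hs) (by
        rw [← pow_two, ← pow_mul, ← pow_succ']; exact hsk)
      have h2 : 2 ∣ a ∧ 2 ∣ b := by
        have e0 : x ^ (a * 2 ^ (e - 1)) * y ^ (b * 2 ^ (e - 1)) = 1 := by
          rw [pow_mul, pow_mul, ← ((hab x hx y hyT).pow_pow _ _).mul_pow, ← hab', ← pow_two, ← pow_mul, mul_comm, h2e]
          exact hexp s hs
        obtain ⟨h1, h2⟩ := hker _ _ e0
        rw [← h2e, mul_comm (2 ^ (e - 1)) 2] at h1 h2
        exact ⟨Nat.dvd_of_mul_dvd_mul_right (Nat.two_pow_pos _) h1, Nat.dvd_of_mul_dvd_mul_right (Nat.two_pow_pos _) h2⟩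
      obtain ⟨⟨a', rfl⟩, ⟨b', rfl⟩⟩ := h2
      set r := x ^ a' * y ^ b' with hr
      have hrT : r ∈ (T : Subgroup G) := mul_mem (pow_mem hx _) (pow_mem hyT _)
      have hd : (s * r⁻¹) * (s * r⁻¹) = 1 := by
        rw [(hab r⁻¹ (inv_mem hrT) s hs).mul_mul_mul_comm, hab', hr]
        rw [← mul_inv_rev, ((hab x hx y hyT).pow_pow a' b').symm.mul_mul_mul_comm, ← pow_add, ← pow_add,
          ← two_mul, ← two_mul, mul_inv_cancel]
      -- the involutions are in the range
      have hrange : ∀ v ∈ (T : Subgroup G), v * v = 1 → ∃ p q : ℕ, v = x ^ p * y ^ q := by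
        intro v hv hvv
        have h4 : v = 1 ∨ v = w ∨ v = w' ∨ v = w * w' := by
          have hw'2 : w' * w' = 1 := by
            rw [hw'e, show n * w * n⁻¹ * (n * w * n⁻¹) = n * (w * w) * n⁻¹ by group, hww]; group
          have hw'1 : w' ≠ 1 := fun h => hw1 (conj_eq_one_iff.1 (hw'e ▸ h))
          have hwp : w * w' * (w * w') = 1 := by
            rw [(hab w' (pow_mem hyT _) w (pow_mem hx _)).mul_mul_mul_comm, hww, hw'2, one_mul]
          have hwp1 : w * w' ≠ 1 := fun h =>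
            hmoves ((eq_inv_of_mul_eq_one_right h).trans (inv_eq_of_mul_eq_one_right hww))
          have hwp2 : w * w' ≠ w := fun h => hw'1 (mul_eq_left.1 h)
          have hwp3 : w * w' ≠ w' := fun h => hw1 (mul_eq_right.1 h)
          rcases hOmega w (pow_mem hx _) hww with a1 | a1 | a1 | a1 <;>
          rcases hOmega w' (pow_mem hyT _) hw'2 with b1 | b1 | b1 | b1 <;>
          rcases hOmega (w * w') (mul_mem (pow_mem hx _) (pow_mem hyT _)) hwp with c1 | c1 | c1 | c1 <;>
            first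
            | exact absurd a1 hw1
            | exact absurd b1 hw'1
            | exact absurd c1 hwp1
            | exact absurd (b1.trans a1.symm) hmoves
            | exact absurd (c1.trans a1.symm) hwp2
            | exact absurd (c1.trans b1.symm) hwp3
            | (rcases hOmega v hv hvv with d1 | d1 | d1 | d1 <;>
                first
                | exact Or.inl d1
                | exact Or.inr (Or.inl (d1.trans a1.symm))
                | exact Or.inr (Or.inr (Or.inl (d1.trans b1.symm)))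
                | exact Or.inr (Or.inr (Or.inr (d1.trans c1.symm))))
        rcases h4 with h | h | h | h
        · exact ⟨0, 0, by simp [h]⟩
        · exact ⟨2 ^ (e - 1), 0, by simp [h, hw]⟩
        · exact ⟨0, 2 ^ (e - 1), by simp [h, hw']⟩
        · exact ⟨2 ^ (e - 1), 2 ^ (e - 1), by simp [h, hw, hw']⟩
      obtain ⟨p, q, hpq⟩ := hrange _ (mul_mem hs (inv_mem hrT)) hd
      refine ⟨p + a', q + b', ?_⟩
      rw [pow_add, pow_add, ((hab y hyT x hx).pow_pow q a').symm.mul_mul_mul_comm, ← hr, ← hpq, inv_mul_cancel_right]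
  set π := QuotientGroup.mk' (center G)
  set Tq : Sylow 2 (G ⧸ center G) := T.mapSurjective (QuotientGroup.mk'_surjective _)
  have hTqc : (Tq : Subgroup (G ⧸ center G)) = (T : Subgroup G).map π := Sylow.coe_mapSurjective _ _
  let ψ : (T : Subgroup G) ≃* ((T : Subgroup G).map π) := MulEquiv.ofBijective (π.subgroupMap (T : Subgroup G))
    ⟨(injective_iff_map_eq_one _).2 fun v hv => by
      have hc : (v : G) ∈ center G := (QuotientGroup.eq_one_iff _).1 (congrArg Subtype.val hv)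
      refine Subtype.ext ?_
      by_contra h1
      obtain ⟨k, hk⟩ := T.2 v
      obtain ⟨i, -, hi⟩ := (Nat.dvd_prime_pow Nat.prime_two).1
        (orderOf_dvd_of_pow_eq_one (congrArg Subtype.val hk : (v : G) ^ (2 ^ k) = 1))
      refine hodd (Dvd.dvd.trans ?_ (orderOf_dvd_natCard (⟨v, hc⟩ : center G)))
      rw [Subgroup.orderOf_mk, hi]
      exact dvd_pow_self 2 fun e => h1 (orderOf_eq_one_iff.1 (by rw [hi, e, pow_zero])),
     π.subgroupMap_surjective _⟩
  haveI := m.isSimple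
  have h949 := S0949.result Tq e he2 ((MulEquiv.subgroupCongr hTqc).trans
    (ψ.symm.trans (MulEquiv.ofBijective φ ⟨hinj, hsurj⟩).symm)) fun N hN hNo => by
      rcases hN.eq_bot_or_eq_top with h | h
      · exact h
      · exact absurd (S0205.result (by rwa [h, card_top] at hNo)) m.not_isSolvable_quotient
  rcases h949.1.eq_bot_or_eq_top with h | h
  · refine m.not_isCyclic_sylow Tq ?_
    rw [h]; infer_instance
  · refine m.not_isSolvable_quotient ?_
    haveI := Tq.2.isNilpotent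
    exact Group.isSolvable_of_surjective
      (f := ((MulEquiv.subgroupCongr h).trans Subgroup.topEquiv).toMonoidHom)
      ((MulEquiv.subgroupCongr h).trans Subgroup.topEquiv).surjective

end MNC

end Cfsg.Agent.MinNonCA
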