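import Cfsg.Agent.Lib.MinNonCA.Even
import Cfsg.Agent.Lib.MinNonCA.Converse
import Cfsg.Agent.Lib.PSL2.Subfield
import Cfsg.Agent.Lib.Field.QuadraticExt
import Mathlib.Algebra.Polynomial.Roots
import Mathlib.FieldTheory.Finite.GaloisField

/-!
# Minimal non-CA groups: the field and the trivial centre

With abelian Sylow 2-subgroups `G / Z ≅ PSL(2, q)`.  A proper subfield of order at least seven gives a proper
non-CA subgroup, `q ≠ 3, 5` as some involution has nonabelian centraliser, and all Sylow subgroups of `G`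
are abelian, so the centre is trivial.
-/

set_option autoImplicit false
set_option linter.unusedSectionVars false
set_option linter.style.haveILetI false

namespace Cfsg.Agent.MinNonCA

open Subgroup
open scoped commutatorElement MatrixGroups

theorem sq_of_orders {H : Type*} [Group H] (h : ∀ w : H, w ^ 2 = 1 ∨ w ^ 3 = 1 ∨ w ^ 5 = 1)
    {x c : H} (hx : x ^ 2 = 1) (hx1 : x ≠ 1) (hc : Commute x c) : c * c = 1 := by
  rw [← pow_two]
  have hx3 : x ^ 3 = x := by rw [pow_succ, hx, one_mul]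
  have hx5 : x ^ 5 = x := by rw [show 5 = 2 * 2 + 1 from rfl, pow_succ, pow_mul, hx, one_pow, one_mul]
  rcases h (x * c) with e | e | e <;> rw [hc.mul_pow] at e
  · rwa [hx, one_mul] at e
  all_goals
    rcases h c with e' | e' | e'
  · exact e'
  · rw [hx3, e', mul_one] at e; exact absurd e hx1
  · rw [hx3] at e
    have h6 : c ^ 6 = 1 := by
      rw [show 6 = 3 * 2 from rfl, pow_mul, eq_inv_of_mul_eq_one_right e, inv_pow, hx, inv_one]
    rw [pow_succ, e', one_mul] at h6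
    rw [h6, one_pow]
  · exact e'
  · rw [hx5, show 5 = 3 + 2 from rfl, pow_add, e', one_mul] at e
    have h4 : c ^ 4 = 1 := by
      rw [show 4 = 2 * 2 from rfl, pow_mul, eq_inv_of_mul_eq_one_right e, inv_pow, hx, inv_one]
    rw [pow_succ, e', one_mul] at h4
    rw [h4, one_pow]
  · rw [hx5, e', mul_one] at e; exact absurd e hx1

theorem exists_good_point {F : Type*} [Field F] [Fintype F] (h : 14 ≤ Fintype.card F) :
    ∃ x : F, x * (x ^ 4 - 1) *
      (((2 * x) ^ 2) ^ 2 + (2 * x) ^ 2 * (x ^ 2 - 1) ^ 2 + ((x ^ 2 - 1) ^ 2) ^ 2) ≠ 0 := by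
  classical
  open Polynomial in
  let P : F[X] := X * (X ^ 4 - 1) * (((2 * X) ^ 2) ^ 2 + (2 * X) ^ 2 * (X ^ 2 - 1) ^ 2 + ((X ^ 2 - 1) ^ 2) ^ 2)
  have hdeg : P.natDegree ≤ 13 := by simp only [P]; compute_degree
  have hP : P ≠ 0 := fun e => by
    have h1 := congrArg (fun p => Polynomial.coeff p 1) e
    simp only [P, mul_assoc (Polynomial.X : Polynomial F), Polynomial.coeff_X_mul, Polynomial.coeff_zero, Polynomial.coeff_zero_eq_eval_zero] at h1
    simp at h1
  by_contra hcon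
  push Not at hcon
  refine hP (Polynomial.eq_zero_of_natDegree_lt_card_of_eval_eq_zero' P Finset.univ (fun x _ => ?_)
    (by rw [Finset.card_univ]; omega))
  simpa [P] using hcon x

namespace MNC

variable {G : Type*} [Group G] [Finite G] (m : MNC G)

include m

theorem odd_of_mem_center {z : G} (hz : z ∈ center G) : Odd (orderOf z) := by
  haveI : Fact (Nat.Prime 2) := ⟨Nat.prime_two⟩
  obtain ⟨T⟩ : Nonempty (Sylow 2 G) := inferInstance
  refine odd_of_dvd ?_ ((Subgroup.orderOf_mk z hz).symm ▸ orderOf_dvd_natCard (⟨z, hz⟩ : center G))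
  rw [← Nat.not_even_iff_odd, even_iff_two_dvd]
  exact m.not_dvd_card_center T (m.sylow_comm T)

theorem commute_lift {a t : G} (h : ⁅a, t⁆ ∈ center G) (ht : t * t ∈ center G) : Commute a t :=
  commutatorElement_eq_one_iff_mul_comm.1 (eq_one_of_sq_odd (comm_sq h ht) (m.odd_of_mem_center h))

variable {F : Type} [Field F] [Fintype F] (e : G ⧸ center G ≃* Matrix.ProjectiveSpecialLinearGroup (Fin 2) F)

include e

theorem card_ne_three_five : Fintype.card F ≠ 3 ∧ Fintype.card F ≠ 5 := by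
  haveI : Fact (Nat.Prime 2) := ⟨Nat.prime_two⟩
  suffices h : (∀ w : G ⧸ center G, w ^ 2 = 1 ∨ w ^ 3 = 1 ∨ w ^ 5 = 1) → False by
    refine ⟨fun hq => ?_, fun hq => ?_⟩
    · obtain ⟨e'⟩ := PSL2.psl_three_iso hq
      exact h (orders_of_equiv (e.trans e') orders_alt_four)
    · obtain ⟨e'⟩ := PSL2.psl_four_five_iso (Or.inr hq)
      exact h (orders_of_equiv (e.trans e') orders_alt_five)
  intro h
  obtain ⟨T⟩ : Nonempty (Sylow 2 G) := inferInstance
  obtain ⟨t, ht, hb⟩ := m.exists_bad_involution T (m.sylow_comm T)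
  obtain ⟨a, b, ha, hb', hab⟩ := hb.2
  have ht1 : (t : G ⧸ center G) ≠ 1 := fun e => hb.1 ((QuotientGroup.eq_one_iff t).1 e)
  have ht2 : (t : G ⧸ center G) ^ 2 = 1 := by
    rw [← QuotientGroup.mk_pow, ← ht, pow_orderOf_eq_one, QuotientGroup.mk_one]
  refine hab (m.commute_lift (commutator_mem_of_mk_commute
    (comm_of_orders h ht2 ht1 (mk_commute_of ha) (mk_commute_of hb'))) ?_)
  exact (QuotientGroup.eq_one_iff _).1 (sq_of_orders h ht2 ht1 (mk_commute_of hb'))

/-- No subfield of order at least seven. -/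
theorem no_subfield (hodd : Odd (Fintype.card F)) {K : Type} [Field K] [Fintype K] (φ : K →+* F)
    (hKodd : Odd (Fintype.card K)) (h7 : 7 ≤ Fintype.card K) (hlt : Fintype.card K < Fintype.card F) : False := by
  obtain ⟨x, a, b, hx2, ⟨y, hxy⟩, hxa, hxb, hab⟩ := psl_exists_nonCA (F := K) hKodd h7
  set ψ := e.symm.toMonoidHom.comp (PSL2.pslMap φ) with hψ
  have hinj : Function.Injective ψ := e.symm.injective.comp (PSL2.pslMap_injective φ)
  set π := QuotientGroup.mk' (center G)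
  have hH : ψ.range.comap π ≠ ⊤ := fun htop => by
    have h1 : ψ.range = ⊤ := by
      rw [← map_comap_eq_self_of_surjective (QuotientGroup.mk'_surjective (center G)) ψ.range, htop,
        map_top_of_surjective _ (QuotientGroup.mk'_surjective _)]
    have h2 : Nat.card (Matrix.ProjectiveSpecialLinearGroup (Fin 2) K) =
        Nat.card (Matrix.ProjectiveSpecialLinearGroup (Fin 2) F) := by
      rw [Nat.card_congr (MonoidHom.ofInjective hinj).toEquiv, h1, card_top, Nat.card_congr e.toEquiv]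
    have h3 := PSL2.two_mul_card_PSL (F := K) (PSL2.odd_card_iff.1 hKodd)
    rw [h2, PSL2.two_mul_card_PSL (PSL2.odd_card_iff.1 hodd)] at h3
    have h4 : Fintype.card K * (Fintype.card K ^ 2 - 1) ≤ Fintype.card K * (Fintype.card F ^ 2 - 1) :=
      Nat.mul_le_mul_left _ (Nat.sub_le_sub_right (Nat.pow_le_pow_left hlt.le 2) 1)
    have h5 : Fintype.card K * (Fintype.card F ^ 2 - 1) < Fintype.card F * (Fintype.card F ^ 2 - 1) := by
      refine Nat.mul_lt_mul_of_pos_right hlt ?_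
      have : 1 < Fintype.card F ^ 2 := Nat.one_lt_pow two_ne_zero (by omega)
      omega
    omega
  choose lift hlift using fun k => QuotientGroup.mk'_surjective (center G) (ψ k)
  have hmem : ∀ k, lift k ∈ ψ.range.comap π := fun k => mem_comap.2 ⟨k, (hlift k).symm⟩
  have ht2 : lift x * lift x ∈ center G := (QuotientGroup.eq_one_iff _).1 (by
    show π (lift x * lift x) = 1
    rw [map_mul, hlift, ← map_mul, hx2, map_one])
  have hc : ∀ {k}, Commute x k → Commute (lift x) (lift k) := fun {k} hk =>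
    (m.commute_lift (commutator_mem_of_mk_commute (by
      show Commute (π (lift k)) (π (lift x))
      rw [hlift, hlift]
      exact (hk.map ψ).symm)) ht2).symm
  have hle := m.toHyp.le_Cn hH (hmem x) (hmem a) (hmem b) (hc hxa) (hc hxb) fun hcom => hab (hinj (by
    rw [map_mul, map_mul, ← hlift a, ← hlift b]
    exact (hcom.map π).eq))
  refine hxy (hinj ?_)
  rw [map_mul, map_mul, ← hlift x, ← hlift y]
  exact ((mem_Cn.1 (hle (hmem y))).map π).eq

theorem shape (hodd : Odd (Fintype.card F)) (h16 : ¬ 16 ∣ Fintype.card F ^ 2 - 1) :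
    ((Fintype.card F).Prime ∧ 5 < Fintype.card F) ∨
      ∃ r : ℕ, r.Prime ∧ r ≠ 2 ∧ (Fintype.card F = 3 ^ r ∨ Fintype.card F = 5 ^ r) := by
  obtain ⟨p, hp⟩ := CharP.exists F
  obtain ⟨n, hpp, hq⟩ := FiniteField.card F p
  haveI : Fact p.Prime := ⟨hpp⟩
  obtain ⟨n, hn⟩ := n
  simp only [PNat.mk_coe] at hq
  have hpodd : Odd p := by
    rw [hq, Nat.odd_pow_iff (by omega)] at hodd
    exact hodd
  have hp3 : 3 ≤ p := by have := hpp.two_le; rcases hpodd with ⟨i, rfl⟩; omega
  have hsub : ∀ d : ℕ, d ∣ n → d < n → p ^ d < 7 := by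
    intro d hdn hlt
    by_contra h7
    push Not at h7
    obtain ⟨b, rfl⟩ := hdn
    have hd : d ≠ 0 := fun e => by simp [e] at hn
    have hb : b ≠ 0 := fun e => by simp [e] at hn
    haveI : Fintype (GaloisField p d) := Fintype.ofFinite _
    have hK : Fintype.card (GaloisField p d) = p ^ d := by
      rw [← Nat.card_eq_fintype_card]; exact GaloisField.card p d hd
    obtain ⟨φ⟩ := FieldExt.exists_ringHom_of_card_pow (F := GaloisField p d) (K := F) hb
      (by rw [hK, hq, pow_mul])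
    refine m.no_subfield e hodd φ (hK ▸ hpodd.pow) (hK ▸ h7) ?_
    rw [hK, hq]
    exact Nat.pow_lt_pow_right hpp.one_lt hlt
  obtain ⟨h3, h5⟩ := m.card_ne_three_five e
  by_cases hn1 : n = 1
  · subst hn1
    rw [pow_one] at hq
    refine Or.inl ⟨hq ▸ hpp, ?_⟩
    rw [hq] at h3 h5 ⊢
    rcases hpodd with ⟨i, rfl⟩
    omega
  right
  have hnp : n.Prime := Nat.prime_def.2 ⟨by omega, fun d hd => by
    by_contra hne
    push Not at hne
    have hdn : d < n := lt_of_le_of_ne (Nat.le_of_dvd hn hd) hne.2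
    have hd0 : d ≠ 0 := fun e => by subst e; simp at hd; omega
    have := hsub d hd hdn
    have h9 : 3 ^ 2 ≤ p ^ d := (Nat.pow_le_pow_left hp3 2).trans (Nat.pow_le_pow_right (by omega) (by omega))
    omega⟩
  have hp7 := hsub 1 (one_dvd n) (by have := hnp.two_le; omega)
  rw [pow_one] at hp7
  refine ⟨n, hnp, fun h2 => h16 ?_, ?_⟩
  · subst h2
    rw [hq]
    obtain ⟨i, rfl⟩ := hpodd
    obtain ⟨c, hc⟩ := Nat.even_mul_succ_self i
    refine ⟨c * (2 * i * i + 2 * i + 1), ?_⟩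
    have : ((2 * i + 1) ^ 2) ^ 2 = 16 * (c * (2 * i * i + 2 * i + 1)) + 1 := by
      have e : i * i + i = c + c := by rw [← hc]; ring
      nlinarith [e]
    omega
  · rcases hpodd with ⟨i, rfl⟩
    rcases (show i = 1 ∨ i = 2 by omega) with rfl | rfl
    · exact Or.inl hq
    · exact Or.inr hq

/-- The centre is trivial. -/
theorem center_eq_bot (hodd : Odd (Fintype.card F))
    (hshape : (Fintype.card F).Prime ∨ 14 ≤ Fintype.card F) : center G = ⊥ := by
  refine eq_bot_of_card_eq _ (Nat.eq_one_iff_not_exists_prime_dvd.2 fun ℓ hℓ hd => ?_)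
  haveI := Fact.mk hℓ
  haveI : Fact (Nat.Prime 2) := ⟨Nat.prime_two⟩
  have h2F : (2 : F) ≠ 0 := PSL2.odd_card_iff.1 hodd
  have hℓ2 : ℓ ≠ 2 := fun e2 => by
    subst e2
    obtain ⟨T⟩ : Nonempty (Sylow 2 G) := inferInstance
    exact m.not_dvd_card_center T (m.sylow_comm T) hd
  obtain ⟨p, hp⟩ := CharP.exists F
  haveI : Fact p.Prime := ⟨CharP.char_is_prime F p⟩
  set f : G →* Matrix.ProjectiveSpecialLinearGroup (Fin 2) F := e.toMonoidHom.comp (QuotientGroup.mk' (center G))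
  have hf : Function.Surjective f := e.surjective.comp (QuotientGroup.mk'_surjective _)
  have hker : f.ker ≤ center G := fun g hg =>
    (QuotientGroup.eq_one_iff g).1 (e.injective (by rw [map_one]; exact hg))
  obtain ⟨P⟩ : Nonempty (Sylow ℓ G) := inferInstance
  have hcyc : IsCyclic (P.mapSurjective hf : Subgroup (Matrix.ProjectiveSpecialLinearGroup (Fin 2) F)) →
      ∀ a ∈ (P : Subgroup G), ∀ b ∈ (P : Subgroup G), Commute a b := by
    intro hc a ha b hb
    obtain ⟨⟨g, hg⟩, hgen⟩ := hc.exists_generator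
    rw [Sylow.coe_mapSurjective] at hg
    obtain ⟨g₀, -, rfl⟩ := hg
    have hdec : ∀ a ∈ (P : Subgroup G), ∃ (i : ℤ) (z : G), z ∈ center G ∧ a = g₀ ^ i * z := fun a ha => by
      obtain ⟨i, hi⟩ := mem_zpowers_iff.1 (hgen ⟨f a, by rw [Sylow.coe_mapSurjective]; exact mem_map_of_mem f ha⟩)
      have hi' : f g₀ ^ i = f a := congrArg Subtype.val hi
      exact ⟨i, (g₀ ^ i)⁻¹ * a, hker (by rw [MonoidHom.mem_ker, map_mul, map_inv, map_zpow, hi', inv_mul_cancel]),
        by group⟩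
    obtain ⟨i, z, hz, rfl⟩ := hdec a ha
    obtain ⟨j, w, hw, rfl⟩ := hdec b hb
    exact ((((Commute.refl g₀).zpow_zpow i j).mul_right (commute_center hw _))).mul_left (center_commute hz _)
  refine m.not_dvd_card_center P ?_ hd
  by_cases hℓp : ℓ = p
  swap
  · exact hcyc (PSL2.isCyclic_sylow_odd_psl p ℓ hℓ2 hℓp _)
  subst hℓp
  rcases hshape with hq | hq
  · refine hcyc (isCyclic_of_prime_card (p := Fintype.card F) (hp := ⟨hq⟩) ?_)
    rw [Sylow.card_eq_multiplicity, ← (PSL2.unipSylowPSL F ℓ).card_eq_multiplicity, PSL2.coe_unipSylowPSL,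
      PSL2.card_map_unip]
  obtain ⟨c, hc⟩ := MulAction.exists_smul_eq (Matrix.ProjectiveSpecialLinearGroup (Fin 2) F)
    (P.mapSurjective hf) (PSL2.unipSylowPSL F ℓ)
  obtain ⟨c, rfl⟩ := hf c
  obtain ⟨x, hx⟩ := exists_good_point (F := F) hq
  have hx0 : x ≠ 0 := fun e => hx (by simp [e])
  have hx4 : x ^ 4 - 1 ≠ 0 := fun e => hx (by rw [e]; simp)
  have hm1 : x ^ 2 - 1 ≠ 0 := fun e => hx4 (by linear_combination (x ^ 2 + 1) * e)
  have hp1 : x ^ 2 + 1 ≠ 0 := fun e => hx4 (by linear_combination (x ^ 2 - 1) * e)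
  intro a ha b hb
  have hmem : ∀ a ∈ (P : Subgroup G), ∃ t : F, f (c * a * c⁻¹) = PSL2.mk (PSL2.uu t) := fun a ha => by
    have h1 : f c * f a * (f c)⁻¹ ∈ (PSL2.unip F).map PSL2.mk := by
      rw [← PSL2.coe_unipSylowPSL ℓ, ← hc, Sylow.coe_subgroup_smul, Sylow.coe_mapSurjective, ← MulAut.conj_apply]
      exact smul_mem_pointwise_smul _ _ _ (mem_map_of_mem f ha)
    obtain ⟨u, hu, hu'⟩ := h1
    obtain ⟨t, rfl⟩ := PSL2.mem_unip.1 hu
    exact ⟨t, by rw [map_mul, map_mul, map_inv, hu']⟩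
  obtain ⟨s, hs⟩ := hmem a ha
  obtain ⟨s', hs'⟩ := hmem b hb
  refine commute_conj_iff.1 (comm_of_torus (F := F) (PSL2.mk.comp PSL2.uuHom) f hf hker
    {c | ∃ w, w ≠ 0 ∧ c = w ^ 2} ?_ ?_ ?_ (a := (2 * x) ^ 2) (b := (x ^ 2 - 1) ^ 2)
    ⟨_, mul_ne_zero h2F hx0, rfl⟩ ⟨_, hm1, rfl⟩ ⟨x ^ 2 + 1, hp1, by ring⟩
    (fun h => hx (by rw [h]; simp)) (g := c * a * c⁻¹) (g' := c * b * c⁻¹) (x := s) (y := s') hs hs')
  · rintro _ ⟨w, hw, rfl⟩
    exact pow_ne_zero 2 hw
  · refine eq_top_iff.2 fun y _ => ?_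
    have hz : ∀ w : F, w ^ 2 ∈ AddSubgroup.closure {c : F | ∃ w, w ≠ 0 ∧ c = w ^ 2} := fun w => by
      by_cases hw : w = 0
      · rw [hw, zero_pow two_ne_zero]; exact zero_mem _
      · exact AddSubgroup.subset_closure ⟨w, hw, rfl⟩
    have h := AddSubgroup.sub_mem _ (hz ((y + 1) / 2)) (hz ((y - 1) / 2))
    rwa [show ((y + 1) / 2) ^ 2 - ((y - 1) / 2) ^ 2 = y by field_simp; ring] at h
  · rintro _ ⟨w, hw, rfl⟩
    refine ⟨PSL2.mk (PSL2.dd (Units.mk0 w hw)), fun y => ?_⟩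
    show PSL2.mk _ * PSL2.mk (PSL2.uu y) * (PSL2.mk _)⁻¹ = PSL2.mk (PSL2.uu (w ^ 2 * y))
    rw [← map_inv, ← map_mul, ← map_mul, PSL2.dd_conj_uu]
    rfl

omit e in
/-- The classification of minimal non-CA groups. -/
theorem classify : ∃ (F : Type) (_ : Field F) (_ : Fintype F),
    Nonempty (G ≃* Matrix.ProjectiveSpecialLinearGroup (Fin 2) F) ∧
      (((Fintype.card F).Prime ∧ 5 < Fintype.card F ∧ ¬ 16 ∣ Fintype.card F ^ 2 - 1) ∨
        ∃ p : ℕ, p.Prime ∧ p ≠ 2 ∧ (Fintype.card F = 3 ^ p ∨ Fintype.card F = 5 ^ p)) := by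
  haveI : Fact (Nat.Prime 2) := ⟨Nat.prime_two⟩
  obtain ⟨T⟩ : Nonempty (Sylow 2 G) := inferInstance
  obtain ⟨F, iF, iF', hodd, h4, ⟨e⟩⟩ := m.psl_of_abelian T (m.sylow_comm T)
  have h16 : ¬ 16 ∣ Fintype.card F ^ 2 - 1 := fun h16 => by
    have h8 : 8 ∣ Nat.card (G ⧸ center G) := by
      rw [Nat.card_congr e.toEquiv]
      have h := PSL2.two_mul_card_PSL (PSL2.odd_card_iff.1 hodd)
      obtain ⟨c, hc⟩ := h16
      exact ⟨Fintype.card F * c, by rw [hc] at h; linarith⟩
    obtain ⟨S⟩ : Nonempty (Sylow 2 (G ⧸ center G)) := inferInstance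
    have h := S.pow_dvd_card_of_pow_dvd_card (n := 3) h8
    rw [h4 S] at h
    norm_num at h
  have hshape := m.shape e hodd h16
  have hZ : center G = ⊥ := m.center_eq_bot e hodd (by
    rcases hshape with ⟨hq, -⟩ | ⟨r, hr, hr2, hq | hq⟩
    · exact Or.inl hq
    · right
      rw [hq]
      exact le_trans (by norm_num) (Nat.pow_le_pow_right (by norm_num)
        (show 3 ≤ r by have := hr.two_le; omega))
    · right
      rw [hq]
      exact le_trans (by norm_num) (Nat.pow_le_pow_right (by norm_num)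
        (show 3 ≤ r by have := hr.two_le; omega)))
  exact ⟨F, iF, iF', ⟨((QuotientGroup.quotientMulEquivOfEq hZ).trans QuotientGroup.quotientBot).symm.trans e⟩,
    hshape.imp (fun ⟨h1, h2⟩ => ⟨h1, h2, h16⟩) id⟩

end MNC

end Cfsg.Agent.MinNonCA
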