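import Cfsg.Agent.Lib.MinNonCA.Basic
import Cfsg.Agent.S0040
import Cfsg.Agent.S0588

/-!
# Minimal non-CA groups: no bad element outside a normal subgroup of prime index

`M` is normal of prime index `r`.  For a bad `x` (so `x ∉ M`) with `x ^ r` central the centraliser `A` of `x`
in `M` is not TI modulo the centre; this gives `l ∈ A` of order `r` with `Cn l` self-normalising in `A`
(`SN`), every such `l` is conjugate into one of them, and some `n ∈ M \ A` normalises `Cn l`.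
-/

set_option autoImplicit false
set_option linter.unusedSectionVars false
set_option linter.style.haveILetI false

namespace Cfsg.Agent.MinNonCA

open Subgroup
open scoped commutatorElement

variable {G : Type*} [Group G]

/-- `Cn l` is its own normaliser in the centraliser of `x` in `M`. -/
def SN (M : Subgroup G) (x l : G) : Prop :=
  ∀ n ∈ M, Commute x n → Commute l (n * l * n⁻¹) → Commute n l

/-- A bad element whose `r`-th power is central. -/
def Good (r : ℕ) (x : G) : Prop := Bad x ∧ x ^ r ∈ center G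

theorem center_commute {z : G} (hz : z ∈ center G) (y : G) : Commute z y :=
  (mem_center_iff.1 hz y).symm

theorem commute_center {z : G} (hz : z ∈ center G) (y : G) : Commute y z :=
  mem_center_iff.1 hz y

namespace Hyp

variable [Finite G] (h : Hyp G) {M : Subgroup G} [hMn : M.Normal] {r : ℕ} [hr : Fact r.Prime]
  (hMr : M.index = r)

include h hMr

theorem M_ne_top : M ≠ ⊤ := fun e => hr.out.one_lt.ne (by rw [← hMr, e, index_top])

theorem pow_mem_M (g : G) : g ^ r ∈ M := hMr ▸ M.pow_index_mem g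

theorem bad_not_mem {x : G} (hb : Bad x) : x ∉ M := fun hx => M_ne_top h hMr (h.eq_top_of_mem hb hx)

/-- Powers of an element outside `M` reach every coset. -/
theorem exists_pow_mul {x : G} (hx : x ∉ M) (g : G) : ∃ m ∈ M, ∃ i : ℕ, g = m * x ^ i := by
  have hcard : Nat.card (G ⧸ M) = r := by rw [← index_eq_card, hMr]
  have hne : (x : G ⧸ M) ≠ 1 := fun e => hx ((QuotientGroup.eq_one_iff x).1 e)
  obtain ⟨i, hi⟩ := mem_powers_iff_mem_zpowers.2
    (mem_zpowers_of_prime_card hcard hne (g' := (g : G ⧸ M)))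
  refine ⟨g * (x ^ i)⁻¹, ?_, i, by simp⟩
  rw [← QuotientGroup.eq_one_iff, QuotientGroup.mk_mul, QuotientGroup.mk_inv, QuotientGroup.mk_pow]
  simp only at hi
  rw [hi, mul_inv_cancel]

theorem center_le {x : G} (hb : Bad x) : center G ≤ M := by
  intro z hz
  by_contra hzM
  obtain ⟨m, hm, i, hxm⟩ := exists_pow_mul h hMr hzM x
  refine bad_not_mem h hMr ⟨fun hc => hb.1 (hxm ▸ mul_mem hc (pow_mem hz i)), ?_⟩ hm
  obtain ⟨-, a, b, ha, hb', hab⟩ := hb
  exact ⟨a, b, by
    simpa [hxm] using ha.mul_left ((center_commute (inv_mem (pow_mem hz i)) a)),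
    by simpa [hxm] using hb'.mul_left ((center_commute (inv_mem (pow_mem hz i)) b)), hab⟩

theorem exists_good {x : G} (hb : Bad x) : ∃ y : G, Good r y := by
  obtain ⟨q, y, hq, hy, -, -, hyq⟩ := h.exists_prime_pow_mem hb
  obtain rfl | hne := eq_or_ne q r
  · exact ⟨y, hy, hyq⟩
  refine absurd ?_ (bad_not_mem h hMr hy)
  have h1 := center_le h hMr hb hyq
  have h2 := pow_mem_M h hMr y
  obtain ⟨u, v, huv⟩ : IsCoprime (q : ℤ) (r : ℤ) :=
    Nat.isCoprime_iff_coprime.2 ((Nat.coprime_primes hq hr.out).2 hne)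
  have : y = (y ^ q) ^ u * (y ^ r) ^ v := by
    rw [← zpow_natCast y q, ← zpow_natCast y r, ← zpow_mul, ← zpow_mul, ← zpow_add, mul_comm (q : ℤ),
      mul_comm (r : ℤ), huv, zpow_one]
  rw [this]
  exact mul_mem (zpow_mem h1 u) (zpow_mem h2 v)

/-- A noncentral element of `M` has abelian centraliser. -/
theorem ab {a u v : G} (ha : a ∈ M) (hac : a ∉ center G) (hu : Commute a u) (hv : Commute a v) :
    Commute u v := by_contra fun huv => bad_not_mem h hMr ⟨hac, u, v, hu, hv, huv⟩ ha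

theorem trans {a b v : G} (ha : a ∈ M) (hac : a ∉ center G) (hab : Commute a b) (hv : Commute a v) :
    Commute b v := ab h hMr ha hac hab hv

variable {x : G} (hx : Good r x)

include hx

theorem zle : center G ≤ M := center_le h hMr hx.1

theorem x_not_mem : x ∉ M := bad_not_mem h hMr hx.1

theorem exists_noncomm :
    ∃ a b, a ∈ M ∧ b ∈ M ∧ Commute x a ∧ Commute x b ∧ ¬ Commute a b := by
  obtain ⟨u, hu, v, hv, huv⟩ := hx.1.exists_mem
  obtain ⟨a, ha, i, rfl⟩ := exists_pow_mul h hMr (x_not_mem h hMr hx) u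
  obtain ⟨b, hb, j, rfl⟩ := exists_pow_mul h hMr (x_not_mem h hMr hx) v
  have key : ∀ {m : G} {k : ℕ}, m * x ^ k ∈ Cn x → Commute x m := fun {m k} hm => by
    have := (mem_Cn.1 hm).mul_right ((Commute.refl x).pow_right k).inv_right
    rwa [mul_inv_cancel_right] at this
  refine ⟨a, b, ha, hb, key hu, key hv, fun hab => huv ?_⟩
  exact ((hab.mul_right ((key hu).symm.pow_right j)).mul_left
    (((key hv).pow_left i).mul_right ((Commute.refl x).pow_pow i j)))

/-- The centraliser of `x` in `M` is not TI modulo the centre. -/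
theorem exists_not_TI :
    ∃ a g, a ∈ M ∧ g ∈ M ∧ a ∉ center G ∧ Commute x a ∧ ¬ Commute x g ∧ Commute x (g * a * g⁻¹) := by
  by_contra hcon
  push Not at hcon
  set A := (Cn x).subgroupOf M
  set Zm := (center G).subgroupOf M
  have hZsol : Group.IsSolvable Zm := Group.isSolvable_of_comm fun a b =>
    Subtype.ext (Subtype.ext (mem_center_iff.1 b.2 a.1.1))
  have hZA : Zm ≤ A := fun z hz => mem_Cn.2 (commute_center hz x)
  obtain ⟨a, b, ha, hb, hxa, hxb, hab⟩ := exists_noncomm h hMr hx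
  have hne : ¬ A ≤ Zm := fun hle =>
    hab (center_commute (hle (mem_Cn.2 hxa : (⟨a, ha⟩ : M) ∈ A)) b)
  have hAtop : A ≠ ⊤ := fun e => by
    have hMC : M ≤ Cn x := fun m hm => (e ▸ mem_top (⟨m, hm⟩ : M) : (⟨m, hm⟩ : M) ∈ A)
    refine hx.1.ne_top (eq_top_iff.2 fun g _ => ?_)
    obtain ⟨m, hm, i, rfl⟩ := exists_pow_mul h hMr (x_not_mem h hMr hx) g
    exact mul_mem (hMC hm) (pow_mem (mem_Cn.2 (Commute.refl x)) i)
  obtain ⟨K, hK, hKsol, -, hsup, -, hmem⟩ := exists_kernel_mod hZsol hZA hne hAtop fun g hg c hc hgc => by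
    by_contra hcz
    exact hcon c g c.2 g.2 hcz (mem_Cn.1 hc) (fun e => hg (mem_Cn.2 e)) (mem_Cn.1 hgc)
  set K₁ := K.map M.subtype
  haveI hK₁ : K₁.Normal := ⟨fun k hk g => by
    obtain ⟨k, hk, rfl⟩ := hk
    obtain ⟨m, hm, i, rfl⟩ := exists_pow_mul h hMr (x_not_mem h hMr hx) g
    have hxi : x ^ i * (k : G) * (x ^ i)⁻¹ ∈ M := hMn.conj_mem _ k.2 _
    have hk' : (⟨_, hxi⟩ : M) ∈ K := by
      rw [hmem]
      rcases (hmem k).1 hk with hk | hk
      · exact Or.inl ((inferInstance : (center G).Normal).conj_mem _ hk _)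
      · refine Or.inr fun u hu => hk ⟨(x ^ i)⁻¹ * u * x ^ i, by
          simpa using hMn.conj_mem _ u.2 (x ^ i)⁻¹⟩ ?_
        refine mem_Cn.2 ?_
        rw [← commute_conj_iff (g := x ^ i), show x ^ i * x * (x ^ i)⁻¹ = x by
          rw [((Commute.refl x).pow_left i).eq, mul_inv_cancel_right]]
        have hu' : Commute x ((u : G) * (x ^ i * k * (x ^ i)⁻¹) * (u : G)⁻¹) := mem_Cn.1 hu
        convert hu' using 1
        simp [mul_assoc]
    exact ⟨⟨m, hm⟩ * ⟨_, hxi⟩ * ⟨m, hm⟩⁻¹, hK.conj_mem _ hk' _, by simp [mul_assoc]⟩⟩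
  have hgen : ∀ g : G, ∃ k ∈ K₁, ∃ c, Commute x c ∧ g = k * c := fun g => by
    obtain ⟨m, hm, i, rfl⟩ := exists_pow_mul h hMr (x_not_mem h hMr hx) g
    obtain ⟨k, hk, c, hc, e⟩ := mem_sup_of_normal_left.1 (hsup ▸ mem_top (⟨m, hm⟩ : M) : _ ∈ K ⊔ A)
    exact ⟨k, mem_map_of_mem _ hk, (c : G) * x ^ i, (mem_Cn.1 hc).mul_right
      ((Commute.refl x).pow_right i), by rw [← mul_assoc]; exact congrArg (fun y : M => (y : G) * x ^ i) e.symm⟩
  haveI : (K₁ ⊔ zpowers x).Normal := by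
    refine ⟨fun y hy g => ?_⟩
    obtain ⟨k, hk, c, hc, rfl⟩ := hgen g
    obtain ⟨u, hu, v, hv, rfl⟩ := mem_sup_of_normal_left.1 hy
    obtain ⟨j, rfl⟩ := hv
    have h1 : k * c * (u * x ^ j) * (k * c)⁻¹ = k * (c * u * c⁻¹) * x ^ j * k⁻¹ := by
      rw [mul_inv_rev, show k * c * (u * x ^ j) * (c⁻¹ * k⁻¹) = k * (c * u * c⁻¹) * (c * x ^ j * c⁻¹) * k⁻¹
        by group, ((hc.zpow_left j).symm).eq, mul_inv_cancel_right]
    simp only
    rw [h1]
    exact mul_mem (mul_mem (mem_sup_left (mul_mem hk (hK₁.conj_mem u hu c)))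
      (mem_sup_right (zpow_mem (mem_zpowers x) j))) (inv_mem (mem_sup_left hk))
  have htop : K₁ ⊔ zpowers x = ⊤ := h.eq_top_of_mem hx.1 (mem_sup_right (mem_zpowers x))
  haveI : Group.IsSolvable K₁ := by
    haveI := hKsol
    exact Group.isSolvable_of_surjective
      (f := (K.equivMapOfInjective M.subtype M.subtype_injective).toMonoidHom)
      (K.equivMapOfInjective M.subtype M.subtype_injective).surjective
  refine h.notSolvable ((Group.isSolvable_iff_subgroup_quotient K₁).2 ⟨inferInstance, ?_⟩)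
  refine Group.isSolvable_of_surjective
    (f := ((QuotientGroup.mk' K₁).comp (zpowers x).subtype)) fun q => ?_
  obtain ⟨g, rfl⟩ := QuotientGroup.mk'_surjective K₁ q
  obtain ⟨k, hk, v, hv, rfl⟩ := mem_sup_of_normal_left.1 (htop ▸ mem_top g : g ∈ K₁ ⊔ zpowers x)
  exact ⟨⟨v, hv⟩, by
    rw [map_mul, show QuotientGroup.mk' K₁ k = 1 from (QuotientGroup.eq_one_iff k).2 hk, one_mul]; rfl⟩

/-- An element of order `r` from a non-TI pair. -/
theorem exists_l {a g : G} (ha : a ∈ M) (hac : a ∉ center G) (hxa : Commute x a)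
    (hgx : ¬ Commute x g) (hga : Commute x (g * a * g⁻¹)) :
    ∃ l, l ∈ M ∧ l ∉ center G ∧ l ^ r = 1 ∧ Commute a l ∧ Commute x l ∧ g⁻¹ * x * g = x * l := by
  set y := g⁻¹ * x * g with hy
  have hay : Commute a y := by
    rw [← commute_conj_iff (g := g)]
    simpa [hy, mul_assoc] using hga.symm
  have hxy : Commute x y := ab h hMr ha hac hxa.symm hay
  refine ⟨x⁻¹ * y, ?_, fun hc => hgx ?_, ?_, hxa.symm.inv_right.mul_right hay,
    ((Commute.refl x).inv_right).mul_right hxy, by group⟩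
  · rw [(hxy.inv_left).eq, hy]
    have := hMn.conj_mem
    obtain ⟨m, hm, i, rfl⟩ := exists_pow_mul h hMr (x_not_mem h hMr hx) g
    have e : (m * x ^ i)⁻¹ * x * (m * x ^ i) * x⁻¹ = (x ^ i)⁻¹ * (m⁻¹ * (x * m * x⁻¹)) * x ^ i := by
      have e1 : x ^ i * x⁻¹ = x⁻¹ * x ^ i := (((Commute.refl x).pow_left i).inv_right).eq
      calc (m * x ^ i)⁻¹ * x * (m * x ^ i) * x⁻¹ = (x ^ i)⁻¹ * m⁻¹ * x * m * (x ^ i * x⁻¹) := by group
        _ = _ := by rw [e1]; group
    rw [e]
    simpa using this _ (mul_mem (inv_mem hm) (this m hm x)) (x ^ i)⁻¹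
  · have hCn : Cn (g⁻¹ * x * g⁻¹⁻¹) = Cn x := by
      rw [inv_inv]
      ext v
      rw [mem_Cn, mem_Cn, show g⁻¹ * x * g = x * (x⁻¹ * y) by rw [hy]; group]
      refine ⟨fun e => ?_, fun e => e.mul_left (center_commute hc v)⟩
      have := e.mul_left (center_commute (inv_mem hc) v)
      rwa [mul_inv_cancel_right] at this
    exact mem_Cn.1 (inv_mem_iff.1 (h.mem_Cn_of_conj hx.1 hCn))
  · rw [(hxy.inv_left).mul_pow, inv_pow, show y ^ r = x ^ r from ?_, inv_mul_cancel]
    rw [hy, show g⁻¹ * x * g = g⁻¹ * x * g⁻¹⁻¹ by rw [inv_inv], conj_pow,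
      (commute_center hx.2 g⁻¹).eq, mul_inv_cancel_right]

theorem exists_SN : ∃ a l, a ∈ M ∧ a ∉ center G ∧ Commute x a ∧ SN M x a ∧ l ∈ M ∧ l ∉ center G ∧
    l ^ r = 1 ∧ Commute a l ∧ Commute x l := by
  obtain ⟨a, g, ha, hg, hac, hxa, hgx, hga⟩ := exists_not_TI h hMr hx
  obtain ⟨l, hl, hlc, hlr, hal, hxl, hy⟩ := exists_l h hMr hx ha hac hxa hgx hga
  by_cases hS : SN M x a
  · exact ⟨a, l, ha, hac, hxa, hS, hl, hlc, hlr, hal, hxl⟩
  simp only [SN, not_forall] at hS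
  obtain ⟨n₁, hn₁M, hxn₁, hn₁, hn₁'⟩ := hS
  refine ⟨g * a * g⁻¹, g * l * g⁻¹, hMn.conj_mem a ha g, fun hc => hac (by
      simpa [mul_assoc] using (inferInstance : (center G).Normal).conj_mem _ hc g⁻¹),
    hga, fun n hn hxn hnn => ?_, hMn.conj_mem l hl g, fun hc => hlc (by
      simpa [mul_assoc] using (inferInstance : (center G).Normal).conj_mem _ hc g⁻¹),
    by rw [conj_pow, hlr]; simp, commute_conj_iff.2 hal, ?_⟩
  · -- the pair for the conjugate of `x`
    set n₂ := g⁻¹ * n * g with hn₂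
    have hn₂y : Commute (g⁻¹ * x * g) n₂ := by
      rw [← commute_conj_iff (g := g)]; simpa [hn₂, mul_assoc] using hxn
    have hn₂a : Commute a (n₂ * a * n₂⁻¹) := by
      rw [← commute_conj_iff (g := g)]; simpa [hn₂, mul_assoc] using hnn
    rw [← commute_conj_iff (g := g⁻¹)]
    suffices Commute n₂ a by simpa [hn₂, mul_assoc] using this
    by_contra hn₂'
    set H := normalizer (Cn a : Set G)
    have hnorm : ∀ {u : G}, u ∈ M → Commute a (u * a * u⁻¹) → u ∈ H := fun {u} hu hua => by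
      refine mem_normalizer_iff.2 fun v => ?_
      rw [mem_Cn, mem_Cn]
      refine ⟨fun hv => ?_, fun hv => ?_⟩
      · exact (trans h hMr (hMn.conj_mem a ha u) (fun hc => hac (by
          simpa [mul_assoc] using (inferInstance : (center G).Normal).conj_mem _ hc u⁻¹)) hua.symm
          (commute_conj_iff.2 hv))
      · rw [← commute_conj_iff (g := u)]
        exact trans h hMr ha hac hua hv
    have hH : H ≠ ⊤ := fun e => h.not_mem_normalCore hx.1 fun g' => mem_Cn.2 (ab h hMr ha hac hxa.symm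
      (mem_Cn.1 ((normalizer_eq_top_iff.1 e).conj_mem x (mem_Cn.2 hxa.symm) g')))
    have hmemH : ∀ {v : G}, Commute a v → v ∈ H := fun hv => le_normalizer (mem_Cn.2 hv)
    have hxy : Commute a (g⁻¹ * x * g) := by rw [hy]; exact hxa.symm.mul_right hal
    have hn₂M : n₂ ∈ M := by simpa [hn₂] using hMn.conj_mem n hn g⁻¹
    have e1 : Commute x n₂ := h.proper H hH x (hmemH hxa.symm) a (hmemH (Commute.refl a)) n₁
      (hnorm hn₁M hn₁) hxa hxn₁ (fun e => hn₁' e.symm) n₂ (hnorm hn₂M hn₂a)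
    have e2 : Commute (g⁻¹ * x * g) n₁ := h.proper H hH _ (hmemH hxy) a (hmemH (Commute.refl a)) n₂
      (hnorm hn₂M hn₂a) hxy.symm hn₂y (fun e => hn₂' e.symm) n₁ (hnorm hn₁M hn₁)
    refine hn₁' ((trans h hMr hl hlc hal.symm ?_).symm)
    rw [show l = x⁻¹ * (g⁻¹ * x * g) by rw [hy]; group]
    exact hxn₁.inv_left.mul_left e2
  · rw [show g * l * g⁻¹ = g * x⁻¹ * g⁻¹ * x from ?_]
    · refine ?_
      have : Commute (g * x * g⁻¹) x := by
        refine ab h hMr (hMn.conj_mem a ha g) (fun hc => hac (by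
          simpa [mul_assoc] using (inferInstance : (center G).Normal).conj_mem _ hc g⁻¹))
          (commute_conj_iff.2 hxa.symm) hga.symm
      have h2 : Commute x (g * x⁻¹ * g⁻¹) := by
        rw [show g * x⁻¹ * g⁻¹ = (g * x * g⁻¹)⁻¹ by group]
        exact this.symm.inv_right
      exact h2.mul_right (Commute.refl x)
    · rw [show l = x⁻¹ * (g⁻¹ * x * g) by rw [hy]; group]; group

/-- Conjugation into `Cn a` inside the centraliser of `x`, and self-normalisation of every element of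
order `r`. -/
theorem exists_conj {a l : G} (ha : a ∈ M) (hac : a ∉ center G) (hxa : Commute x a) (hS : SN M x a)
    (hl : l ∈ M) (hlc : l ∉ center G) (hlr : l ^ r = 1) (hal : Commute a l) (hxl : Commute x l)
    {l' : G} (hl' : l' ∈ M) (hl'r : l' ^ r = 1) (hxl' : Commute x l') :
    ∃ g ∈ M, Commute x g ∧ Commute a (g⁻¹ * l' * g) := by
  set A := Cn x ⊓ M
  set Za := (center G).subgroupOf A
  set B := (Cn a).subgroupOf A
  have hmemA : ∀ {v : G}, v ∈ M → Commute x v → v ∈ A := fun hv hxv => ⟨mem_Cn.2 hxv, hv⟩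
  have hZB : Za ≤ B := fun z hz => mem_Cn.2 (commute_center hz a)
  have hBne : ¬ B ≤ Za := fun hle =>
    hlc (hle (mem_Cn.2 hal : (⟨l, hmemA hl hxl⟩ : A) ∈ B))
  have hBtop : B ≠ ⊤ := fun e => by
    obtain ⟨u, v, hu, hv, hxu, hxv, huv⟩ := exists_noncomm h hMr hx
    exact huv (ab h hMr ha hac (mem_Cn.1 (e ▸ mem_top (⟨u, hmemA hu hxu⟩ : A) : _ ∈ B))
      (mem_Cn.1 (e ▸ mem_top (⟨v, hmemA hv hxv⟩ : A) : _ ∈ B)))
  have hF := isFrobeniusComplement_map hZB hBne hBtop fun g hg b hb hgb => by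
    by_contra hbc
    refine hg (mem_Cn.2 (hS g g.2.2 (mem_Cn.1 g.2.1) ?_).symm)
    have hb' : Commute a (b : G) := mem_Cn.1 hb
    have hgb' : Commute a ((g : G) * b * (g : G)⁻¹) := mem_Cn.1 hgb
    exact trans h hMr (hMn.conj_mem _ b.2.2 g) (fun hc => hbc (show (b : G) ∈ center G by
        simpa [mul_assoc] using (inferInstance : (center G).Normal).conj_mem _ hc (g : G)⁻¹))
      hgb'.symm (commute_conj_iff.2 hb'.symm)
  set π := QuotientGroup.mk' Za
  set F := B.map π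
  have hcop : (Nat.card F).Coprime F.index := S0588.result F fun q hq hq1 v hv =>
    Frobenius.mem_of_commute hF hq hq1 (mem_Cn.1 hv).symm
  have hrF : r ∣ Nat.card F := by
    have h1 : orderOf (π ⟨l, hmemA hl hxl⟩) = r := by
      refine orderOf_eq_prime ?_ fun e => hlc ((QuotientGroup.eq_one_iff (N := Za) (⟨l, hmemA hl hxl⟩ : A)).1 e : _)
      rw [← map_pow, show (⟨l, hmemA hl hxl⟩ : A) ^ r = 1 from Subtype.ext hlr, map_one]
    have hm : π ⟨l, hmemA hl hxl⟩ ∈ F :=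
      mem_map_of_mem π (mem_Cn.2 hal : (⟨l, hmemA hl hxl⟩ : A) ∈ B)
    rw [← h1, ← Subgroup.orderOf_mk _ hm]
    exact orderOf_dvd_natCard _
  have hri : ¬ r ∣ F.index := fun hd =>
    hr.out.one_lt.ne' (Nat.dvd_one.1 (hcop ▸ Nat.dvd_gcd hrF hd))
  set q := π ⟨l', hmemA hl' hxl'⟩
  have hP : IsPGroup r (zpowers q) := by
    rintro ⟨v, hv⟩
    obtain ⟨i, rfl⟩ := hv
    refine ⟨1, Subtype.ext ?_⟩
    show (q ^ i) ^ (r ^ 1) = 1
    rw [pow_one, ← zpow_natCast, zpow_comm, zpow_natCast,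
      show q ^ r = 1 by rw [← map_pow, show (⟨l', hmemA hl' hxl'⟩ : A) ^ r = 1 from Subtype.ext hl'r, map_one],
      one_zpow]
  obtain ⟨c, hc⟩ := hP.nonempty_fixed_point_of_prime_not_dvd_card ((A ⧸ Za) ⧸ F) (by rwa [← index_eq_card])
  obtain ⟨c, rfl⟩ := QuotientGroup.mk_surjective c
  have h2 : c⁻¹ * q * c ∈ F := by
    have := inv_mem (QuotientGroup.eq.1 (hc ⟨q, mem_zpowers q⟩ : ((q * c : A ⧸ Za) : (A ⧸ Za) ⧸ F) = c))
    rw [mul_inv_rev, inv_inv] at this
    rw [mul_assoc]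
    exact this
  obtain ⟨g, rfl⟩ := QuotientGroup.mk'_surjective Za c
  refine ⟨g, g.2.2, mem_Cn.1 g.2.1, mem_Cn.1 (?_ : _ ∈ Cn a)⟩
  have h3 : g⁻¹ * ⟨l', hmemA hl' hxl'⟩ * g ∈ F.comap π := by rw [mem_comap]; simpa [q, π] using h2
  rw [comap_map_eq_self (by rwa [QuotientGroup.ker_mk'])] at h3
  exact h3

theorem sN_of_pow {l' : G} (hl' : l' ∈ M) (hl'c : l' ∉ center G) (hl'r : l' ^ r = 1)
    (hxl' : Commute x l') : SN M x l' := by
  obtain ⟨a, l, ha, hac, hxa, hS, hl, hlc, hlr, hal, hxl⟩ := exists_SN h hMr hx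
  obtain ⟨g, hg, hxg, hgl⟩ := exists_conj h hMr hx ha hac hxa hS hl hlc hlr hal hxl hl' hl'r hxl'
  intro n hn hxn hnl
  set b := g⁻¹ * l' * g with hb
  have hbM : b ∈ M := mul_mem (mul_mem (inv_mem hg) hl') hg
  have hbc : b ∉ center G := fun hc => hl'c (by
    simpa [hb, mul_assoc] using (inferInstance : (center G).Normal).conj_mem _ hc g)
  set n' := g⁻¹ * n * g with hn'
  have hnb : Commute b (n' * b * n'⁻¹) := by
    rw [← commute_conj_iff (g := g)]; simpa [hb, hn', mul_assoc] using hnl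
  have hn'M : n' ∈ M := mul_mem (mul_mem (inv_mem hg) hn) hg
  have hxn' : Commute x n' := (hxg.inv_right.mul_right hxn).mul_right hxg
  have hab : Commute a (n' * b * n'⁻¹) := trans h hMr hbM hbc hgl.symm hnb
  have hna : Commute a (n' * a * n'⁻¹) :=
    trans h hMr (hMn.conj_mem b hbM n') (fun hc => hbc (by
      simpa [mul_assoc] using (inferInstance : (center G).Normal).conj_mem _ hc n'⁻¹))
      hab.symm (commute_conj_iff.2 hgl.symm)
  have := trans h hMr ha hac (hS n' hn'M hxn' hna).symm hgl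
  rw [← commute_conj_iff (g := g⁻¹)]
  simpa [hn', hb, mul_assoc] using this

/-- The configuration: `l` of order `r` centralised by `x` and `n ∈ M` moving `x` and normalising `Cn l`. -/
theorem exists_config : ∃ l n, l ∈ M ∧ l ∉ center G ∧ l ^ r = 1 ∧ Commute x l ∧ n ∈ M ∧
    ¬ Commute n l ∧ Commute l (n * l * n⁻¹) := by
  obtain ⟨a, g, ha, hg, hac, hxa, hgx, hga⟩ := exists_not_TI h hMr hx
  obtain ⟨l, hl, hlc, hlr, hal, hxl, hy⟩ := exists_l h hMr hx ha hac hxa hgx hga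
  set l' := g * l * g⁻¹ with hl'
  have hxl' : Commute x l' := trans h hMr (hMn.conj_mem a ha g) (fun hc => hac (by
    simpa [mul_assoc] using (inferInstance : (center G).Normal).conj_mem _ hc g⁻¹))
    hga.symm (commute_conj_iff.2 hal)
  have hS := sN_of_pow h hMr hx hl hlc hlr hxl
  obtain ⟨c, hc, hxc, hcl⟩ := exists_conj h hMr hx hl hlc hxl hS hl hlc hlr (Commute.refl l) hxl
    (hMn.conj_mem l hl g) (by rw [conj_pow, hlr]; simp) hxl'
  refine ⟨l, c⁻¹ * g, hl, hlc, hlr, hxl, mul_mem (inv_mem hc) hg, fun e => hgx ?_, ?_⟩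
  · have h1 : Commute x (c⁻¹ * g) := trans h hMr hl hlc hxl.symm e.symm
    simpa using hxc.mul_right h1
  · simpa [mul_assoc] using hcl

end Hyp

end Cfsg.Agent.MinNonCA
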