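import Cfsg.Agent.Lib.MinNonCA.Outer
import Mathlib.FieldTheory.Finite.Basic

/-!
# Minimal non-CA groups: the configuration of `Outer` is impossible

`n` may be chosen an `r`-element with `n x n⁻¹ = x l`, `n ^ r` central and `n l ≡ l n`.  Modulo the centre
`⟨l, n⟩` is a Sylow `r`-subgroup of `M` of order `r ^ 2`; a transvection pair gives an element inverting `l`,
and otherwise Burnside gives a proper normal subgroup containing `x`.
-/

set_option autoImplicit false
set_option linter.unusedSectionVars false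
set_option linter.style.haveILetI false

namespace Cfsg.Agent.MinNonCA

open Subgroup
open scoped commutatorElement

variable {G : Type*} [Group G]

/-- Conjugation by an element generalising a transvection: the binomial iteration. -/
theorem conj_pow_iterate {n b c z : G} (hb : n * b * n⁻¹ = b * c) (hc : n * c * n⁻¹ = c * z)
    (hz : ∀ y, Commute z y) (k : ℕ) : n ^ k * b * (n ^ k)⁻¹ = b * c ^ k * z ^ k.choose 2 := by
  induction k with
  | zero => simp
  | succ k ih =>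
    have hzn : n * z ^ k.choose 2 * n⁻¹ = z ^ k.choose 2 := by
      rw [((hz n).symm.pow_right _).eq, mul_inv_cancel_right]
    calc n ^ (k + 1) * b * (n ^ (k + 1))⁻¹ = n * (n ^ k * b * (n ^ k)⁻¹) * n⁻¹ := by
          rw [pow_succ', mul_inv_rev]; group
      _ = (n * b * n⁻¹) * (n * c * n⁻¹) ^ k * (n * z ^ k.choose 2 * n⁻¹) := by
          rw [ih, conj_pow]; group
      _ = b * c ^ (k + 1) * (z ^ k * z ^ k.choose 2) := by
          rw [hb, hc, hzn, ((hz c).symm).mul_pow, pow_succ']; simp only [mul_assoc]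
      _ = b * c ^ (k + 1) * z ^ (k + 1).choose 2 := by
          rw [← pow_add, Nat.choose_succ_succ' k 1, Nat.choose_one_right]

namespace Hyp

variable [Finite G] (h : Hyp G) {M : Subgroup G} [hMn : M.Normal] {r : ℕ} [hr : Fact r.Prime]
  (hMr : M.index = r) {x l : G} (hx : Good r x) (hl : l ∈ M) (hlc : l ∉ center G)

include h hMr hl hlc

theorem norm_conj {m v : G} (hm : m ∈ M) (hml : Commute l (m * l * m⁻¹)) (hv : Commute l v) :
    Commute l (m * v * m⁻¹) :=
  trans h hMr (hMn.conj_mem l hl m) (fun hc => hlc (by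
    simpa [mul_assoc] using (inferInstance : (center G).Normal).conj_mem _ hc m⁻¹))
    hml.symm (commute_conj_iff.2 hv)

theorem norm_pow {m : G} (hm : m ∈ M) (hml : Commute l (m * l * m⁻¹)) (k : ℕ) :
    Commute l (m ^ k * l * (m ^ k)⁻¹) := by
  induction k with
  | zero => simp
  | succ k ih =>
    have := norm_conj h hMr hl hlc hm hml ih
    rw [pow_succ', mul_inv_rev]
    simpa [mul_assoc] using this

variable (hlr : l ^ r = 1) (hxl : Commute x l)

include hx hlr hxl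

theorem prime_case {m : G} (hm : m ∈ M) (hml : Commute l (m * l * m⁻¹)) {q : ℕ} (hq : q.Prime)
    (hqr : q ≠ r) (hmq : Commute (m ^ q) l) : Commute m l := by
  set u : ℕ → G := fun k => (x * m) ^ k * (m ^ k)⁻¹ with hu
  have hsucc : ∀ k, u (k + 1) = x * (m * u k * m⁻¹) := fun k => by
    simp only [hu, pow_succ', mul_inv_rev]
    group
  have hlu : ∀ k, Commute l (u k) := fun k => by
    induction k with
    | zero => simp [hu]
    | succ k ih =>
      rw [hsucc]
      exact hxl.symm.mul_right (norm_conj h hMr hl hlc hm hml ih)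
  have hur : ∀ k, (u k) ^ r ∈ center G := fun k => by
    induction k with
    | zero => simp [hu]
    | succ k ih =>
      rw [hsucc, (trans h hMr hl hlc hxl.symm (norm_conj h hMr hl hlc hm hml (hlu k))).mul_pow, conj_pow]
      exact mul_mem hx.2 ((inferInstance : (center G).Normal).conj_mem _ ih m)
  have hxmq : Commute x (m ^ q) := ab h hMr hl hlc hxl.symm hmq.symm
  have hum : Commute (u q) m := by
    have hxu : Commute x (u q) := ab h hMr hl hlc hxl.symm (hlu q)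
    have key : ∀ P Q : G, x * m * P = P * (x * m) → m * Q⁻¹ * m⁻¹ = Q⁻¹ → Q⁻¹ * x = x * Q⁻¹ →
        m * (P * Q⁻¹) * m⁻¹ = x⁻¹ * (P * Q⁻¹ * x) := fun P Q h1 h2 h3 => by
      calc m * (P * Q⁻¹) * m⁻¹ = x⁻¹ * (x * m * P) * Q⁻¹ * m⁻¹ := by group
        _ = x⁻¹ * P * x * (m * Q⁻¹ * m⁻¹) := by rw [h1]; group
        _ = x⁻¹ * P * (x * Q⁻¹) := by rw [h2, mul_assoc]
        _ = _ := by rw [← h3]; simp only [mul_assoc]
    have e : m * u q * m⁻¹ = u q := by
      show m * ((x * m) ^ q * (m ^ q)⁻¹) * m⁻¹ = u q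
      rw [key _ _ ((Commute.refl (x * m)).pow_right q).eq
        (by rw [(((Commute.refl m).pow_right q).inv_right).eq, mul_inv_cancel_right])
        hxmq.inv_right.eq.symm]
      show x⁻¹ * (u q * x) = u q
      rw [← hxu.eq, inv_mul_cancel_left]
    exact (mul_inv_eq_iff_eq_mul.1 e).symm
  by_contra hne
  have huM : u q ∉ M := fun hu' => x_not_mem h hMr hx <| by
    have h1 : (x : G ⧸ M) ^ q = 1 := by
      have := (QuotientGroup.eq_one_iff (u q)).2 hu'
      simpa [hu, (QuotientGroup.eq_one_iff m).2 hm] using this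
    have h2 : (x : G ⧸ M) ^ r = 1 := by
      rw [← QuotientGroup.mk_pow]; exact (QuotientGroup.eq_one_iff _).2 (pow_mem_M h hMr x)
    rw [← QuotientGroup.eq_one_iff, ← orderOf_eq_one_iff]
    exact Nat.dvd_one.1 ((Nat.coprime_primes hq hr.out).2 hqr ▸
      Nat.dvd_gcd (orderOf_dvd_of_pow_eq_one h1) (orderOf_dvd_of_pow_eq_one h2))
  have hgood : Good r (u q) :=
    ⟨⟨fun hc => huM (zle h hMr hx hc), m, l, hum, (hlu q).symm, hne⟩, hur q⟩
  exact hne (sN_of_pow h hMr hgood hl hlc hlr (hlu q).symm m hm hum hml)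

theorem prime_pow {m : G} (hm : m ∈ M) (hml : Commute l (m * l * m⁻¹)) :
    ∃ e, Commute (m ^ (r ^ e)) l := by
  classical
  have hex : ∃ k, 0 < k ∧ Commute (m ^ k) l :=
    ⟨orderOf m, orderOf_pos m, by rw [pow_orderOf_eq_one]; exact Commute.one_left l⟩
  obtain ⟨hk, hkc⟩ := Nat.find_spec hex
  have hdiv : ∀ {d : ℕ}, d.Prime → d ∣ Nat.find hex → d = r := fun {d} hd hdvd => by
    by_contra hdr
    obtain ⟨j, hj⟩ := hdvd
    have hj0 : 0 < j := Nat.pos_of_ne_zero fun e => hk.ne' (by rw [hj, e, mul_zero])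
    refine Nat.find_min hex (m := j) ?_ ⟨hj0, prime_case h hMr hx hl hlc hlr hxl (pow_mem hm j)
      (norm_pow h hMr hl hlc hm hml j) hd hdr ?_⟩
    · rw [hj]; exact lt_mul_left hj0 hd.one_lt
    · rw [← pow_mul, mul_comm, ← hj]; exact hkc
  exact ⟨_, Nat.eq_prime_pow_of_unique_prime_dvd hk.ne' hdiv ▸ hkc⟩

theorem r_odd {n : G} (hn : n ∈ M) (hne : ¬ Commute n l) (hnl : Commute l (n * l * n⁻¹))
    (hnr : Commute (n ^ r) l) {c : G} (hc : n * x * n⁻¹ = x * c) (hcM : c ∈ M) (hcl : Commute l c)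
    (hcc : c ∉ center G) (hcr : c ^ r = 1) : r ≠ 2 := by
  intro e
  refine hne ((trans h hMr hcM hcc hcl.symm ?_).symm)
  have hxn : Commute x (n ^ 2) := by
    rw [← e]; exact ab h hMr hl hlc hxl.symm hnr.symm
  have h2 : x * (c * (n * c * n⁻¹)) = x := by
    calc x * (c * (n * c * n⁻¹)) = (n * x * n⁻¹) * (n * c * n⁻¹) := by rw [hc]; simp only [mul_assoc]
      _ = n * (n * x * n⁻¹) * n⁻¹ := by conv_rhs => rw [hc]
                                        group
      _ = n ^ 2 * x * (n ^ 2)⁻¹ := by rw [pow_two]; group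
      _ = x := by rw [← hxn.eq, mul_inv_cancel_right]
  have h3 : c * c = 1 := by rw [← pow_two, ← e, hcr]
  have h4 : n * c * n⁻¹ = c :=
    mul_left_cancel ((mul_eq_left.1 h2).trans h3.symm)
  exact (mul_inv_eq_iff_eq_mul.1 h4).symm

theorem omega {b : G} (hb : b ∈ M) (hlb : Commute l b) (hbr : b ^ r ∈ center G) (hr2 : r ≠ 2) :
    ∃ i : ℕ, ∃ z ∈ center G, b = l ^ i * z := by
  classical
  set A := Cn x ⊓ M
  set Za := (center G).subgroupOf A
  set B := (Cn l).subgroupOf A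
  have hmemA : ∀ {v : G}, v ∈ M → Commute x v → v ∈ A := fun hv hxv => ⟨mem_Cn.2 hxv, hv⟩
  have hZB : Za ≤ B := fun z hz => mem_Cn.2 (commute_center hz l)
  have hBne : ¬ B ≤ Za := fun hle =>
    hlc (hle (mem_Cn.2 (Commute.refl l) : (⟨l, hmemA hl hxl⟩ : A) ∈ B))
  have hBtop : B ≠ ⊤ := fun e => by
    obtain ⟨u, v, hu, hv, hxu, hxv, huv⟩ := exists_noncomm h hMr hx
    exact huv (ab h hMr hl hlc (mem_Cn.1 (e ▸ mem_top (⟨u, hmemA hu hxu⟩ : A) : _ ∈ B))
      (mem_Cn.1 (e ▸ mem_top (⟨v, hmemA hv hxv⟩ : A) : _ ∈ B)))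
  have hS := sN_of_pow h hMr hx hl hlc hlr hxl
  have hF := isFrobeniusComplement_map hZB hBne hBtop fun g hg c hc hgc => by
    by_contra hcc
    refine hg (mem_Cn.2 (hS g g.2.2 (mem_Cn.1 g.2.1) ?_).symm)
    exact trans h hMr (hMn.conj_mem _ c.2.2 g) (fun he => hcc (show (c : G) ∈ center G by
        simpa [mul_assoc] using (inferInstance : (center G).Normal).conj_mem _ he (g : G)⁻¹))
      (mem_Cn.1 hgc).symm (commute_conj_iff.2 (mem_Cn.1 hc).symm)
  set π := QuotientGroup.mk' Za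
  set F := B.map π
  obtain ⟨K, hK, -, hKF, -⟩ := exists_kernel hF
  have hKne : K ≠ ⊥ := fun e => hF.2.1 (by
    have := hKF.sup_eq_top
    rwa [e, bot_sup_eq] at this)
  haveI := hK
  haveI : IsMulCommutative F := ⟨⟨by
    rintro ⟨_, p, hp, rfl⟩ ⟨_, q, hq, rfl⟩
    refine Subtype.ext ?_
    show π p * π q = π q * π p
    rw [← map_mul, ← map_mul]
    exact congrArg π (Subtype.ext (ab h hMr hl hlc (mem_Cn.1 hp) (mem_Cn.1 hq)).eq)⟩⟩
  set L : F := ⟨π ⟨l, hmemA hl hxl⟩, mem_map_of_mem π (mem_Cn.2 (Commute.refl l) : (⟨l, hmemA hl hxl⟩ : A) ∈ B)⟩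
  have hxb : Commute x b := ab h hMr hl hlc hxl.symm hlb
  set Bv : F := ⟨π ⟨b, hmemA hb hxb⟩, mem_map_of_mem π (mem_Cn.2 hlb : (⟨b, hmemA hb hxb⟩ : A) ∈ B)⟩
  have hL : L ^ r = 1 := Subtype.ext (by
    show π _ ^ r = 1
    rw [← map_pow, show (⟨l, hmemA hl hxl⟩ : A) ^ r = 1 from Subtype.ext hlr, map_one])
  have hB : Bv ^ r = 1 := Subtype.ext (by
    show π _ ^ r = 1
    rw [← map_pow]
    exact (QuotientGroup.eq_one_iff _).2 hbr)
  have hL1 : L ≠ 1 := fun e => hlc ((QuotientGroup.eq_one_iff (N := Za) (⟨l, hmemA hl hxl⟩ : A)).1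
    (congrArg Subtype.val e) : _)
  obtain ⟨P⟩ : Nonempty (Sylow r F) := inferInstance
  have hPn : (P : Subgroup F).Normal := inferInstance
  have hmemP : ∀ v : F, v ^ r = 1 → v ∈ (P : Subgroup F) := fun v hv => by
    have hp : IsPGroup r (zpowers v) := by
      rintro ⟨_, i, rfl⟩
      refine ⟨1, Subtype.ext ?_⟩
      show (v ^ i) ^ (r ^ 1) = 1
      rw [pow_one, ← zpow_natCast, zpow_comm, zpow_natCast, hv, one_zpow]
    haveI : (zpowers v).Normal := ⟨fun w hw g => by rwa [mul_comm' g w, mul_inv_cancel_right]⟩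
    exact hp.le_sylow_of_normal P (mem_zpowers v)
  rcases S0040.result K F hKF hKne ((Frobenius.isFrobeniusComplement_iff hKF hKne hF.1).1 hF) r P with
    hcyc | ⟨k, ⟨e⟩⟩
  swap
  · obtain ⟨j, hj⟩ := P.2.exists_card_eq
    have := Nat.card_congr e.toEquiv
    rw [hj, Nat.card_eq_fintype_card, QuaternionGroup.card] at this
    exact absurd ((Nat.prime_dvd_prime_iff_eq Nat.prime_two hr.out).1
      (Nat.prime_two.dvd_of_dvd_pow (n := j) ⟨2 * 2 ^ k, by omega⟩)).symm hr2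
  haveI := Fintype.ofFinite (P : Subgroup F)
  set L' : (P : Subgroup F) := ⟨L, hmemP L hL⟩
  have hL' : orderOf L' = r :=
    orderOf_eq_prime (Subtype.ext hL) fun e => hL1 (congrArg Subtype.val e)
  have hsub : (Finset.range r).image (fun i => L' ^ i) ⊆ Finset.univ.filter (fun a => a ^ r = 1) := by
    intro a ha
    simp only [Finset.mem_image, Finset.mem_range] at ha
    obtain ⟨i, -, rfl⟩ := ha
    simp only [Finset.mem_filter, Finset.mem_univ, true_and]
    rw [← pow_mul, mul_comm, pow_mul, show L' ^ r = 1 from Subtype.ext hL, one_pow]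
  have heq := Finset.eq_of_subset_of_card_le hsub (by
    refine (IsCyclic.card_pow_eq_one_le (α := (P : Subgroup F)) hr.out.pos).trans ?_
    rw [Finset.card_image_of_injOn, Finset.card_range]
    intro i hi j hj hij
    simp only [Finset.coe_range, Set.mem_Iio] at hi hj
    exact pow_injOn_Iio_orderOf (by rw [Set.mem_Iio, hL']; exact hi) (by rw [Set.mem_Iio, hL']; exact hj) hij)
  have hBm : (⟨Bv, hmemP Bv hB⟩ : (P : Subgroup F)) ∈ Finset.univ.filter (fun a => a ^ r = 1) := by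
    simp only [Finset.mem_filter, Finset.mem_univ, true_and]
    exact Subtype.ext hB
  rw [← heq] at hBm
  simp only [Finset.mem_image, Finset.mem_range] at hBm
  obtain ⟨i, -, hi⟩ := hBm
  have hi' : π ((⟨l, hmemA hl hxl⟩ : A) ^ i) = π ⟨b, hmemA hb hxb⟩ := by
    rw [map_pow]; exact congrArg (fun v : (P : Subgroup F) => ((v : F) : A ⧸ Za)) hi
  exact ⟨i, (l ^ i)⁻¹ * b, (QuotientGroup.eq (s := Za) (a := (⟨l, hmemA hl hxl⟩ : A) ^ i)).1 hi', by group⟩

variable {n : G} (hn : n ∈ M) (hne : ¬ Commute n l) (hnr : Commute (n ^ r) l) (hr2 : r ≠ 2)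

include hn hne hnr hr2

omit hn hne hnr hr2 in
theorem orderOf_mk_l : orderOf (l : G ⧸ center G) = r :=
  orderOf_eq_prime (by rw [← QuotientGroup.mk_pow, hlr, QuotientGroup.mk_one])
    fun e => hlc ((QuotientGroup.eq_one_iff l).1 e)

omit hn hne hnr in
theorem conj_l {m : G} (hm : m ∈ M) (hml : Commute l (m * l * m⁻¹)) :
    ((m * l * m⁻¹ : G) : G ⧸ center G) = (l : G ⧸ center G) := by
  obtain ⟨i, z, hz, hi⟩ := omega h hMr hx hl hlc hlr hxl (hMn.conj_mem l hl m) hml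
    (by rw [conj_pow, hlr]; simp) hr2
  set X : G ⧸ center G := (l : G ⧸ center G)
  set Y : G ⧸ center G := (m : G ⧸ center G)
  have h1 : Y * X * Y⁻¹ = X ^ i := by
    have := congrArg (fun v : G => (v : G ⧸ center G)) hi
    simpa [(QuotientGroup.eq_one_iff z).2 hz, X, Y] using this
  have h2 : ∀ k : ℕ, Y ^ k * X * (Y ^ k)⁻¹ = X ^ (i ^ k) := fun k => by
    induction k with
    | zero => simp
    | succ k ih =>
      calc Y ^ (k + 1) * X * (Y ^ (k + 1))⁻¹ = Y * (Y ^ k * X * (Y ^ k)⁻¹) * Y⁻¹ := by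
            rw [pow_succ', mul_inv_rev]; group
        _ = (Y * X * Y⁻¹) ^ (i ^ k) := by rw [ih, conj_pow]
        _ = X ^ (i ^ (k + 1)) := by rw [h1, ← pow_mul, pow_succ']
  obtain ⟨e, he⟩ := prime_pow h hMr hx hl hlc hlr hxl hm hml
  have h3 : Y ^ (r ^ e) * X * (Y ^ (r ^ e))⁻¹ = X := by
    simp only [X, Y, ← QuotientGroup.mk_pow, ← QuotientGroup.mk_inv, ← QuotientGroup.mk_mul]
    rw [he.eq, mul_inv_cancel_right]
  have h4 : i ^ (r ^ e) ≡ 1 [MOD r] := by
    have e' := (h2 _).symm.trans h3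
    nth_rw 2 [← pow_one X] at e'
    rw [pow_eq_pow_iff_modEq, orderOf_mk_l h hMr hx hl hlc hlr hxl] at e'
    exact e'
  have h5 : i ≡ 1 [MOD r] := by
    rw [← ZMod.natCast_eq_natCast_iff] at h4 ⊢
    rw [Nat.cast_pow, ZMod.pow_card_pow] at h4
    exact h4
  show Y * X * Y⁻¹ = X
  rw [h1]
  nth_rw 2 [← pow_one X]
  rw [pow_eq_pow_iff_modEq, orderOf_mk_l h hMr hx hl hlc hlr hxl]
  exact h5

theorem bsq (hnl : Commute l (n * l * n⁻¹)) {b : G} (hb : b ∈ M) (hlb : Commute l b) {j : ℕ} {z : G}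
    (hz : z ∈ center G) (hbj : b ^ r = l ^ j * z) : b ^ r ∈ center G := by
  obtain ⟨z₀, hz₀, hn0⟩ : ∃ z₀ ∈ center G, n * l * n⁻¹ = l * z₀ :=
    ⟨l⁻¹ * (n * l * n⁻¹),
      QuotientGroup.eq.1 (conj_l h hMr hx hl hlc hlr hxl hr2 hn hnl).symm, by group⟩
  have hz₀r : z₀ ^ r = 1 := by
    have e := congrArg (fun v => v ^ r) hn0
    simp only [conj_pow, hlr, (commute_center hz₀ l).mul_pow] at e
    simpa using e.symm
  have hz₀1 : z₀ ≠ 1 := fun e => hne (by
    rw [e, mul_one] at hn0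
    exact mul_inv_eq_iff_eq_mul.1 hn0)
  set c := b⁻¹ * (n * b * n⁻¹) with hcdef
  have hlnb : Commute l (n * b * n⁻¹) := norm_conj h hMr hl hlc hn hnl hlb
  have hcM : c ∈ M := mul_mem (inv_mem hb) (hMn.conj_mem b hb n)
  have hcr : c ^ r = z₀ ^ j := by
    rw [hcdef, (ab h hMr hl hlc hlb.inv_right hlnb).mul_pow, conj_pow, inv_pow, hbj,
      show n * (l ^ j * z) * n⁻¹ = l ^ j * z₀ ^ j * z from ?_]
    · rw [mul_inv_rev, mul_assoc (l ^ j), (center_commute (pow_mem hz₀ j) z).eq,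
        mul_assoc, ← mul_assoc (l ^ j)⁻¹, inv_mul_cancel, one_mul, inv_mul_cancel_left]
    rw [show n * (l ^ j * z) * n⁻¹ = (n * l ^ j * n⁻¹) * (n * z * n⁻¹) by group, ← conj_pow, hn0,
      (commute_center hz n).eq, mul_inv_cancel_right, (commute_center hz₀ l).mul_pow]
  obtain ⟨i, w, hw, hci⟩ := omega h hMr hx hl hlc hlr hxl hcM (hlb.inv_right.mul_right hlnb)
    (hcr ▸ pow_mem hz₀ j) hr2
  have hnc : n * c * n⁻¹ = c * z₀ ^ i := by
    rw [hci, show n * (l ^ i * w) * n⁻¹ = (n * l * n⁻¹) ^ i * (n * w * n⁻¹) by rw [conj_pow]; group,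
      hn0, (commute_center hz₀ l).mul_pow, (commute_center hw n).eq, mul_inv_cancel_right,
      mul_assoc, mul_assoc, (center_commute (pow_mem hz₀ i) w).eq]
  have hit := conj_pow_iterate (k := r) (show n * b * n⁻¹ = b * c by rw [hcdef]; group) hnc
    (center_commute (pow_mem hz₀ i))
  have hfix : n ^ r * b * (n ^ r)⁻¹ = b := by
    rw [(ab h hMr hl hlc hnr.symm hlb).eq, mul_inv_cancel_right]
  have hch : (z₀ ^ i) ^ r.choose 2 = 1 := by
    obtain ⟨d, hd⟩ := hr.out.dvd_choose_self two_ne_zero (lt_of_le_of_ne hr.out.two_le hr2.symm)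
    rw [hd, pow_mul, ← pow_mul z₀ i r, mul_comm i, pow_mul, hz₀r, one_pow, one_pow]
  rw [hfix, hch, mul_one] at hit
  have h0 : z₀ ^ j = 1 := hcr ▸ (mul_eq_left.1 hit.symm)
  have hj : r ∣ j := by
    have := orderOf_dvd_of_pow_eq_one h0
    rwa [orderOf_eq_prime hz₀r hz₀1] at this
  obtain ⟨d, rfl⟩ := hj
  rw [hbj, pow_mul, hlr, one_pow, one_mul]
  exact hz

theorem rpow (hnl : Commute l (n * l * n⁻¹)) : ∀ (e : ℕ) {b : G}, b ∈ M → Commute l b →
    b ^ (r ^ e) ∈ center G → ∃ i : ℕ, ∃ z ∈ center G, b = l ^ i * z := by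
  intro e
  induction e with
  | zero => exact fun {b} _ _ hb' => ⟨0, b, by simpa using hb', by simp⟩
  | succ e ih =>
    intro b hb hlb hb'
    obtain ⟨j, z, hz, hj⟩ := ih (pow_mem hb r) (hlb.pow_right r) (by rwa [← pow_mul, ← pow_succ'])
    exact omega h hMr hx hl hlc hlr hxl hb hlb (bsq h hMr hx hl hlc hlr hxl hn hne hnr hr2 hnl hb hlb hz hj)
      hr2

end Hyp

end Cfsg.Agent.MinNonCA
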