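import Cfsg.Prelude.Def_Solvable
import Mathlib

/-!
# A pair of transvections on `⟨N, L⟩ ≅ C_r × C_r`

`x` fixes `L` and sends `N` to `N L⁻¹`.  If a normalising element moves the line of `L`, conjugation gives an
element inverting `L`; when elements normalising `⟨L⟩` centralise `L` this is absurd for odd `r`.
-/

set_option autoImplicit false
set_option linter.style.haveILetI false

namespace Cfsg.Agent.MinNonCA

variable {Q : Type*} [Group Q] {r : ℕ}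

theorem exists_inv_exp (hr : r.Prime) {a : ℤ} (ha : ¬ (r : ℤ) ∣ a) :
    ∃ b : ℕ, ∀ Y : Q, Y ^ r = 1 → (Y ^ a) ^ b = Y ∧ (Y ^ b) ^ a = Y := by
  haveI := Fact.mk hr
  have ha' : (a : ZMod r) ≠ 0 := fun e => ha ((ZMod.intCast_zmod_eq_zero_iff_dvd a r).1 e)
  refine ⟨((a : ZMod r)⁻¹).val, fun Y hY => ?_⟩
  have h1 : (((a * (((a : ZMod r)⁻¹).val : ℕ) : ℤ)) : ZMod r) = ((1 : ℤ) : ZMod r) := by
    push_cast
    rw [ZMod.natCast_val, ZMod.cast_id, mul_inv_cancel₀ ha']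
  obtain ⟨k, hk⟩ := ((ZMod.intCast_eq_intCast_iff_dvd_sub _ _ r).1 h1.symm)
  have h2 : Y ^ (a * (((a : ZMod r)⁻¹).val : ℕ)) = Y := by
    rw [show a * (((a : ZMod r)⁻¹).val : ℕ) = (r : ℤ) * k + 1 by omega, zpow_add, zpow_mul,
      zpow_natCast, hY, one_zpow, one_mul, zpow_one]
  refine ⟨?_, ?_⟩
  · rw [← zpow_natCast, ← zpow_mul, h2]
  · rw [← zpow_natCast, ← zpow_mul, mul_comm _ a, h2]

theorem pow_conj_of_fix {V L M : Q} (hM : V * M * V⁻¹ = M) (hL : V * L * V⁻¹ = L * M) :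
    ∀ q : ℕ, V ^ q * L * (V ^ q)⁻¹ = L * M ^ q := by
  intro q
  induction q with
  | zero => simp
  | succ q ih =>
    calc V ^ (q + 1) * L * (V ^ (q + 1))⁻¹ = V * (V ^ q * L * (V ^ q)⁻¹) * V⁻¹ := by
          rw [pow_succ', mul_inv_rev]; group
      _ = (V * L * V⁻¹) * (V * M * V⁻¹) ^ q := by rw [ih, conj_pow]; group
      _ = L * M ^ (q + 1) := by rw [hL, hM, mul_assoc, pow_succ']

variable {X N L : Q}

theorem conj_X_pow (hXL : Commute X L) (hX : X * N * X⁻¹ = L⁻¹ * N) (hNL : Commute N L) (a : ℤ) (i : ℕ) :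
    X ^ i * N ^ a * (X ^ i)⁻¹ = N ^ a * L ^ (-((i : ℤ) * a)) := by
  have hXN : X * N ^ a * X⁻¹ = N ^ a * L ^ (-a) := by
    rw [← conj_zpow, hX, (hNL.symm.inv_left).mul_zpow, ((hNL.symm.inv_left).zpow_zpow a a).eq, inv_zpow']
  have hL' : X * L ^ (-a) * X⁻¹ = L ^ (-a) := by
    rw [(hXL.zpow_right (-a)).eq, mul_inv_cancel_right]
  rw [pow_conj_of_fix hL' hXN i, ← zpow_natCast, ← zpow_mul]
  ring_nf

theorem no_swap (hr : r.Prime) (hr2 : r ≠ 2) (hLr : L ^ r = 1) (hL1 : L ≠ 1) (hNr : N ^ r = 1)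
    (hNL : Commute N L) (hXL : Commute X L) (hX : X * N * X⁻¹ = L⁻¹ * N)
    (hind : ∀ a b : ℤ, N ^ a * L ^ b = 1 → (r : ℤ) ∣ a)
    (hfix : ∀ g : Q, g * L * g⁻¹ ∈ Subgroup.zpowers L → Commute g L)
    {W : Q} {a b c d : ℤ} (ha : ¬ (r : ℤ) ∣ a) (hWL : W * L * W⁻¹ = N ^ a * L ^ b)
    (hWN : W * N * W⁻¹ = N ^ c * L ^ d) : False := by
  obtain ⟨a', ha'⟩ := exists_inv_exp (Q := Q) hr ha
  have hz : ∀ {Y : Q}, Y ^ r = 1 → ∀ k : ℤ, (r : ℤ) ∣ k → Y ^ k = 1 := fun hY k ⟨m, hm⟩ => by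
    rw [hm, zpow_mul, zpow_natCast, hY, one_zpow]
  -- move the image of `L` onto the line of `N`
  obtain ⟨W', d', hWL', hWN'⟩ : ∃ (W' : Q) (d' : ℤ),
      W' * L * W'⁻¹ = N ^ a ∧ W' * N * W'⁻¹ = N ^ c * L ^ d' := by
    obtain ⟨i, hi⟩ : ∃ i : ℕ, L ^ (b + -((i : ℤ) * a)) = 1 := by
      have hb := (ha' (L ^ b) (by rw [← zpow_natCast, ← zpow_mul, mul_comm, zpow_mul, zpow_natCast, hLr, one_zpow])).1
      refine ⟨(b % r).toNat * a', ?_⟩
      have hbr : ((b % r).toNat : ℤ) = b % r := Int.toNat_of_nonneg (Int.emod_nonneg _ (by exact_mod_cast hr.ne_zero))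
      rw [← zpow_natCast, ← zpow_mul, ← zpow_mul] at hb
      rw [zpow_add, zpow_neg, mul_inv_eq_one, Nat.cast_mul, hbr]
      conv_lhs => rw [← hb]
      rw [show (b % r) * a' * a = b * (a * a') + (r : ℤ) * (-(b / r) * a * a') by
        have := Int.mul_ediv_add_emod b r; linear_combination (a * a' : ℤ) * this, zpow_add, zpow_mul L (r : ℤ),
        zpow_natCast, hLr, one_zpow, mul_one]
    refine ⟨X ^ i * W, d + -((i : ℤ) * c), ?_, ?_⟩
    · rw [mul_inv_rev, show X ^ i * W * L * (W⁻¹ * (X ^ i)⁻¹) = X ^ i * (W * L * W⁻¹) * (X ^ i)⁻¹ by group, hWL,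
        show X ^ i * (N ^ a * L ^ b) * (X ^ i)⁻¹ = (X ^ i * N ^ a * (X ^ i)⁻¹) * (X ^ i * L ^ b * (X ^ i)⁻¹) by group,
        conj_X_pow hXL hX hNL, ((hXL.pow_left i).zpow_right b).eq, mul_inv_cancel_right, mul_assoc, ← zpow_add,
        add_comm, hi, mul_one]
    · rw [mul_inv_rev, show X ^ i * W * N * (W⁻¹ * (X ^ i)⁻¹) = X ^ i * (W * N * W⁻¹) * (X ^ i)⁻¹ by group, hWN,
        show X ^ i * (N ^ c * L ^ d) * (X ^ i)⁻¹ = (X ^ i * N ^ c * (X ^ i)⁻¹) * (X ^ i * L ^ d * (X ^ i)⁻¹) by group,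
        conj_X_pow hXL hX hNL, ((hXL.pow_left i).zpow_right d).eq, mul_inv_cancel_right, mul_assoc, ← zpow_add,
        add_comm]
  clear hWL hWN
  have hd : ¬ (r : ℤ) ∣ d' := fun hdvd => ha (by
    rw [hz hLr d' hdvd, mul_one] at hWN'
    have h1 : W' * (N ^ (-a) * L ^ c) * W'⁻¹ = 1 := by
      rw [show W' * (N ^ (-a) * L ^ c) * W'⁻¹ = (W' * N ^ (-a) * W'⁻¹) * (W' * L ^ c * W'⁻¹) by group,
        ← conj_zpow, ← conj_zpow, hWN', hWL', ← zpow_mul, ← zpow_mul, ← zpow_add,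
        show c * -a + a * c = 0 by ring, zpow_zero]
    simpa using hind (-a) c (conj_eq_one_iff.1 h1))
  obtain ⟨e', he'⟩ := exists_inv_exp (Q := Q) hr hd
  -- `V` fixes `N` and moves `L` by a power of `N`
  set V := W' * X * W'⁻¹ with hV
  have hVa : V * N ^ a * V⁻¹ = N ^ a := by
    rw [← hWL', hV, show W' * X * W'⁻¹ * (W' * L * W'⁻¹) * (W' * X * W'⁻¹)⁻¹ = W' * (X * L * X⁻¹) * W'⁻¹ by group,
      hXL.eq, mul_inv_cancel_right]
  have hVN : V * N * V⁻¹ = N := by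
    conv_lhs => rw [← (ha' N hNr).1]
    rw [← conj_pow, hVa, (ha' N hNr).1]
  have hVd : V * L ^ d' * V⁻¹ = L ^ d' * N ^ (-a) := by
    have h1 : V * (N ^ c * L ^ d') * V⁻¹ = N ^ (-a) * (N ^ c * L ^ d') := by
      rw [← hWN', hV, show W' * X * W'⁻¹ * (W' * N * W'⁻¹) * (W' * X * W'⁻¹)⁻¹ = W' * (X * N * X⁻¹) * W'⁻¹ by group,
        hX, show W' * (L⁻¹ * N) * W'⁻¹ = (W' * L * W'⁻¹)⁻¹ * (W' * N * W'⁻¹) by group, hWL', zpow_neg]
    have h2 : V * N ^ c * V⁻¹ = N ^ c := by rw [← conj_zpow, hVN]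
    have h3 : N ^ c * (V * L ^ d' * V⁻¹) = N ^ c * (L ^ d' * N ^ (-a)) := by
      conv_lhs => rw [← h2]
      rw [show V * N ^ c * V⁻¹ * (V * L ^ d' * V⁻¹) = V * (N ^ c * L ^ d') * V⁻¹ by group, h1,
        ← (hNL.zpow_zpow (-a) d').eq, ← mul_assoc, ← mul_assoc, ← zpow_add, ← zpow_add, add_comm]
    exact mul_left_cancel h3
  have hVL : V * L * V⁻¹ = L * (N ^ (-a)) ^ e' := by
    conv_lhs => rw [← (he' L hLr).1]
    rw [← conj_pow, hVd, ((hNL.symm.zpow_zpow d' (-a))).mul_pow, (he' L hLr).1]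
  have he : ¬ (r : ℤ) ∣ -a * e' := by
    intro hdvd
    have h1 : (N ^ (-a)) ^ e' = 1 := by
      rw [← zpow_natCast, ← zpow_mul]; exact hz hNr _ hdvd
    have h2 : (N ^ (-a)) = 1 := by
      have := (he' (N ^ (-a)) (by rw [← zpow_natCast, ← zpow_mul, mul_comm, zpow_mul, zpow_natCast, hNr, one_zpow])).2
      rwa [h1, one_zpow, eq_comm] at this
    exact ha (by simpa using hind (-a) 0 (by rw [h2, zpow_zero, mul_one]))
  obtain ⟨q, hq⟩ := exists_inv_exp (Q := Q) hr he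
  set V' := V ^ q
  have hV'L : V' * L * V'⁻¹ = L * N := by
    rw [pow_conj_of_fix (M := (N ^ (-a)) ^ e') (by rw [← conj_pow, ← conj_zpow, hVN]) hVL q,
      ← zpow_natCast (N ^ (-a)) e', ← zpow_mul, (hq N hNr).1]
  have hV'N : V' * N * V'⁻¹ = N := by
    have := pow_conj_of_fix (V := V) (L := N) (M := 1) (by group) (by rw [hVN, mul_one]) q
    simpa using this
  -- the element exchanging the two lines
  set w := X * V' * X
  have hwL : w * L * w⁻¹ = N := by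
    rw [show w * L * w⁻¹ = X * (V' * (X * L * X⁻¹) * V'⁻¹) * X⁻¹ by simp only [w]; group, hXL.eq,
      mul_inv_cancel_right, hV'L, show X * (L * N) * X⁻¹ = (X * L * X⁻¹) * (X * N * X⁻¹) by group, hXL.eq,
      mul_inv_cancel_right, hX, mul_inv_cancel_left]
  have hwN : w * N * w⁻¹ = L⁻¹ := by
    rw [show w * N * w⁻¹ = X * (V' * (X * N * X⁻¹) * V'⁻¹) * X⁻¹ by simp only [w]; group, hX,
      show V' * (L⁻¹ * N) * V'⁻¹ = (V' * L * V'⁻¹)⁻¹ * (V' * N * V'⁻¹) by group, hV'L, hV'N,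
      show (L * N)⁻¹ * N = L⁻¹ by rw [mul_inv_rev, mul_assoc, ← hNL.inv_right.eq, inv_mul_cancel_left],
      hXL.inv_right.eq, mul_inv_cancel_right]
  have hw2 : (w * w) * L * (w * w)⁻¹ = L⁻¹ := by
    rw [show (w * w) * L * (w * w)⁻¹ = w * (w * L * w⁻¹) * w⁻¹ by group, hwL, hwN]
  have hc := hfix (w * w) (hw2 ▸ inv_mem (Subgroup.mem_zpowers L))
  rw [hc.eq, mul_inv_cancel_right] at hw2
  have h2 : L ^ 2 = 1 := by rw [pow_two]; exact eq_inv_iff_mul_eq_one.1 hw2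
  refine hL1 ?_
  have := pow_gcd_eq_one.2 ⟨hLr, h2⟩
  rwa [(Nat.coprime_primes hr Nat.prime_two).2 hr2, pow_one] at this

end Cfsg.Agent.MinNonCA
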