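import Cfsg.Agent.Lib.MinNonCA.OuterEnd
import Cfsg.Agent.Lib.MinNonCA.Transvection

/-!
# Minimal non-CA groups: a normal subgroup of prime index does not exist

Modulo the centre `R = ⟨N, L⟩` is a self-centralising Sylow `r`-subgroup of the image of `M`, centralised by
its normaliser there; the normal `r`-complement together with `x` and `l` is then a proper normal subgroup.
-/

set_option autoImplicit false
set_option linter.unusedSectionVars false
set_option linter.style.haveILetI false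

namespace Cfsg.Agent.MinNonCA

open Subgroup
open scoped commutatorElement

variable {G : Type*} [Group G]

theorem mk_commute_of {a b : G} (h : Commute a b) :
    Commute (a : G ⧸ center G) (b : G ⧸ center G) := by
  show (a : G ⧸ center G) * b = b * a
  rw [← QuotientGroup.mk_mul, ← QuotientGroup.mk_mul, h.eq]

/-- If two powers of an element with coprime exponents commute with `l`, so does the element. -/
theorem commute_of_coprime_pow {g l : G} {a b : ℤ} (hab : IsCoprime a b) (ha : Commute (g ^ a) l)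
    (hb : Commute (g ^ b) l) : Commute g l := by
  obtain ⟨u, v, huv⟩ := hab
  have h1 := ((ha.zpow_left u).mul_left (hb.zpow_left v))
  rwa [← zpow_mul, ← zpow_mul, ← zpow_add, show a * u + b * v = 1 by linear_combination huv, zpow_one] at h1

namespace Hyp

variable [Finite G] (h : Hyp G) {M : Subgroup G} [hMn : M.Normal] {r : ℕ} [hr : Fact r.Prime]
  (hMr : M.index = r) {x : G} (hx : Good r x)

include h hMr hx

theorem exists_chosen : ∃ l n, l ∈ M ∧ l ∉ center G ∧ l ^ r = 1 ∧ Commute x l ∧ n ∈ M ∧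
    ¬ Commute n l ∧ Commute l (n * l * n⁻¹) ∧ n ^ r ∈ center G ∧ n * x * n⁻¹ = x * l ∧ r ≠ 2 := by
  classical
  obtain ⟨l, n₀, hl, hlc, hlr, hxl, hn₀, hne₀, hnl₀⟩ := exists_config h hMr hx
  obtain ⟨e, he⟩ := prime_pow h hMr hx hl hlc hlr hxl hn₀ hnl₀
  set k := ordCompl[r] (orderOf n₀)
  set v := (orderOf n₀).factorization r
  have hkc : Nat.Coprime k (r ^ e) :=
    ((Nat.coprime_ordCompl hr.out (orderOf_pos n₀).ne').symm).pow_right e
  have hv : (n₀ ^ k) ^ (r ^ v) = 1 := by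
    rw [← pow_mul, mul_comm]
    show n₀ ^ (ordProj[r] (orderOf n₀) * ordCompl[r] (orderOf n₀)) = 1
    rw [Nat.ordProj_mul_ordCompl_eq_self, pow_orderOf_eq_one]
  have hne₁ : ¬ Commute (n₀ ^ k) l := fun hc => hne₀ <|
    commute_of_coprime_pow (Nat.isCoprime_iff_coprime.2 hkc)
      (by rwa [zpow_natCast]) (by rwa [zpow_natCast])
  set n₁ := n₀ ^ k
  have hex : ∃ j, Commute (n₁ ^ (r ^ j)) l := ⟨v, hv ▸ Commute.one_left l⟩
  obtain ⟨j, hj⟩ : ∃ j, Nat.find hex = j + 1 := Nat.exists_eq_succ_of_ne_zero fun e => hne₁ (by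
    have := Nat.find_spec hex
    rwa [e, pow_zero, pow_one] at this)
  set n := n₁ ^ (r ^ j)
  have hn : n ∈ M := pow_mem (pow_mem hn₀ k) _
  have hne : ¬ Commute n l := Nat.find_min hex (by omega)
  have hnl : Commute l (n * l * n⁻¹) := by
    simp only [n, n₁, ← pow_mul]
    exact norm_pow h hMr hl hlc hn₀ hnl₀ _
  have hnr : Commute (n ^ r) l := by
    have := Nat.find_spec hex
    rw [hj, pow_succ, pow_mul] at this
    exact this
  have hnv : (n ^ r) ^ (r ^ v) = 1 := by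
    simp only [n, ← pow_mul]
    rw [show r ^ j * r * r ^ v = r ^ v * (r ^ j * r) by ring, pow_mul, hv, one_pow]
  set c := x⁻¹ * (n * x * n⁻¹) with hc
  have hxy : Commute x (n * x * n⁻¹) := ab h hMr hl hlc hxl.symm (norm_conj h hMr hl hlc hn hnl hxl.symm)
  have hlc' : Commute l c := hxl.symm.inv_right.mul_right (norm_conj h hMr hl hlc hn hnl hxl.symm)
  have hcM : c ∈ M := by
    rw [hc, show x⁻¹ * (n * x * n⁻¹) = (x⁻¹ * n * x) * n⁻¹ by group]
    exact mul_mem (by simpa using hMn.conj_mem n hn x⁻¹) (inv_mem hn)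
  have hcr : c ^ r = 1 := by
    rw [hc, hxy.inv_left.mul_pow, conj_pow, inv_pow, (commute_center hx.2 n).eq, mul_inv_cancel_right,
      inv_mul_cancel]
  have hxc : Commute x c := (Commute.refl x).inv_right.mul_right hxy
  have hcc : c ∉ center G := fun hcz => hne <| by
    have hCn : Cn (n * x * n⁻¹) = Cn x := by
      ext v
      rw [mem_Cn, mem_Cn, show n * x * n⁻¹ = x * c by rw [hc]; group]
      refine ⟨fun e => ?_, fun e => e.mul_left (center_commute hcz v)⟩
      have := e.mul_left (center_commute (inv_mem hcz) v)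
      rwa [mul_inv_cancel_right] at this
    exact sN_of_pow h hMr hx hl hlc hlr hxl n hn (mem_Cn.1 (h.mem_Cn_of_conj hx.1 hCn)) hnl
  have hr2 : r ≠ 2 := r_odd h hMr hx hl hlc hlr hxl hn hne hnl hnr (by rw [hc]; group) hcM hlc' hcc hcr
  obtain ⟨i, z, hz, hi⟩ := rpow h hMr hx hl hlc hlr hxl hn hne hnr hr2 hnl v (pow_mem hn r) hnr.symm
    (hnv ▸ one_mem _)
  have hnn : n ^ r ∈ center G := by
    rw [hi]
    refine mul_mem ?_ hz
    by_contra hli
    refine hne (trans h hMr (pow_mem hl i) hli ((Commute.refl l).pow_left i) ?_).symm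
    have := ((Commute.refl n).pow_left r).mul_left (center_commute (inv_mem hz) n)
    rwa [hi, mul_inv_cancel_right] at this
  refine ⟨c, n, hcM, hcc, hcr, hxc, hn, fun e => hne (trans h hMr hcM hcc hlc'.symm e.symm).symm, ?_,
    hnn, by rw [hc]; group, hr2⟩
  exact ab h hMr hl hlc hlc' (norm_conj h hMr hl hlc hn hnl hlc')

theorem false_of_good : False := by
  classical
  obtain ⟨l, n, hl, hlc, hlr, hxl, hn, hne, hnl, hnn, hnx, hr2⟩ := exists_chosen h hMr hx
  have hnr : Commute (n ^ r) l := center_commute hnn l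
  have hri : ∀ a : ℤ, Commute (n ^ a) l → (r : ℤ) ∣ a := fun a hc => by
    by_contra hra
    exact hne <| commute_of_coprime_pow
      ((Prime.coprime_iff_not_dvd (Nat.prime_iff_prime_int.1 hr.out)).2 hra).symm hc (by rwa [zpow_natCast])
  set π := QuotientGroup.mk' (center G) with hπ
  set X : G ⧸ center G := (x : G ⧸ center G)
  set L : G ⧸ center G := (l : G ⧸ center G)
  set N : G ⧸ center G := (n : G ⧸ center G)
  have hLr : L ^ r = 1 := by rw [← QuotientGroup.mk_pow, hlr, QuotientGroup.mk_one]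
  have hNr : N ^ r = 1 := (QuotientGroup.eq_one_iff (n ^ r)).2 hnn
  have hL1 : L ≠ 1 := fun e => hlc ((QuotientGroup.eq_one_iff l).1 e)
  have hLo : orderOf L = r := orderOf_eq_prime hLr hL1
  have hXL : Commute X L := mk_commute_of hxl
  have hNLN : N * L * N⁻¹ = L := conj_l h hMr hx hl hlc hlr hxl hr2 hn hnl
  have hNL : Commute N L := mul_inv_eq_iff_eq_mul.1 hNLN
  have hNX : N * X * N⁻¹ = X * L := congrArg (fun v : G => (v : G ⧸ center G)) hnx
  have hX : X * N * X⁻¹ = L⁻¹ * N := by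
    have e : N * X = X * L * N := by rw [← hNX, inv_mul_cancel_right]
    rw [hXL.eq, mul_assoc] at e
    rw [eq_inv_mul_iff_mul_eq, ← mul_assoc, eq_comm, eq_mul_inv_iff_mul_eq]
    exact e
  -- a lift commuting with `l` in front of a power of `N`
  have hpow : ∀ (a b : ℤ) (g : G), (g : G ⧸ center G) = N ^ a * L ^ b → Commute g l → (r : ℤ) ∣ a := by
    intro a b g hg hgl
    refine hri a ?_
    have hz : (n ^ a * l ^ b)⁻¹ * g ∈ center G := by
      rw [← QuotientGroup.eq]; exact hg.symm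
    rw [show n ^ a = g * ((n ^ a * l ^ b)⁻¹ * g)⁻¹ * (l ^ b)⁻¹ by group]
    exact (hgl.mul_left (center_commute (inv_mem hz) l)).mul_left (((Commute.refl l).zpow_left b).inv_left)
  have hind : ∀ a b : ℤ, N ^ a * L ^ b = 1 → (r : ℤ) ∣ a := fun a b e =>
    hpow a b 1 e.symm (Commute.one_left l)
  have hnorm : ∀ m ∈ M, (m : G ⧸ center G) * L * (m : G ⧸ center G)⁻¹ ∈ zpowers L →
      Commute l (m * l * m⁻¹) := fun m _ hm => by
    obtain ⟨i, hi⟩ := hm
    have hz : (l ^ i)⁻¹ * (m * l * m⁻¹) ∈ center G := by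
      rw [← QuotientGroup.eq]; exact hi
    rw [show m * l * m⁻¹ = l ^ i * ((l ^ i)⁻¹ * (m * l * m⁻¹)) by group]
    exact ((Commute.refl l).zpow_right i).mul_right (commute_center hz l)
  have hfix : ∀ g : G ⧸ center G, g * L * g⁻¹ ∈ zpowers L → Commute g L := by
    intro g hg
    obtain ⟨g, rfl⟩ := QuotientGroup.mk_surjective g
    obtain ⟨m, hm, i, rfl⟩ := exists_pow_mul h hMr (x_not_mem h hMr hx) g
    rw [QuotientGroup.mk_mul, QuotientGroup.mk_pow] at hg ⊢
    rw [show (m : G ⧸ center G) * X ^ i * L * ((m : G ⧸ center G) * X ^ i)⁻¹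
      = (m : G ⧸ center G) * (X ^ i * L * (X ^ i)⁻¹) * (m : G ⧸ center G)⁻¹ by group,
      (hXL.pow_left i).eq, mul_inv_cancel_right] at hg
    exact Commute.mul_left (mul_inv_eq_iff_eq_mul.1 (conj_l h hMr hx hl hlc hlr hxl hr2 hm (hnorm m hm hg)))
      (hXL.pow_left i)
  -- `R = ⟨N, L⟩`
  let R : Subgroup (G ⧸ center G) :=
    { carrier := {g | ∃ a b : ℤ, g = N ^ a * L ^ b}
      one_mem' := ⟨0, 0, by simp⟩
      mul_mem' := by
        rintro _ _ ⟨a, b, rfl⟩ ⟨c, d, rfl⟩
        exact ⟨a + c, b + d, by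
          rw [zpow_add, zpow_add, mul_assoc, ← mul_assoc (L ^ b), (hNL.symm.zpow_zpow b c).eq]
          simp only [mul_assoc]⟩
      inv_mem' := by
        rintro _ ⟨a, b, rfl⟩
        exact ⟨-a, -b, by rw [zpow_neg, zpow_neg, mul_inv_rev, ((hNL.zpow_zpow a b).inv_inv).eq]⟩ }
  have hNR : N ∈ R := ⟨1, 0, by simp⟩
  have hLR : L ∈ R := ⟨0, 1, by simp⟩
  have hRr : ∀ g ∈ R, g ^ r = 1 := by
    rintro _ ⟨a, b, rfl⟩
    rw [(hNL.zpow_zpow a b).mul_pow, ← zpow_natCast, ← zpow_natCast, ← zpow_mul, ← zpow_mul, mul_comm a,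
      mul_comm b, zpow_mul, zpow_mul, zpow_natCast, zpow_natCast, hNr, hLr, one_zpow, one_zpow, one_mul]
  -- decomposition of the normaliser of `R` in the image of `M`
  have hdec : ∀ g ∈ M.map π, g ∈ normalizer (R : Set (G ⧸ center G)) → ∃ (i : ℕ) (b : G),
      b ∈ M ∧ Commute l b ∧ g = N ^ i * (b : G ⧸ center G) ∧ Commute g N ∧ Commute g L := by
    rintro _ ⟨m, hm, rfl⟩ hnR
    change (m : G ⧸ center G) ∈ _ at hnR
    obtain ⟨a, b, hab⟩ : ∃ a b : ℤ, (m : G ⧸ center G) * L * (m : G ⧸ center G)⁻¹ = N ^ a * L ^ b :=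
      (mem_normalizer_iff.1 hnR L).1 hLR
    obtain ⟨a₁, b₁, hab₁⟩ : ∃ a b : ℤ, (m : G ⧸ center G) * N * (m : G ⧸ center G)⁻¹ = N ^ a * L ^ b :=
      (mem_normalizer_iff.1 hnR N).1 hNR
    have ha : (r : ℤ) ∣ a := by_contra fun ha =>
      no_swap hr.out hr2 hLr hL1 hNr hNL hXL hX hind hfix ha hab hab₁
    have hmL : (m : G ⧸ center G) * L * (m : G ⧸ center G)⁻¹ ∈ zpowers L := by
      obtain ⟨k, rfl⟩ := ha
      rw [zpow_mul, zpow_natCast, hNr, one_zpow, one_mul] at hab
      exact hab ▸ zpow_mem (mem_zpowers L) b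
    have hml := hnorm m hm hmL
    set c := x⁻¹ * (m * x * m⁻¹) with hc
    have hxy : Commute x (m * x * m⁻¹) := ab h hMr hl hlc hxl.symm (norm_conj h hMr hl hlc hm hml hxl.symm)
    have hcM : c ∈ M := by
      rw [hc, show x⁻¹ * (m * x * m⁻¹) = (x⁻¹ * m * x) * m⁻¹ by group]
      exact mul_mem (by simpa using hMn.conj_mem m hm x⁻¹) (inv_mem hm)
    have hcr : c ^ r = 1 := by
      rw [hc, hxy.inv_left.mul_pow, conj_pow, inv_pow, (commute_center hx.2 m).eq, mul_inv_cancel_right,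
        inv_mul_cancel]
    obtain ⟨i, z, hz, hci⟩ := omega h hMr hx hl hlc hlr hxl hcM
      (hxl.symm.inv_right.mul_right (norm_conj h hMr hl hlc hm hml hxl.symm)) (hcr ▸ one_mem _) hr2
    set u := (n ^ i)⁻¹ * m with hu
    have huM : u ∈ M := mul_mem (inv_mem (pow_mem hn i)) hm
    have hmX : (m : G ⧸ center G) * X * (m : G ⧸ center G)⁻¹ = X * L ^ i := by
      have := congrArg (fun v : G => (v : G ⧸ center G)) (show m * x * m⁻¹ = x * (l ^ i * z) by
        rw [← hci, hc]; group)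
      simpa [X, L, (QuotientGroup.eq_one_iff z).2 hz] using this
    have huX : (u : G ⧸ center G) * X * (u : G ⧸ center G)⁻¹ = X := by
      rw [show (u : G ⧸ center G) = (N ^ i)⁻¹ * (m : G ⧸ center G) from rfl,
        show (N ^ i)⁻¹ * (m : G ⧸ center G) * X * ((N ^ i)⁻¹ * (m : G ⧸ center G))⁻¹
          = (N ^ i)⁻¹ * ((m : G ⧸ center G) * X * (m : G ⧸ center G)⁻¹) * N ^ i by group,
        hmX, ← pow_conj_of_fix hNLN hNX i]
      group
    have hxu : Commute x u := by
      refine mem_Cn.1 (h.mem_Cn_of_conj hx.1 ?_)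
      have hz' : x⁻¹ * (u * x * u⁻¹) ∈ center G := by
        rw [← QuotientGroup.eq]; exact huX.symm
      ext v
      rw [mem_Cn, mem_Cn]
      constructor <;> intro e
      · have := e.mul_left (center_commute (inv_mem hz') v)
        rwa [show u * x * u⁻¹ * (x⁻¹ * (u * x * u⁻¹))⁻¹ = x by group] at this
      · rw [show u * x * u⁻¹ = x * (x⁻¹ * (u * x * u⁻¹)) by group]
        exact e.mul_left (center_commute hz' v)
    have hul : Commute u l := by
      refine sN_of_pow h hMr hx hl hlc hlr hxl u huM hxu ?_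
      have hn' : Commute l ((n ^ i)⁻¹ * l * (n ^ i)⁻¹⁻¹) := by
        rw [← commute_conj_iff (g := n ^ i)]
        simpa [mul_assoc] using (norm_pow h hMr hl hlc hn hnl i).symm
      have := norm_conj h hMr hl hlc (inv_mem (pow_mem hn i)) hn' hml
      simpa [hu, mul_assoc] using this
    set U : G ⧸ center G := (u : G ⧸ center G)
    have hUL : Commute U L := mk_commute_of hul
    have hgU : (m : G ⧸ center G) = N ^ i * U := by
      show (m : G ⧸ center G) = N ^ i * ((N ^ i)⁻¹ * (m : G ⧸ center G))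
      rw [mul_inv_cancel_left]
    obtain ⟨c', d, hcd⟩ : ∃ a b : ℤ, U * N * U⁻¹ = N ^ a * L ^ b := by
      refine (mem_normalizer_iff.1 ?_ N).1 hNR
      show (N ^ i)⁻¹ * (m : G ⧸ center G) ∈ normalizer (R : Set (G ⧸ center G))
      exact mul_mem (inv_mem (pow_mem (le_normalizer hNR) i)) hnR
    have hc'1 : (r : ℤ) ∣ c' - 1 := by
      refine hpow (c' - 1) d (u * n * u⁻¹ * n⁻¹) ?_ ?_
      · show U * N * U⁻¹ * N⁻¹ = _
        rw [hcd, zpow_sub_one, mul_assoc, mul_assoc, ((hNL.inv_left.zpow_right d).symm).eq]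
      · have h1 : Commute l (n * u⁻¹ * n⁻¹) := norm_conj h hMr hl hlc hn hnl hul.symm.inv_right
        rw [show u * n * u⁻¹ * n⁻¹ = u * (n * u⁻¹ * n⁻¹) by group]
        exact hul.mul_left h1.symm
    have hUN : U * N * U⁻¹ = N * L ^ d := by
      obtain ⟨k, hk⟩ := hc'1
      rw [hcd, show c' = (r : ℤ) * k + 1 by omega, zpow_add, zpow_mul, zpow_natCast, hNr, one_zpow, one_mul,
        zpow_one]
    set k := ordCompl[r] (orderOf u)
    set v := (orderOf u).factorization r
    have huv : (u ^ k) ^ (r ^ v) = 1 := by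
      rw [← pow_mul, mul_comm]
      show u ^ (ordProj[r] (orderOf u) * ordCompl[r] (orderOf u)) = 1
      rw [Nat.ordProj_mul_ordCompl_eq_self, pow_orderOf_eq_one]
    obtain ⟨j, z', hz', hj⟩ := rpow h hMr hx hl hlc hlr hxl hn hne hnr hr2 hnl v (pow_mem huM k)
      (hul.pow_left k).symm (huv ▸ one_mem _)
    have hUk : U ^ k = L ^ j := by
      rw [← QuotientGroup.mk_pow, hj, QuotientGroup.mk_mul, (QuotientGroup.eq_one_iff z').2 hz', mul_one,
        QuotientGroup.mk_pow]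
    have hfixL : U * L ^ d * U⁻¹ = L ^ d := by rw [(hUL.zpow_right d).eq, mul_inv_cancel_right]
    have hLd : L ^ d = 1 := by
      have e := pow_conj_of_fix hfixL hUN k
      rw [hUk, (hNL.symm.pow_left j).eq, mul_inv_cancel_right] at e
      have h2 : L ^ (d * k) = 1 := by rw [zpow_mul, zpow_natCast]; exact mul_eq_left.1 e.symm
      rw [← orderOf_dvd_iff_zpow_eq_one, hLo] at h2 ⊢
      rcases (Nat.prime_iff_prime_int.1 hr.out).dvd_or_dvd h2 with h3 | h3
      · exact h3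
      · exact absurd (Int.natCast_dvd_natCast.1 h3)
          ((hr.out.coprime_iff_not_dvd).1 (Nat.coprime_ordCompl hr.out (orderOf_pos u).ne'))
    have hUN' : Commute U N := by
      rw [hLd, mul_one] at hUN
      exact mul_inv_eq_iff_eq_mul.1 hUN
    refine ⟨i, u, huM, hul.symm, hgU, ?_, ?_⟩ <;> rw [show π m = N ^ i * U from hgU]
    · exact ((Commute.refl N).pow_left i).mul_left hUN'
    · exact (hNL.pow_left i).mul_left hUL
  -- `R` is a Sylow subgroup of the image of `M`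
  set Mq := M.map π
  have hRM : R ≤ Mq := by
    rintro _ ⟨a, b, rfl⟩
    exact mul_mem (zpow_mem (mem_map_of_mem π hn) a) (zpow_mem (mem_map_of_mem π hl) b)
  set R' := R.subgroupOf Mq
  have hR'p : IsPGroup r R' := fun g => ⟨1, Subtype.ext (Subtype.ext (by
    simpa using hRr _ g.2))⟩
  obtain ⟨P, hP⟩ := hR'p.exists_le_sylow
  have hPR : (P : Subgroup Mq) = R' := by
    refine le_antisymm ?_ hP
    by_contra hcon
    haveI := P.2.isNilpotent
    have hlt : (R'.subgroupOf (P : Subgroup Mq)) < ⊤ := lt_top_iff_ne_top.2 fun e => hcon (subgroupOf_eq_top.1 e)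
    obtain ⟨p, hp1, hp2⟩ := SetLike.exists_of_lt (Group.normalizerCondition_of_isNilpotent _ hlt)
    have hgR : ((p : Mq) : G ⧸ center G) ∈ normalizer (R : Set (G ⧸ center G)) := by
      refine mem_normalizer_iff.2 fun q => ?_
      constructor
      · intro hq
        exact (mem_normalizer_iff.1 hp1 ⟨⟨q, hRM hq⟩, hP hq⟩).1 hq
      · intro hq
        have hqM : q ∈ Mq := by
          simpa [mul_assoc] using mul_mem (mul_mem (inv_mem (p : Mq).2) (hRM hq)) (p : Mq).2
        have hqP : (p : Mq) * ⟨q, hqM⟩ * (p : Mq)⁻¹ ∈ (P : Subgroup Mq) := hP hq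
        have hqP' : (⟨q, hqM⟩ : Mq) ∈ (P : Subgroup Mq) := by
          simpa [mul_assoc] using mul_mem (mul_mem (inv_mem p.2) hqP) p.2
        exact (mem_normalizer_iff.1 hp1 ⟨⟨q, hqM⟩, hqP'⟩).2 hq
    obtain ⟨i, b, hb, hlb, hg, hgN, -⟩ := hdec _ (p : Mq).2 hgR
    obtain ⟨e, he⟩ := P.2 p
    have hge : ((p : Mq) : G ⧸ center G) ^ (r ^ (e + 1)) = 1 := by
      rw [pow_succ, pow_mul, show ((p : Mq) : G ⧸ center G) ^ r ^ e = 1 from
        congrArg (fun v : (P : Subgroup Mq) => ((v : Mq) : G ⧸ center G)) he, one_pow]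
    have hbB : (b : G ⧸ center G) = (N ^ i)⁻¹ * ((p : Mq) : G ⧸ center G) := by
      rw [hg, inv_mul_cancel_left]
    have hbe : b ^ (r ^ (e + 1)) ∈ center G := by
      rw [← QuotientGroup.eq_one_iff, QuotientGroup.mk_pow, hbB, ((hgN.symm.pow_left i).inv_left).mul_pow, hge,
        mul_one, inv_pow, ← pow_mul, mul_comm i, pow_succ', mul_assoc, pow_mul, hNr, one_pow, inv_one]
    obtain ⟨j, z, hz, hbj⟩ := rpow h hMr hx hl hlc hlr hxl hn hne hnr hr2 hnl (e + 1) hb hlb hbe
    refine hp2 (show ((p : Mq) : G ⧸ center G) ∈ R from ⟨i, j, ?_⟩)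
    rw [hg, hbj, QuotientGroup.mk_mul, (QuotientGroup.eq_one_iff z).2 hz, mul_one, zpow_natCast, zpow_natCast,
      QuotientGroup.mk_pow]
  have hNC : normalizer ((P : Subgroup Mq) : Set Mq) ≤ centralizer ((P : Subgroup Mq) : Set Mq) := by
    intro g hg
    have hgR : (g : G ⧸ center G) ∈ normalizer (R : Set (G ⧸ center G)) := by
      rw [hPR] at hg
      refine mem_normalizer_iff.2 fun q => ⟨fun hq => (mem_normalizer_iff.1 hg ⟨q, hRM hq⟩).1 hq, fun hq => ?_⟩
      have hqM : q ∈ Mq := by simpa [mul_assoc] using mul_mem (mul_mem (inv_mem g.2) (hRM hq)) g.2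
      exact (mem_normalizer_iff.1 hg ⟨q, hqM⟩).2 hq
    obtain ⟨i, b, -, -, -, hgN, hgL⟩ := hdec _ g.2 hgR
    refine mem_centralizer_iff.2 fun q hq => Subtype.ext ?_
    rw [hPR] at hq
    obtain ⟨a, c, e⟩ := (hq : (q : G ⧸ center G) ∈ R)
    show (q : G ⧸ center G) * g = g * q
    rw [show (q : G ⧸ center G) = N ^ a * L ^ c from e]
    exact (((hgN.symm.zpow_left a).mul_left (hgL.symm.zpow_left c))).eq
  set Y := (MonoidHom.transferSylow P hNC).ker
  have hc : IsComplement' Y P := MonoidHom.ker_transferSylow_isComplement' P hNC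
  haveI hMq : Mq.Normal := Subgroup.Normal.map hMn π (QuotientGroup.mk'_surjective _)
  set Yq := Y.map Mq.subtype
  haveI hYq : Yq.Normal := by
    refine ⟨?_⟩
    rintro _ ⟨y, hy, rfl⟩ g
    set v : Mq := ⟨g * y * g⁻¹, hMq.conj_mem _ y.2 g⟩
    refine ⟨v, ?_, rfl⟩
    show v ∈ Y
    rw [← QuotientGroup.eq_one_iff (N := Y), ← orderOf_eq_one_iff]
    have h1 : orderOf (v : Mq ⧸ Y) ∣ Nat.card (P : Subgroup Mq) := by
      rw [← hc.symm.index_eq_card, index_eq_card]; exact orderOf_dvd_natCard _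
    have h2 : orderOf (v : Mq ⧸ Y) ∣ (P : Subgroup Mq).index := by
      refine (orderOf_map_dvd (QuotientGroup.mk' Y) v).trans (orderOf_dvd_of_pow_eq_one (Subtype.ext ?_))
      rw [hc.index_eq_card]
      show (g * (y : G ⧸ center G) * g⁻¹) ^ Nat.card Y = 1
      rw [conj_pow, show (y : G ⧸ center G) ^ Nat.card Y = 1 from congrArg Subtype.val
        (congrArg Subtype.val (pow_card_eq_one' (x := (⟨y, hy⟩ : Y))) : _), mul_one, mul_inv_cancel]
    exact Nat.dvd_one.1 (P.card_coprime_index ▸ Nat.dvd_gcd h1 h2)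
  have hMqdec : ∀ g ∈ Mq, ∃ y ∈ Yq, ∃ s ∈ R, g = y * s := fun g hg => by
    obtain ⟨⟨y, s⟩, hys⟩ := hc.surjective ⟨g, hg⟩
    exact ⟨_, mem_map_of_mem _ y.2, ((s : Mq) : G ⧸ center G),
      (by have hs : (s : Mq) ∈ R' := hPR ▸ s.2; exact hs), (congrArg Subtype.val hys).symm⟩
  have hXq : ∀ i : ℤ, X ^ i ∈ Mq → (r : ℤ) ∣ i := by
    intro i hi
    obtain ⟨m, hm, hmi⟩ := hi
    have hz : m⁻¹ * x ^ i ∈ center G := by rw [← QuotientGroup.eq]; exact hmi
    have hxi : (x : G ⧸ M) ^ i = 1 := by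
      rw [← QuotientGroup.mk_zpow]
      exact (QuotientGroup.eq_one_iff _).2 (by simpa using mul_mem hm (zle h hMr hx hz))
    rw [← orderOf_dvd_iff_zpow_eq_one, orderOf_eq_prime (p := r) ?_ fun e => x_not_mem h hMr hx
      ((QuotientGroup.eq_one_iff x).1 e)] at hxi
    · exact hxi
    · rw [← QuotientGroup.mk_pow]; exact (QuotientGroup.eq_one_iff _).2 (pow_mem_M h hMr x)
  let E : Subgroup (G ⧸ center G) :=
    { carrier := {g | ∃ i j : ℤ, g = X ^ i * L ^ j}
      one_mem' := ⟨0, 0, by simp⟩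
      mul_mem' := by
        rintro _ _ ⟨a, b, rfl⟩ ⟨c, d, rfl⟩
        exact ⟨a + c, b + d, by
          rw [zpow_add, zpow_add, mul_assoc, ← mul_assoc (L ^ b), (hXL.symm.zpow_zpow b c).eq]
          simp only [mul_assoc]⟩
      inv_mem' := by
        rintro _ ⟨a, b, rfl⟩
        exact ⟨-a, -b, by rw [zpow_neg, zpow_neg, mul_inv_rev, ((hXL.zpow_zpow a b).inv_inv).eq]⟩ }
  set H := Yq ⊔ E
  have hXH : X ∈ H := mem_sup_right ⟨1, 0, by simp⟩
  have hLH : L ∈ H := mem_sup_right ⟨0, 1, by simp⟩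
  have hNH : N ∈ normalizer (H : Set (G ⧸ center G)) := by
    rw [mem_normalizer_iff_map_conj_eq]
    refine eq_of_le_of_card_ge ?_ (le_of_eq (card_map_of_injective (MulAut.conj N).injective).symm)
    rw [Subgroup.map_le_iff_le_comap]
    refine sup_le (fun y hy => mem_sup_left (hYq.conj_mem y hy N)) ?_
    rintro _ ⟨i, j, rfl⟩
    show N * (X ^ i * L ^ j) * N⁻¹ ∈ H
    rw [show N * (X ^ i * L ^ j) * N⁻¹ = (N * X ^ i * N⁻¹) * (N * L ^ j * N⁻¹) by group, ← conj_zpow,
      ← conj_zpow, hNX, hNLN]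
    exact mul_mem (zpow_mem (mul_mem hXH hLH) i) (zpow_mem hLH j)
  haveI hHn : H.Normal := normalizer_eq_top_iff.1 (eq_top_iff.2 fun g _ => by
    obtain ⟨g, rfl⟩ := QuotientGroup.mk_surjective g
    obtain ⟨m, hm, i, rfl⟩ := exists_pow_mul h hMr (x_not_mem h hMr hx) g
    obtain ⟨y, hy, s, ⟨a, b, rfl⟩, hys⟩ := hMqdec _ (mem_map_of_mem π hm)
    rw [QuotientGroup.mk_mul, QuotientGroup.mk_pow, show (m : G ⧸ center G) = y * (N ^ a * L ^ b) from hys]
    exact mul_mem (mul_mem (le_normalizer (mem_sup_left hy)) (mul_mem (zpow_mem hNH a)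
      (zpow_mem (le_normalizer hLH) b))) (pow_mem (le_normalizer hXH) i))
  have htop := h.eq_top_of_mem hx.1 (N := H.comap π) hXH
  have hNmem : N ∈ H := (htop ▸ mem_top n : n ∈ H.comap π)
  obtain ⟨y, hy, e, ⟨i, j, rfl⟩, hye⟩ := mem_sup_of_normal_left.1 hNmem
  have hyM : y ∈ Mq := map_subtype_le _ hy
  have hri' : (r : ℤ) ∣ i := hXq i (by
    have : X ^ i = y⁻¹ * N * (L ^ j)⁻¹ := by rw [← hye]; group
    rw [this]
    exact mul_mem (mul_mem (inv_mem hyM) (mem_map_of_mem π hn)) (inv_mem (zpow_mem (mem_map_of_mem π hl) j)))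
  obtain ⟨k, rfl⟩ := hri'
  rw [zpow_mul, zpow_natCast, show X ^ r = 1 from (QuotientGroup.eq_one_iff (x ^ r)).2 hx.2, one_zpow,
    one_mul] at hye
  have hyR : y ∈ R := by
    rw [eq_mul_inv_of_mul_eq hye]
    exact mul_mem hNR (inv_mem (zpow_mem hLR j))
  obtain ⟨y', hy', rfl⟩ := hy
  have hy1 : y' = 1 := disjoint_def.1 hc.disjoint hy' (hPR ▸ (hyR : y' ∈ R'))
  subst hy1
  rw [map_one, one_mul] at hye
  have := hind 1 (-j) (by rw [zpow_one, zpow_neg, ← hye, mul_inv_cancel])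
  exact hr.out.one_lt.ne' (Nat.dvd_one.1 (Int.natCast_dvd_natCast.1 (by simpa using this)))

end Hyp

end Cfsg.Agent.MinNonCA
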