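import Cfsg.Agent.Lib.MinNonCA.OuterFinal
import Cfsg.Agent.Lib.ZStar.Main
import Cfsg.Agent.Lib.ZStar.Consumers

/-!
# Minimal non-CA groups are quasisimple, and Sylow 2-centres are central when the Sylow 2-subgroup is not abelian
-/

set_option autoImplicit false
set_option linter.unusedSectionVars false
set_option linter.style.haveILetI false

namespace Cfsg.Agent.MinNonCA

open Subgroup
open scoped commutatorElement

variable {G : Type*} [Group G] [Finite G]

/-- A `p`-element commuting with a Sylow `p`-subgroup lies in it. -/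
theorem mem_sylow_of_normalizing {p : ℕ} [Fact p.Prime] (T : Sylow p G) {y : G}
    (hy : IsPGroup p (zpowers y)) (hn : y ∈ normalizer ((T : Subgroup G) : Set G)) : y ∈ (T : Subgroup G) := by
  have hsup : IsPGroup p (zpowers y ⊔ (T : Subgroup G) : Subgroup G) :=
    hy.to_sup_of_normal_right' T.2 (zpowers_le.2 hn)
  exact (T.3 hsup le_sup_right).le (mem_sup_left (mem_zpowers y))

/-- A minimal non-CA group that is not solvable. -/
structure MNC (G : Type*) [Group G] : Prop extends Hyp G where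
  exists_bad : ∃ x : G, Bad x

namespace MNC

variable (m : MNC G)

include m

theorem isPerfect : commutator G = ⊤ := by
  by_contra hne
  haveI : Nontrivial (G ⧸ commutator G) := by
    rw [QuotientGroup.nontrivial_iff]; exact hne
  obtain ⟨r, hr, hdvd⟩ := Nat.exists_prime_and_dvd
    (Finite.one_lt_card (α := G ⧸ commutator G)).ne'
  obtain ⟨M, hM, hle⟩ := (eq_top_or_exists_le_coatom (commutator G)).resolve_left hne
  haveI : M.Normal := ⟨fun u hu g => by
    have h1 : g * u * g⁻¹ * u⁻¹ ∈ M := hle (by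
      rw [commutator_def, ← commutatorElement_def]
      exact commutator_mem_commutator (mem_top g) (mem_top u))
    simpa using mul_mem h1 hu⟩
  haveI : Nontrivial (G ⧸ M) := by rw [QuotientGroup.nontrivial_iff]; exact hM.1
  obtain ⟨q, hq, hqd⟩ := Nat.exists_prime_and_dvd (Finite.one_lt_card (α := G ⧸ M)).ne'
  haveI := Fact.mk hq
  obtain ⟨g, hg⟩ := exists_prime_orderOf_dvd_card' q hqd
  obtain ⟨g, rfl⟩ := QuotientGroup.mk_surjective g
  have hgM : g ∉ M := fun hgM => by
    rw [(QuotientGroup.eq_one_iff g).2 hgM, orderOf_one] at hg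
    exact hq.one_lt.ne hg
  have htop : M ⊔ zpowers g = ⊤ := hM.2 _ (lt_of_le_of_ne le_sup_left fun e =>
    hgM (e.symm ▸ mem_sup_right (mem_zpowers g)))
  have hindex : M.index = q := by
    rw [index_eq_card, ← hg, ← Nat.card_zpowers]
    refine Nat.card_congr (Equiv.ofBijective (fun v => (⟨v, ?_⟩ : zpowers (g : G ⧸ M)))
      ⟨fun a b e => congrArg Subtype.val e, fun ⟨v, _⟩ => ⟨v, rfl⟩⟩)
    obtain ⟨v, rfl⟩ := QuotientGroup.mk_surjective v
    obtain ⟨w, hw, u, ⟨k, rfl⟩, rfl⟩ := mem_sup_of_normal_left.1 (htop ▸ mem_top v : v ∈ M ⊔ zpowers g)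
    exact ⟨k, by simp [(QuotientGroup.eq_one_iff w).2 hw]⟩
  obtain ⟨x, hx⟩ := m.exists_bad
  obtain ⟨y, hy⟩ := m.toHyp.exists_good hindex hx
  exact m.toHyp.false_of_good hindex hy

theorem center_ne_top : center G ≠ ⊤ := fun e => m.notSolvable <|
  Group.isSolvable_of_comm fun a b => mem_center_iff.1 (e ▸ mem_top b) a

/-- Proper normal subgroups are central. -/
theorem le_center {N : Subgroup G} [hN : N.Normal] (hne : N ≠ ⊤) : N ≤ center G := by
  obtain ⟨x, hx⟩ := m.exists_bad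
  by_contra hc
  have hNC : ¬ N ≤ Cn x := fun hle => by
    have h1 : x ∈ centralizer (N : Set G) := mem_centralizer_iff.2 fun y hy => (mem_Cn.1 (hle hy)).eq.symm
    haveI : (centralizer (N : Set G)).Normal := normal_centralizer
    refine hc fun y hy => mem_center_iff.2 fun g => ?_
    have h2 := m.toHyp.eq_top_of_mem hx h1
    exact (mem_centralizer_iff.1 (h2 ▸ mem_top g) y hy).symm
  have htop : N ⊔ Cn x = ⊤ := (m.toHyp.isCoatom hx).2 _
    (lt_of_le_of_ne le_sup_right fun e => hNC (e ▸ le_sup_left))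
  haveI hH : (N ⊔ zpowers x).Normal := by
    refine normalizer_eq_top_iff.1 (eq_top_iff.2 (htop ▸ sup_le ?_ ?_))
    · exact le_sup_left.trans le_normalizer
    · intro c hc'
      rw [mem_normalizer_iff_map_conj_eq, Subgroup.map_sup, MonoidHom.map_zpowers]
      congr 1
      · exact eq_of_le_of_card_ge (by rintro _ ⟨k, hk, rfl⟩; exact hN.conj_mem k hk c)
          (le_of_eq (card_map_of_injective (MulAut.conj c).injective).symm)
      · show zpowers (c * x * c⁻¹) = zpowers x
        rw [(mem_Cn.1 hc').symm.eq, mul_inv_cancel_right]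
  have h2 := m.toHyp.eq_top_of_mem hx (N := N ⊔ zpowers x) (mem_sup_right (mem_zpowers x))
  refine hne (top_le_iff.1 (m.isPerfect ▸ ?_))
  rw [commutator_def, Subgroup.commutator_le]
  intro a _ b _
  obtain ⟨u, hu, v, ⟨i, rfl⟩, rfl⟩ := mem_sup_of_normal_left.1 (h2 ▸ mem_top a : a ∈ N ⊔ zpowers x)
  obtain ⟨u', hu', v, ⟨j, rfl⟩, rfl⟩ := mem_sup_of_normal_left.1 (h2 ▸ mem_top b : b ∈ N ⊔ zpowers x)
  rw [← QuotientGroup.eq_one_iff, ← QuotientGroup.mk'_apply, map_commutatorElement, map_mul, map_mul,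
    show QuotientGroup.mk' N u = 1 from (QuotientGroup.eq_one_iff u).2 hu,
    show QuotientGroup.mk' N u' = 1 from (QuotientGroup.eq_one_iff u').2 hu', one_mul, one_mul,
    commutatorElement_eq_one_iff_mul_comm, ← map_mul, ← map_mul, (Commute.zpow_zpow (Commute.refl x) i j).eq]

theorem isSimple : IsSimpleGroup (G ⧸ center G) := by
  haveI : Nontrivial (G ⧸ center G) := by
    rw [QuotientGroup.nontrivial_iff]; exact m.center_ne_top
  refine ⟨fun N hN => ?_⟩
  haveI := hN
  by_cases he : N.comap (QuotientGroup.mk' (center G)) = ⊤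
  · right
    rw [← map_comap_eq_self_of_surjective (QuotientGroup.mk'_surjective (center G)) N, he,
      map_top_of_surjective _ (QuotientGroup.mk'_surjective _)]
  · left
    refine le_bot_iff.1 fun v hv => ?_
    obtain ⟨g, rfl⟩ := QuotientGroup.mk'_surjective (center G) v
    exact mem_bot.2 ((QuotientGroup.eq_one_iff g).2 (m.le_center he (show g ∈ N.comap _ from hv)))

/-- Elements central modulo the centre are central. -/
theorem mem_center_of_commutator {y : G} (h : ∀ g, g * y * g⁻¹ * y⁻¹ ∈ center G) : y ∈ center G := by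
  set N := (center (G ⧸ center G)).comap (QuotientGroup.mk' (center G))
  have hyN : y ∈ N := mem_comap.2 (mem_center_iff.2 fun v => by
    obtain ⟨g, rfl⟩ := QuotientGroup.mk'_surjective (center G) v
    rw [← commutatorElement_eq_one_iff_mul_comm, ← map_commutatorElement]
    exact (QuotientGroup.eq_one_iff _).2 (h g))
  refine m.le_center (fun e => m.center_ne_top (top_le_iff.1 (m.isPerfect ▸ ?_))) hyN
  rw [commutator_def, Subgroup.commutator_le]
  intro a _ b _
  rw [← QuotientGroup.eq_one_iff, ← QuotientGroup.mk'_apply, map_commutatorElement,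
    commutatorElement_eq_one_iff_mul_comm]
  exact (mem_center_iff.1 (e ▸ mem_top a : a ∈ N) _).symm

theorem not_isSolvable_quotient : ¬ Group.IsSolvable (G ⧸ center G) := fun hs => m.notSolvable <| by
  haveI : Group.IsSolvable (center G) :=
    Group.isSolvable_of_comm fun a b => Subtype.ext (mem_center_iff.1 b.2 a.1)
  exact (Group.isSolvable_iff_subgroup_quotient (center G)).2 ⟨inferInstance, hs⟩

/-- If a conjugate of a bad element differs from it by a central factor, they are equal. -/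
theorem commute_of_bad {u v : G} (hu : Bad u) (h : v * u * v⁻¹ * u⁻¹ ∈ center G) : Commute u v := by
  refine mem_Cn.1 (m.toHyp.mem_Cn_of_conj hu ?_)
  ext w
  rw [mem_Cn, mem_Cn]
  constructor <;> intro e
  · have := (center_commute (inv_mem h) w).mul_left e
    rwa [show (v * u * v⁻¹ * u⁻¹)⁻¹ * (v * u * v⁻¹) = u by group] at this
  · rw [show v * u * v⁻¹ = v * u * v⁻¹ * u⁻¹ * u by group]
    exact (center_commute h w).mul_left e

omit m in
theorem card_sylow_le_of_mem {T : Sylow 2 G} {g z : G} (hz : z ∈ (T : Subgroup G))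
    (hcz : ∀ t ∈ (T : Subgroup G), Commute z t) :
    (T : Subgroup G).map (MulAut.conj g).toMonoidHom ≤ Cn (g * z * g⁻¹) := by
  rintro _ ⟨t, ht, rfl⟩
  exact mem_Cn.2 (commute_conj_iff.2 (hcz t ht))

/-- Weak closure of a noncentral element of the centre of a nonabelian Sylow 2-subgroup. -/
theorem Cn_conj_eq : ∀ (k : ℕ) (T : Sylow 2 G) (z g : G), Bad z → z ∈ (T : Subgroup G) →
    (∀ t ∈ (T : Subgroup G), Commute z t) → (∃ a ∈ (T : Subgroup G), ∃ b ∈ (T : Subgroup G), ¬ Commute a b) →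
    g * z * g⁻¹ ∈ (T : Subgroup G) →
    Nat.card (T : Subgroup G) - Nat.card ↥((T : Subgroup G) ⊓ Cn (g * z * g⁻¹)) = k →
    Cn (g * z * g⁻¹) = Cn z := by
  intro k
  induction k using Nat.strong_induction_on with
  | _ k ih =>
  intro T z g hz hzT hcz hnab hz'T hk
  set z' := g * z * g⁻¹ with hz'
  have hzz' : Commute z z' := hcz z' hz'T
  set D := (T : Subgroup G) ⊓ Cn z' with hD
  have hz'D : z' ∈ D := ⟨hz'T, mem_Cn.2 (Commute.refl z')⟩
  have hzD : z ∈ D := ⟨hzT, mem_Cn.2 hzz'.symm⟩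
  by_cases hDab : ∀ a ∈ D, ∀ b ∈ D, Commute a b
  swap
  · push Not at hDab
    obtain ⟨a, ha, b, hb, hab⟩ := hDab
    exact (m.toHyp.Cn_eq_of_common hz (hz.conj g) hzz' (hcz a ha.1) (hcz b hb.1) (mem_Cn.1 ha.2)
      (mem_Cn.1 hb.2) hab).symm
  have hDne : ¬ (T : Subgroup G) ≤ D := fun hle => by
    obtain ⟨a, ha, b, hb, hab⟩ := hnab
    exact hab (hDab a (hle ha) b (hle hb))
  set H := normalizer (D : Set G) with hH
  have hHtop : H ≠ ⊤ := fun e => by
    haveI : D.Normal := normalizer_eq_top_iff.1 e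
    exact (hz.conj g).1 (m.le_center (fun e' => hDne (le_top.trans e'.ge)) hz'D)
  -- an element of `T` normalising `D` and moving `z'`
  obtain ⟨p, hpT, hpH, hpD⟩ : ∃ p ∈ (T : Subgroup G), p ∈ H ∧ p ∉ D := by
    haveI := T.2.isNilpotent
    have hlt : D.subgroupOf (T : Subgroup G) < ⊤ := lt_top_iff_ne_top.2 fun e => hDne (subgroupOf_eq_top.1 e)
    obtain ⟨p, hp1, hp2⟩ := SetLike.exists_of_lt (Group.normalizerCondition_of_isNilpotent _ hlt)
    refine ⟨p, p.2, ?_, hp2⟩
    rw [mem_normalizer_iff_map_conj_eq]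
    refine eq_of_le_of_card_ge ?_ (le_of_eq (card_map_of_injective (MulAut.conj (p : G)).injective).symm)
    rintro _ ⟨d, hd, rfl⟩
    exact (mem_normalizer_iff.1 hp1 ⟨d, hd.1⟩).1 hd
  have hHz : H ≤ Cn z := m.toHyp.le_Cn hHtop (le_normalizer hzD) (le_normalizer hz'D) hpH hzz'
    (hcz p hpT) fun e => hpD ⟨hpT, mem_Cn.2 e⟩
  -- a Sylow subgroup of `Cn z'` above `D`
  haveI : Fact (Nat.Prime 2) := ⟨Nat.prime_two⟩
  obtain ⟨P, hP⟩ := ((T.2.to_le inf_le_left : IsPGroup 2 D).comap_of_injective (Cn z').subtype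
    (Cn z').subtype_injective).exists_le_sylow
  set P' := (P : Subgroup (Cn z')).map (Cn z').subtype with hP'
  have hP'p : IsPGroup 2 P' := P.2.map _
  have hDP : D ≤ P' := fun d hd => ⟨⟨d, hd.2⟩, hP hd, rfl⟩
  have hcard : Nat.card (T : Subgroup G) ≤ Nat.card P' := by
    have hle := card_sylow_le_of_mem (g := g) hzT hcz
    obtain ⟨Q, hQ⟩ := ((T.2.map (MulAut.conj g).toMonoidHom).comap_of_injective (Cn z').subtype
      (Cn z').subtype_injective).exists_le_sylow
    rw [hP', Nat.card_congr ((P : Subgroup (Cn z')).equivMapOfInjective _ (Cn z').subtype_injective).symm.toEquiv,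
      P.card_eq_multiplicity, ← Q.card_eq_multiplicity,
      Nat.card_congr ((T : Subgroup G).equivMapOfInjective (MulAut.conj g).toMonoidHom
        (MulAut.conj g).injective).toEquiv, ← Nat.card_congr (subgroupOfEquivOfLe hle).toEquiv]
    exact card_le_of_le hQ
  have hDlt : D < P' := lt_of_le_of_ne hDP fun e => by
    have h1 : Nat.card D < Nat.card (T : Subgroup G) := lt_of_le_of_ne (card_le_of_le inf_le_left)
      fun he => hDne (eq_of_le_of_card_ge inf_le_left he.ge).ge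
    rw [e] at h1
    omega
  obtain ⟨p', hp'P, hp'H, hp'D⟩ : ∃ p ∈ P', p ∈ H ∧ p ∉ D := by
    haveI := hP'p.isNilpotent
    have hlt : D.subgroupOf P' < ⊤ := lt_top_iff_ne_top.2 fun e => hDlt.not_ge (subgroupOf_eq_top.1 e)
    obtain ⟨p, hp1, hp2⟩ := SetLike.exists_of_lt (Group.normalizerCondition_of_isNilpotent _ hlt)
    refine ⟨p, p.2, ?_, hp2⟩
    rw [mem_normalizer_iff_map_conj_eq]
    refine eq_of_le_of_card_ge ?_ (le_of_eq (card_map_of_injective (MulAut.conj (p : G)).injective).symm)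
    rintro _ ⟨d, hd, rfl⟩
    exact (mem_normalizer_iff.1 hp1 ⟨d, hDP hd⟩).1 hd
  -- a Sylow subgroup of `Cn z` above `P' ⊓ H`
  obtain ⟨T₁, hT₁le, hT₁⟩ : ∃ T₁ : Sylow 2 G, (T₁ : Subgroup G) ≤ Cn z ∧ P' ⊓ H ≤ T₁ := by
    obtain ⟨R, hR⟩ := ((hP'p.to_le inf_le_left : IsPGroup 2 (P' ⊓ H : Subgroup G)).comap_of_injective
      (Cn z).subtype (Cn z).subtype_injective).exists_le_sylow
    obtain ⟨Q, hQ⟩ := (T.2.comap_of_injective (Cn z).subtype (Cn z).subtype_injective).exists_le_sylow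
    have hTC : (T : Subgroup G) ≤ Cn z := fun t ht => mem_Cn.2 (hcz t ht)
    have hcardR : Nat.card ((R : Subgroup (Cn z)).map (Cn z).subtype) ≥ Nat.card (T : Subgroup G) := by
      rw [card_map_of_injective (Cn z).subtype_injective, R.card_eq_multiplicity, ← Q.card_eq_multiplicity,
        ← Nat.card_congr (subgroupOfEquivOfLe hTC).toEquiv]
      exact card_le_of_le hQ
    obtain ⟨T₂, hT₂⟩ := (R.2.map (Cn z).subtype).exists_le_sylow
    have heq := eq_of_le_of_card_ge hT₂ (by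
      rw [T₂.card_eq_multiplicity, ← T.card_eq_multiplicity]; exact hcardR)
    refine ⟨T₂, heq ▸ map_subtype_le _, fun d hd => heq ▸ ?_⟩
    exact ⟨⟨d, hHz hd.2⟩, hR hd, rfl⟩
  have hcz₁ : ∀ t ∈ (T₁ : Subgroup G), Commute z t := fun t ht => mem_Cn.1 (hT₁le ht)
  have hzT₁ : z ∈ (T₁ : Subgroup G) := hT₁ ⟨hDP hzD, le_normalizer hzD⟩
  have hz'T₁ : z' ∈ (T₁ : Subgroup G) := hT₁ ⟨hDP hz'D, le_normalizer hz'D⟩
  have hnab₁ : ∃ a ∈ (T₁ : Subgroup G), ∃ b ∈ (T₁ : Subgroup G), ¬ Commute a b := by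
    obtain ⟨c, hc⟩ := MulAction.exists_smul_eq G T T₁
    obtain ⟨a, ha, b, hb, hab⟩ := hnab
    have hmem : ∀ t ∈ (T : Subgroup G), c * t * c⁻¹ ∈ (T₁ : Subgroup G) := fun t ht => by
      rw [← hc, Sylow.coe_subgroup_smul, ← MulAut.conj_apply]
      exact smul_mem_pointwise_smul t _ _ ht
    exact ⟨_, hmem a ha, _, hmem b hb, fun e => hab (commute_conj_iff.1 e)⟩
  refine ih _ ?_ T₁ z g hz hzT₁ hcz₁ hnab₁ hz'T₁ rfl
  have h1 : Nat.card D < Nat.card ↥((T₁ : Subgroup G) ⊓ Cn z') := by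
    have hle : D ≤ (T₁ : Subgroup G) ⊓ Cn z' := fun d hd =>
      ⟨hT₁ ⟨hDP hd, le_normalizer hd⟩, hd.2⟩
    refine lt_of_le_of_ne (card_le_of_le hle) fun he => hp'D ?_
    rw [eq_of_le_of_card_ge hle he.ge]
    exact ⟨hT₁ ⟨hp'P, hp'H⟩, map_subtype_le _ hp'P⟩
  have h2 : Nat.card (T₁ : Subgroup G) = Nat.card (T : Subgroup G) := by
    rw [T₁.card_eq_multiplicity, T.card_eq_multiplicity]
  have h3 : Nat.card ↥((T₁ : Subgroup G) ⊓ Cn z') ≤ Nat.card (T₁ : Subgroup G) := card_le_of_le inf_le_left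
  have h4 : Nat.card ↥((T₁ : Subgroup G) ⊓ Cn (g * z * g⁻¹)) = Nat.card ↥((T₁ : Subgroup G) ⊓ Cn z') := rfl
  rw [← hk]
  omega

/-- The centre of a nonabelian Sylow 2-subgroup is central. -/
theorem mem_center_of_sylow {T : Sylow 2 G}
    (hnab : ∃ a ∈ (T : Subgroup G), ∃ b ∈ (T : Subgroup G), ¬ Commute a b) {z : G}
    (hzT : z ∈ (T : Subgroup G)) (hcz : ∀ t ∈ (T : Subgroup G), Commute z t) : z ∈ center G := by
  classical
  haveI : Fact (Nat.Prime 2) := ⟨Nat.prime_two⟩
  by_contra hzc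
  obtain ⟨w, hwT, hcw, hwc, hw2⟩ : ∃ w, w ∈ (T : Subgroup G) ∧ (∀ t ∈ (T : Subgroup G), Commute w t) ∧
      w ∉ center G ∧ w ^ 2 ∈ center G := by
    have hex : ∃ k, z ^ (2 ^ k) ∈ center G := by
      obtain ⟨k, hk⟩ := T.2 ⟨z, hzT⟩
      exact ⟨k, by rw [show z ^ 2 ^ k = 1 from congrArg Subtype.val hk]; exact one_mem _⟩
    obtain ⟨j, hj⟩ : ∃ j, Nat.find hex = j + 1 := Nat.exists_eq_succ_of_ne_zero fun e => hzc (by
      have := Nat.find_spec hex
      rwa [e, pow_zero, pow_one] at this)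
    refine ⟨z ^ (2 ^ j), pow_mem hzT _, fun t ht => (hcz t ht).pow_left _, Nat.find_min hex (by omega), ?_⟩
    have := Nat.find_spec hex
    rwa [hj, pow_succ, pow_mul] at this
  obtain ⟨a, ha, b, hb, hab⟩ := hnab
  have hbad : Bad w := ⟨hwc, a, b, hcw a ha, hcw b hb, hab⟩
  have hfix : ∀ g, g * w * g⁻¹ ∈ (T : Subgroup G) → g * w * g⁻¹ = w := fun g hg => by
    have h1 := m.Cn_conj_eq _ T w g hbad hwT hcw ⟨a, ha, b, hb, hab⟩ hg rfl
    have h2 := m.toHyp.mem_Cn_of_conj hbad h1
    rw [(mem_Cn.1 h2).symm.eq, mul_inv_cancel_right]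
  set π := QuotientGroup.mk' (center G) with hπ
  haveI := m.isSimple
  set Tq : Sylow 2 (G ⧸ center G) := T.mapSurjective (QuotientGroup.mk'_surjective _)
  have hTq : (Tq : Subgroup (G ⧸ center G)) = (T : Subgroup G).map π := Sylow.coe_mapSurjective _ _
  have hord : orderOf (π w) = 2 := orderOf_eq_prime
    (by rw [← map_pow]; exact (QuotientGroup.eq_one_iff _).2 hw2) fun e => hwc ((QuotientGroup.eq_one_iff w).1 e)
  have hiso : IsIsolatedInvolution (π w) := by
    refine ZStar.isolated_of_sylow (P := Tq) hord (hTq ▸ mem_map_of_mem π hwT : π w ∈ (Tq : Subgroup _)) ?_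
    intro v hv
    obtain ⟨g, rfl⟩ := QuotientGroup.mk'_surjective (center G) v
    rw [← map_inv, ← map_mul, ← map_mul] at hv ⊢
    have hv' : π (g * w * g⁻¹) ∈ (T : Subgroup G).map π := hTq ▸ hv
    obtain ⟨t, ht, hte⟩ := hv'
    have hz : t⁻¹ * (g * w * g⁻¹) ∈ center G := QuotientGroup.eq.1 hte
    have hmemT : g * w * g⁻¹ ∈ (T : Subgroup G) := by
      refine mem_sylow_of_normalizing T ?_ ?_
      · have h2 : IsPGroup 2 (zpowers w) := T.2.to_le (zpowers_le.2 hwT)
        have := h2.map (MulAut.conj g).toMonoidHom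
        rwa [MonoidHom.map_zpowers] at this
      · rw [show g * w * g⁻¹ = t * (t⁻¹ * (g * w * g⁻¹)) by group]
        refine mul_mem (le_normalizer ht) (mem_normalizer_iff.2 fun v => ?_)
        rw [(center_commute hz v).eq, mul_inv_cancel_right]
    rw [hfix g hmemT]
  have hO : Cfsg.oddCore (G ⧸ center G) = ⊥ := by
    rcases (inferInstance : (Cfsg.oddCore (G ⧸ center G)).Normal).eq_bot_or_eq_top with e | e
    · exact e
    refine absurd (S0205.result ?_) m.not_isSolvable_quotient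
    have := PCore.odd_card_oddCore (G := G ⧸ center G)
    rwa [e, card_top] at this
  have hcen := ZStar.mem_center_of_oddCore_eq_bot (ZStar.inZStar hiso) hO
  exact hwc (m.mem_center_of_commutator fun g => (QuotientGroup.eq_one_iff _).1 (by
    show π (g * w * g⁻¹ * w⁻¹) = 1
    rw [map_mul, map_mul, map_mul, map_inv, map_inv, mem_center_iff.1 hcen (π g), mul_inv_cancel_right,
      mul_inv_cancel]))

end MNC

end Cfsg.Agent.MinNonCA
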